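import Mathlib
import Cfsg.Prelude.Def_Local
import Cfsg.Agent.Lib.Lead.Cores

/-!
# p-constrained groups

Elementary theory of `Cfsg.IsPConstrained`.
-/

set_option autoImplicit false

namespace Cfsg.Agent.Lib.Helper54

open Cfsg Cfsg.Agent.Lib.Lead Subgroup

/-- `C_G(O_p(G)) ≤ O_p(G)` ("characteristic `p`"). -/
def SelfCentPCore (p : ℕ) (G : Type*) [Group G] : Prop :=
  centralizer (pCore p G : Set G) ≤ pCore p G

section basic

variable {G : Type*} [Group G] {p : ℕ}

/-- A finite group all of whose `p'`-elements are trivial is a `p`-group. -/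
theorem isPGroup_of_coprime_trivial [Finite G] [hp : Fact p.Prime]
    (h : ∀ d : G, (orderOf d).Coprime p → d = 1) : IsPGroup p G := by
  have hcard : Nat.card G ≠ 0 := Nat.card_pos.ne'
  have huniq : ∀ {q : ℕ}, q.Prime → q ∣ Nat.card G → q = p := by
    intro q hq hdvd
    by_contra hne
    have : Fact q.Prime := ⟨hq⟩
    obtain ⟨d, hd⟩ := exists_prime_orderOf_dvd_card' q hdvd
    have h1 := h d (by rw [hd]; exact (Nat.coprime_primes hq hp.out).2 hne)
    rw [h1, orderOf_one] at hd
    exact hq.one_lt.ne hd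
  have := Nat.eq_prime_pow_of_unique_prime_dvd hcard huniq
  exact IsPGroup.of_card this

/-- an element which is both a `p`-element and a `p'`-element is trivial. -/
theorem eq_one_of_pow_of_coprime {x : G} {k m : ℕ} (h1 : x ^ p ^ k = 1) (h2 : x ^ m = 1)
    (hm : m.Coprime p) : x = 1 := by
  have d1 := orderOf_dvd_of_pow_eq_one h1
  have d2 := orderOf_dvd_of_pow_eq_one h2
  have : (orderOf x) ∣ Nat.gcd m (p ^ k) := Nat.dvd_gcd d2 d1
  rw [Nat.Coprime.pow_right k hm] at this
  exact orderOf_eq_one_iff.1 (Nat.dvd_one.1 this)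

theorem conj_pow_of_conj_eq_mul {d g e : G} (h : d * g * d⁻¹ = g * e) (he : d * e * d⁻¹ = e) (k : ℕ) :
    d ^ k * g * (d ^ k)⁻¹ = g * e ^ k := by
  induction k with
  | zero => simp
  | succ k ih =>
    have he' : d * e ^ k * d⁻¹ = e ^ k := by rw [← conj_pow, he]
    calc d ^ (k + 1) * g * (d ^ (k + 1))⁻¹ = d * (d ^ k * g * (d ^ k)⁻¹) * d⁻¹ := by
          rw [pow_succ']; group
      _ = d * (g * e ^ k) * d⁻¹ := by rw [ih]
      _ = (d * g * d⁻¹) * (d * e ^ k * d⁻¹) := by group
      _ = g * e ^ (k + 1) := by rw [h, he', pow_succ', mul_assoc]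

/-- A `p'`-element `d` with `d g d⁻¹ = g e`, `e` a `p`-element fixed by `d`, centralises `g`. -/
theorem commute_of_conj_eq_mul {d g e : G} (h : d * g * d⁻¹ = g * e) (he : d * e * d⁻¹ = e)
    (hd : (orderOf d).Coprime p) {k : ℕ} (hek : e ^ p ^ k = 1) : d * g * d⁻¹ = g := by
  have h1 := conj_pow_of_conj_eq_mul h he (orderOf d)
  rw [pow_orderOf_eq_one] at h1
  have h2 : e ^ orderOf d = 1 := by simpa using h1.symm
  rw [h, eq_one_of_pow_of_coprime hek h2 hd, mul_one]

/-- Let `P` be a finite `p`-subgroup normalised by the `p'`-element `d`. If every element of `P`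
centralising `C_P(d)` is itself fixed by `d`, then `d` centralises `P`. -/
theorem centralizes_of_self_centralizing [Finite G] [Fact p.Prime] (P : Subgroup G)
    (hP : IsPGroup p P) (d : G) (hdP : ∀ g ∈ P, d * g * d⁻¹ ∈ P) (hd : (orderOf d).Coprime p)
    (hC : ∀ g ∈ P, (∀ c ∈ P, d * c * d⁻¹ = c → g * c = c * g) → d * g * d⁻¹ = g) :
    ∀ g ∈ P, d * g * d⁻¹ = g := by
  -- the fixed points of `d` in `P`
  let C : Subgroup G :=
    { carrier := {g | g ∈ P ∧ d * g * d⁻¹ = g}
      mul_mem' := by
        rintro a b ⟨ha, ha'⟩ ⟨hb, hb'⟩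
        refine ⟨P.mul_mem ha hb, ?_⟩
        calc d * (a * b) * d⁻¹ = (d * a * d⁻¹) * (d * b * d⁻¹) := by group
          _ = a * b := by rw [ha', hb']
      one_mem' := ⟨P.one_mem, by simp⟩
      inv_mem' := by
        rintro a ⟨ha, ha'⟩
        refine ⟨P.inv_mem ha, ?_⟩
        calc d * a⁻¹ * d⁻¹ = (d * a * d⁻¹)⁻¹ := by group
          _ = a⁻¹ := by rw [ha'] }
  have hCmem : ∀ g, g ∈ C ↔ g ∈ P ∧ d * g * d⁻¹ = g := fun g => Iff.rfl
  by_contra hcon
  push Not at hcon
  obtain ⟨g₀, hg₀P, hg₀⟩ := hcon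
  have hnil : Group.IsNilpotent P := hP.isNilpotent
  have hnc : NormalizerCondition P := Group.normalizerCondition_of_isNilpotent
  have hlt : C.subgroupOf P < ⊤ := by
    rw [lt_top_iff_ne_top]
    intro htop
    have : (⟨g₀, hg₀P⟩ : P) ∈ C.subgroupOf P := htop ▸ mem_top _
    rw [mem_subgroupOf] at this
    exact hg₀ this.2
  have hlt2 := hnc _ hlt
  obtain ⟨g, hgN, hgC⟩ := SetLike.exists_of_lt hlt2
  apply hgC
  rw [mem_subgroupOf, hCmem]
  refine ⟨g.2, ?_⟩
  have hconj : ∀ c ∈ C, (g : G) * c * (g : G)⁻¹ ∈ C := by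
    intro c hc
    have h1 := (mem_normalizer_iff.1 hgN ⟨c, hc.1⟩).1 (by rw [mem_subgroupOf]; exact hc)
    rw [mem_subgroupOf] at h1
    simpa using h1
  set e : G := (g : G)⁻¹ * (d * (g : G) * d⁻¹) with he
  have heP : e ∈ P := P.mul_mem (P.inv_mem g.2) (hdP _ g.2)
  have hefix : d * e * d⁻¹ = e := by
    apply hC e heP
    intro c hcP hc
    have h1 : d * ((g : G) * c * (g : G)⁻¹) * d⁻¹ = (g : G) * c * (g : G)⁻¹ := (hconj c ⟨hcP, hc⟩).2
    have h2 : (d * (g : G) * d⁻¹) * c * (d * (g : G) * d⁻¹)⁻¹ = (g : G) * c * (g : G)⁻¹ := by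
      calc (d * (g : G) * d⁻¹) * c * (d * (g : G) * d⁻¹)⁻¹
          = (d * (g : G) * d⁻¹) * (d * c * d⁻¹) * (d * (g : G) * d⁻¹)⁻¹ := by rw [hc]
        _ = d * ((g : G) * c * (g : G)⁻¹) * d⁻¹ := by group
        _ = _ := h1
    have h3 : (d * (g : G) * d⁻¹) * c = (g : G) * c * (g : G)⁻¹ * (d * (g : G) * d⁻¹) :=
      mul_inv_eq_iff_eq_mul.1 h2
    calc e * c = (g : G)⁻¹ * ((d * (g : G) * d⁻¹) * c) := by rw [he]; group
      _ = (g : G)⁻¹ * ((g : G) * c * (g : G)⁻¹ * (d * (g : G) * d⁻¹)) := by rw [h3]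
      _ = c * e := by rw [he]; group
  obtain ⟨k, hk⟩ := hP ⟨e, heP⟩
  have hk' : e ^ p ^ k = 1 := congrArg Subtype.val hk
  exact commute_of_conj_eq_mul (e := e) (by rw [he]; group) hefix hd hk'

end basic

section selfcent

variable {G : Type*} [Group G] {p : ℕ}

theorem SelfCentPCore.of_mulEquiv {H : Type*} [Group H] (e : G ≃* H) (hG : SelfCentPCore p G) :
    SelfCentPCore p H := by
  intro h hh
  have h1 : e.symm h ∈ centralizer (pCore p G : Set G) := by
    rw [mem_centralizer_iff]
    intro g hg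
    have hg' : e g ∈ pCore p H := by
      rw [← pCore_map_equiv e]; exact ⟨g, hg, rfl⟩
    have := (mem_centralizer_iff.1 hh) (e g) hg'
    apply e.injective
    simpa using this
  have h2 := hG h1
  rw [← pCore_map_equiv e]
  exact ⟨e.symm h, h2, by simp⟩

/-- To prove `SelfCentPCore` it suffices to treat `p'`-elements. -/
theorem selfCentPCore_of_coprime [Finite G] [Fact p.Prime]
    (h : ∀ d : G, (orderOf d).Coprime p → (∀ g ∈ pCore p G, d * g * d⁻¹ = g) → d = 1) :
    SelfCentPCore p G := by
  have hn : (centralizer (pCore p G : Set G)).Normal := inferInstance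
  apply le_pCore hn
  apply isPGroup_of_coprime_trivial
  intro d hd
  apply Subtype.ext
  apply h d (by rwa [Subgroup.orderOf_coe])
  intro g hg
  have := (mem_centralizer_iff.1 d.2) g hg
  rw [← this]; group

/-- A `p'`-element centralising `O_p(G)` is trivial. -/
theorem SelfCentPCore.eq_one (hG : SelfCentPCore p G) {d : G} (hd : (orderOf d).Coprime p)
    (h : ∀ g ∈ pCore p G, d * g * d⁻¹ = g) : d = 1 := by
  have h1 : d ∈ centralizer (pCore p G : Set G) := by
    rw [mem_centralizer_iff]
    intro g hg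
    have := h g hg
    exact (mul_inv_eq_iff_eq_mul.1 this).symm
  obtain ⟨k, hk⟩ := (pCore_isPGroup p G) ⟨d, hG h1⟩
  have hk' : d ^ p ^ k = 1 := congrArg Subtype.val hk
  exact eq_one_of_pow_of_coprime hk' (pow_orderOf_eq_one d) hd

/-- normal subgroups inherit the property. -/
theorem SelfCentPCore.of_normal [Finite G] [Fact p.Prime] (hG : SelfCentPCore p G)
    (K : Subgroup G) [hK : K.Normal] : SelfCentPCore p ↥K := by
  apply selfCentPCore_of_coprime
  intro d hd hcent
  apply Subtype.ext
  apply hG.eq_one (by rwa [Subgroup.orderOf_coe])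
  intro r hr
  have hsub : (pCore p G).subgroupOf K ≤ pCore p K :=
    le_pCore inferInstance ((pCore_isPGroup p G).comap_of_injective K.subtype K.subtype_injective)
  set e : G := r⁻¹ * ((d : G) * r * (d : G)⁻¹) with he
  have heR : e ∈ pCore p G :=
    mul_mem (inv_mem hr) ((pCore_normal p G).conj_mem r hr d)
  have heK : e ∈ K := by
    have : e = (r⁻¹ * (d : G) * r⁻¹⁻¹) * (d : G)⁻¹ := by rw [he]; group
    rw [this]
    exact mul_mem (hK.conj_mem _ d.2 _) (inv_mem d.2)
  have hefix : (d : G) * e * (d : G)⁻¹ = e := by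
    have := hcent ⟨e, heK⟩ (hsub (by rw [mem_subgroupOf]; exact heR))
    exact congrArg Subtype.val this
  obtain ⟨k, hk⟩ := (pCore_isPGroup p G) ⟨e, heR⟩
  have hk' : e ^ p ^ k = 1 := congrArg Subtype.val hk
  exact commute_of_conj_eq_mul (e := e) (by rw [he]; group) hefix
    (by rwa [Subgroup.orderOf_coe]) hk'

/-- normalisers of `p`-subgroups inherit the property. -/
theorem SelfCentPCore.normalizer [Finite G] [Fact p.Prime] (hG : SelfCentPCore p G)
    (T : Subgroup G) (hT : IsPGroup p T) : SelfCentPCore p ↥(Subgroup.normalizer (T : Set G)) := by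
  set N := Subgroup.normalizer (T : Set G) with hN
  apply selfCentPCore_of_coprime
  intro d hd hcent
  apply Subtype.ext
  have hd' : (orderOf (d : G)).Coprime p := by rwa [Subgroup.orderOf_coe]
  apply hG.eq_one hd'
  set P := pCore p G ⊔ T with hPdef
  have hPp : IsPGroup p P := (pCore_isPGroup p G).to_sup_of_normal_left hT
  have hnormP : ∀ n ∈ N, ∀ g ∈ P, n * g * n⁻¹ ∈ P := by
    intro n hn g hg
    obtain ⟨q, hq, t, ht, rfl⟩ := mem_sup_of_normal_left.1 hg
    have : n * (q * t) * n⁻¹ = (n * q * n⁻¹) * (n * t * n⁻¹) := by group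
    rw [this]
    exact mul_mem (mem_sup_left ((pCore_normal p G).conj_mem q hq n))
      (mem_sup_right ((mem_normalizer_iff.1 hn t).1 ht))
  have hPN : (P.subgroupOf N).Normal := by
    constructor
    intro g hg n
    rw [mem_subgroupOf] at hg ⊢
    simpa using hnormP n n.2 g hg
  have hsub : P.subgroupOf N ≤ pCore p N :=
    le_pCore hPN (hPp.comap_of_injective N.subtype N.subtype_injective)
  have hfix : ∀ g ∈ P, g ∈ N → (d : G) * g * (d : G)⁻¹ = g := by
    intro g hgP hgN
    have := hcent ⟨g, hgN⟩ (hsub (by rw [mem_subgroupOf]; exact hgP))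
    exact congrArg Subtype.val this
  have hall := centralizes_of_self_centralizing P hPp (d : G) (hnormP d d.2) hd' (by
    intro g hgP hg
    apply hfix g hgP
    rw [hN, mem_normalizer_iff]
    intro t
    have key : ∀ t ∈ T, g * t * g⁻¹ = t := by
      intro t ht
      have h1 := hg t (mem_sup_right ht) (hfix t (mem_sup_right ht) (le_normalizer ht))
      rw [h1]; group
    constructor
    · intro ht
      rw [key t ht]; exact ht
    · intro ht
      have h2 := key _ ht
      have h3 : g * t * g⁻¹ = t := by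
        have : g * (g * t * g⁻¹) * g⁻¹ = g * t * g⁻¹ := h2
        have h4 := mul_left_cancel (mul_right_cancel this)
        exact h4
      rw [← h3]; exact ht)
  intro g hg
  exact hall g (mem_sup_left hg)

theorem SelfCentPCore.pPrimeCore_eq_bot [Finite G] [Fact p.Prime] (hG : SelfCentPCore p G) :
    pPrimeCore p G = ⊥ := by
  have h1 : pPrimeCore p G ≤ centralizer (pCore p G : Set G) := by
    intro w hw
    rw [mem_centralizer_iff]
    intro q hq
    have h2 : q * w * q⁻¹ * w⁻¹ ∈ pCore p G ⊓ pPrimeCore p G := by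
      rw [mem_inf]
      refine ⟨?_, ?_⟩
      · have : q * w * q⁻¹ * w⁻¹ = q * (w * q⁻¹ * w⁻¹) := by group
        rw [this]
        exact mul_mem hq ((pCore_normal p G).conj_mem _ (inv_mem hq) w)
      · exact mul_mem ((pPrimeCore_normal p G).conj_mem _ hw q) (inv_mem hw)
    rw [pCore_inf_pPrimeCore, mem_bot] at h2
    have h3 := mul_inv_eq_one.1 h2
    exact mul_inv_eq_iff_eq_mul.1 h3
  have h2 : pPrimeCore p G ≤ pCore p G ⊓ pPrimeCore p G := le_inf (h1.trans hG) le_rfl
  rwa [pCore_inf_pPrimeCore, le_bot_iff] at h2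

end selfcent

section pconstrained

variable {G : Type*} [Group G] {p : ℕ}

instance pPrimePCore_normal (p : ℕ) (G : Type*) [Group G] : (pPrimePCore p G).Normal := by
  unfold pPrimePCore; infer_instance

theorem pPrimeCore_le_pPrimePCore (p : ℕ) (G : Type*) [Group G] :
    pPrimeCore p G ≤ pPrimePCore p G := by
  intro g hg
  change (QuotientGroup.mk' (pPrimeCore p G)) g ∈ pCore p (G ⧸ pPrimeCore p G)
  have : (QuotientGroup.mk' (pPrimeCore p G)) g = 1 := (QuotientGroup.eq_one_iff g).2 hg
  rw [this]; exact one_mem _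

variable {K : Type*} [Group K]

/-- `O_{p',p}(G)` is the preimage of `O_p(K)` under a surjection `G → K` with kernel `O_{p'}(G)`. -/
theorem comap_pCore_eq_pPrimePCore (f : G →* K) (hf : Function.Surjective f)
    (hker : f.ker = pPrimeCore p G) : (pCore p K).comap f = pPrimePCore p G := by
  apply le_antisymm
  · have hn : (((pCore p K).comap f).map (QuotientGroup.mk' (pPrimeCore p G))).Normal :=
      Normal.map inferInstance _ (QuotientGroup.mk'_surjective _)
    have hp : IsPGroup p (((pCore p K).comap f).map (QuotientGroup.mk' (pPrimeCore p G))) := by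
      rintro ⟨y, x, hx, rfl⟩
      obtain ⟨k, hk⟩ := (pCore_isPGroup p K) ⟨f x, hx⟩
      refine ⟨k, Subtype.ext ?_⟩
      have hk' : f x ^ p ^ k = 1 := congrArg Subtype.val hk
      have : x ^ p ^ k ∈ pPrimeCore p G := by
        rw [← hker, MonoidHom.mem_ker, map_pow, hk']
      change (QuotientGroup.mk' (pPrimeCore p G)) x ^ p ^ k = 1
      rw [← map_pow]
      exact (QuotientGroup.eq_one_iff _).2 this
    intro x hx
    exact le_pCore hn hp ⟨x, hx, rfl⟩
  · have hn : ((pPrimePCore p G).map f).Normal := Normal.map inferInstance _ hf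
    have hp : IsPGroup p ((pPrimePCore p G).map f) := by
      rintro ⟨y, x, hx, rfl⟩
      obtain ⟨k, hk⟩ := (pCore_isPGroup p (G ⧸ pPrimeCore p G)) ⟨_, hx⟩
      refine ⟨k, Subtype.ext ?_⟩
      have hk' : (QuotientGroup.mk' (pPrimeCore p G)) x ^ p ^ k = 1 := congrArg Subtype.val hk
      rw [← map_pow] at hk'
      have : x ^ p ^ k ∈ f.ker := by
        rw [hker]; exact (QuotientGroup.eq_one_iff _).1 hk'
      change f x ^ p ^ k = 1
      rw [← map_pow]; exact this
    intro x hx
    exact le_pCore hn hp ⟨x, hx, rfl⟩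

/-- A Sylow `p`-subgroup of `O_{p',p}(G)` maps onto `O_p(K)`. -/
theorem exists_mem_sylow_map_eq [Finite G] [Fact p.Prime] (f : G →* K)
    (hf : Function.Surjective f) (hker : f.ker = pPrimeCore p G)
    (P : Sylow p ↥(pPrimePCore p G)) {k : K} (hk : k ∈ pCore p K) :
    ∃ x ∈ (P : Subgroup ↥(pPrimePCore p G)).map (pPrimePCore p G).subtype, f x = k := by
  have hV := comap_pCore_eq_pPrimePCore f hf hker
  let fV : ↥(pPrimePCore p G) →* ↥(pCore p K) :=
    (f.comp (pPrimePCore p G).subtype).codRestrict (pCore p K) (by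
      intro x
      have : (x : G) ∈ (pCore p K).comap f := by rw [hV]; exact x.2
      exact this)
  have hsurj : Function.Surjective fV := by
    rintro ⟨y, hy⟩
    obtain ⟨g, rfl⟩ := hf y
    have : g ∈ pPrimePCore p G := by rw [← hV]; exact hy
    exact ⟨⟨g, this⟩, rfl⟩
  have htop : ((P.mapSurjective hsurj : Sylow p ↥(pCore p K)) : Subgroup ↥(pCore p K)) = ⊤ := by
    have hpt : IsPGroup p (⊤ : Subgroup ↥(pCore p K)) :=
      (pCore_isPGroup p K).to_subgroup ⊤
    exact ((P.mapSurjective hsurj).3 hpt le_top).symm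
  have hmem : (⟨k, hk⟩ : ↥(pCore p K)) ∈
      ((P.mapSurjective hsurj : Sylow p ↥(pCore p K)) : Subgroup ↥(pCore p K)) := htop ▸ mem_top _
  rw [Sylow.coe_mapSurjective] at hmem
  obtain ⟨x, hx, hxk⟩ := hmem
  exact ⟨x, ⟨x, hx, rfl⟩, congrArg Subtype.val hxk⟩

/-- Main characterisation of `p`-constraint. -/
theorem isPConstrained_iff_of_surjective [Finite G] [Fact p.Prime] (f : G →* K)
    (hf : Function.Surjective f) (hker : f.ker = pPrimeCore p G) :
    IsPConstrained p G ↔ SelfCentPCore p K := by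
  have hV := comap_pCore_eq_pPrimePCore f hf hker
  constructor
  · intro hG k₀ hk₀
    obtain ⟨g, rfl⟩ := hf k₀
    let P : Sylow p ↥(pPrimePCore p G) := default
    set P' := (P : Subgroup ↥(pPrimePCore p G)).map (pPrimePCore p G).subtype with hP'
    have hfr := Sylow.normalizer_sup_eq_top P
    have hg : g ∈ normalizer ((P : Subgroup ↥(pPrimePCore p G)).map (pPrimePCore p G).subtype : Set G)
        ⊔ pPrimePCore p G := hfr ▸ mem_top g
    obtain ⟨n, hn, v, hv, rfl⟩ := mem_sup_of_normal_right.1 hg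
    have hfv : f v ∈ pCore p K := by
      have : v ∈ (pCore p K).comap f := by rw [hV]; exact hv
      exact this
    obtain ⟨x, hx, hxv⟩ := exists_mem_sylow_map_eq f hf hker P hfv
    -- `h = n * x` normalises `P'` and has the same image as `n * v`
    set h := n * x with hh
    have hhN : h ∈ normalizer (P' : Set G) := mul_mem hn (le_normalizer hx)
    have hfh : f h = f (n * v) := by rw [hh, map_mul, map_mul, hxv]
    have hP'p : IsPGroup p P' := P.2.map _
    have hcent : h ∈ centralizer (P' : Set G) := by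
      rw [mem_centralizer_iff]
      intro y hy
      have hyV : y ∈ pPrimePCore p G := by
        obtain ⟨y', -, rfl⟩ := hy
        exact y'.2
      have hfy : f y ∈ pCore p K := by
        have : y ∈ (pCore p K).comap f := by rw [hV]; exact hyV
        exact this
      set c := h * y * h⁻¹ * y⁻¹ with hc
      have hcP : c ∈ P' := mul_mem ((mem_normalizer_iff.1 hhN y).1 hy) (inv_mem hy)
      have hcW : c ∈ pPrimeCore p G := by
        rw [← hker, MonoidHom.mem_ker, hc]
        simp only [map_mul, map_inv]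
        rw [hfh]
        have := (mem_centralizer_iff.1 hk₀) (f y) hfy
        rw [← this]; group
      obtain ⟨k, hk⟩ := hP'p ⟨c, hcP⟩
      have hk' : c ^ p ^ k = 1 := congrArg Subtype.val hk
      have hcW' : c ^ Nat.card (pPrimeCore p G) = 1 := by
        have := pow_card_eq_one' (G := pPrimeCore p G) (x := ⟨c, hcW⟩)
        exact congrArg Subtype.val this
      have hc1 : c = 1 := eq_one_of_pow_of_coprime hk' hcW' (card_pPrimeCore_coprime p)
      have h3 := mul_inv_eq_one.1 hc1
      exact (mul_inv_eq_iff_eq_mul.1 h3).symm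
    have hhV : h ∈ pPrimePCore p G := hG P hcent
    rw [← hfh]
    have : h ∈ (pCore p K).comap f := by rw [hV]; exact hhV
    exact this
  · intro hK P g hg
    rw [← hV]
    apply hK
    rw [mem_centralizer_iff]
    intro k hk
    obtain ⟨x, hx, rfl⟩ := exists_mem_sylow_map_eq f hf hker P hk
    have := (mem_centralizer_iff.1 hg) x hx
    rw [← map_mul, ← map_mul, this]

theorem isPConstrained_iff_quotient [Finite G] [Fact p.Prime] :
    IsPConstrained p G ↔ SelfCentPCore p (G ⧸ pPrimeCore p G) :=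
  isPConstrained_iff_of_surjective (QuotientGroup.mk' (pPrimeCore p G))
    (QuotientGroup.mk'_surjective _) (QuotientGroup.ker_mk' _)

theorem isPConstrained_iff_of_pPrimeCore_eq_bot [Finite G] [Fact p.Prime]
    (h : pPrimeCore p G = ⊥) : IsPConstrained p G ↔ SelfCentPCore p G :=
  isPConstrained_iff_of_surjective (MonoidHom.id G) Function.surjective_id
    (by rw [h]; exact MonoidHom.ker_id)

theorem ker_eq_pPrimeCore_of_selfCentPCore [Finite G] [Fact p.Prime] (f : G →* K)
    (hf : Function.Surjective f) (hker : (Nat.card f.ker).Coprime p) (hK : SelfCentPCore p K) :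
    f.ker = pPrimeCore p G := by
  have : Finite K := Finite.of_surjective f hf
  apply le_antisymm
  · exact le_pPrimeCore inferInstance hker
  · have hn : ((pPrimeCore p G).map f).Normal := Normal.map inferInstance _ hf
    have hc : (Nat.card ((pPrimeCore p G).map f)).Coprime p :=
      Nat.Coprime.of_dvd_left (card_map_dvd _ _) (card_pPrimeCore_coprime p)
    have h1 := le_pPrimeCore hn hc
    rw [hK.pPrimeCore_eq_bot, le_bot_iff] at h1
    exact (Subgroup.map_eq_bot_iff _).1 h1

/-- Criterion for `p`-constraint. -/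
theorem isPConstrained_of_surjective [Finite G] [Fact p.Prime] (f : G →* K)
    (hf : Function.Surjective f) (hker : (Nat.card f.ker).Coprime p) (hK : SelfCentPCore p K) :
    IsPConstrained p G :=
  (isPConstrained_iff_of_surjective f hf (ker_eq_pPrimeCore_of_selfCentPCore f hf hker hK)).2 hK

theorem SelfCentPCore.isPConstrained [Finite G] [Fact p.Prime] (hG : SelfCentPCore p G) :
    IsPConstrained p G :=
  (isPConstrained_iff_of_pPrimeCore_eq_bot hG.pPrimeCore_eq_bot).2 hG

theorem isPConstrained_of_mulEquiv [Finite G] [Fact p.Prime] (e : G ≃* K)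
    (hG : IsPConstrained p G) : IsPConstrained p K := by
  have : Finite K := Finite.of_equiv G e.toEquiv
  have h1 := isPConstrained_iff_quotient.1 hG
  refine isPConstrained_of_surjective ((QuotientGroup.mk' (pPrimeCore p G)).comp e.symm.toMonoidHom)
    ((QuotientGroup.mk'_surjective _).comp e.symm.surjective) ?_ h1
  have hk : ((QuotientGroup.mk' (pPrimeCore p G)).comp e.symm.toMonoidHom).ker
      = (pPrimeCore p G).map e.toMonoidHom := by
    ext x
    rw [MonoidHom.mem_ker, MonoidHom.comp_apply, ← MonoidHom.mem_ker, QuotientGroup.ker_mk']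
    constructor
    · intro hx
      exact ⟨_, hx, by simp⟩
    · rintro ⟨y, hy, rfl⟩
      simpa using hy
  rw [hk]
  exact Nat.Coprime.of_dvd_left (card_map_dvd _ _) (card_pPrimeCore_coprime p)

end pconstrained

section frattini

variable {G : Type*} [Group G] {p : ℕ}

theorem mem_normalizer_of_conj_le [Finite G] (T : Subgroup G) (n : G)
    (h : ∀ t ∈ T, n * t * n⁻¹ ∈ T) : n ∈ normalizer (T : Set G) := by
  rw [mem_normalizer_iff_map_conj_eq]
  apply eq_of_le_of_card_ge
  · rintro _ ⟨t, ht, rfl⟩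
    exact h t ht
  · rw [card_map_of_injective (MulAut.conj n).injective]

/-- Frattini-type argument: if `g` normalises `T W` (`W` a normal `p'`-subgroup, `T` a
`p`-subgroup), then `g` can be corrected by an element of `W` to normalise `T`. -/
theorem exists_mul_mem_normalizer [Finite G] [Fact p.Prime] (W : Subgroup G) [hWn : W.Normal]
    (hW : (Nat.card W).Coprime p) (T : Subgroup G) (hT : IsPGroup p T) (g : G)
    (hg : ∀ t ∈ T, g * t * g⁻¹ ∈ T ⊔ W) : ∃ w ∈ W, w * g ∈ normalizer (T : Set G) := by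
  set X := T ⊔ W with hX
  have hTX : T ≤ X := le_sup_left
  have hidx : ¬ p ∣ (T.subgroupOf X).index := by
    change ¬ p ∣ T.relIndex X
    have h1 : Nat.card T * T.relIndex X = Nat.card X := by
      have := relIndex_mul_relIndex ⊥ T X bot_le hTX
      rwa [relIndex_bot_left, relIndex_bot_left] at this
    have h2 : Nat.card X ∣ Nat.card T * Nat.card W := card_sup_dvd T W
    rw [← h1] at h2
    have h3 : T.relIndex X ∣ Nat.card W := Nat.dvd_of_mul_dvd_mul_left Nat.card_pos h2
    intro hp
    have h4 : p ∣ Nat.card W := hp.trans h3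
    have h5 := Nat.dvd_gcd h4 (dvd_refl p)
    rw [hW] at h5
    exact (Fact.out : p.Prime).one_lt.ne' (Nat.dvd_one.1 h5)
  have hTXp : IsPGroup p (T.subgroupOf X) :=
    hT.comap_of_injective X.subtype X.subtype_injective
  let R : Sylow p X := hTXp.toSylow hidx
  -- the conjugate of `T`
  let T' : Subgroup G := T.map (MulAut.conj g).toMonoidHom
  have hT'p : IsPGroup p (T'.subgroupOf X) :=
    (hT.map _).comap_of_injective X.subtype X.subtype_injective
  obtain ⟨R', hR'⟩ := hT'p.exists_le_sylow
  obtain ⟨c, hc⟩ := MulAction.exists_smul_eq X R' R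
  have hconj : ∀ t ∈ T, (c : G) * (g * t * g⁻¹) * (c : G)⁻¹ ∈ T := by
    intro t ht
    have h1 : (⟨g * t * g⁻¹, hg t ht⟩ : X) ∈ (R' : Subgroup X) := by
      apply hR'
      rw [mem_subgroupOf]
      exact ⟨t, ht, rfl⟩
    have h2 : c * ⟨g * t * g⁻¹, hg t ht⟩ * c⁻¹ ∈ ((c • R' : Sylow p X) : Subgroup X) := by
      rw [Sylow.coe_subgroup_smul]
      exact ⟨_, h1, by simp [MulAut.smul_def]⟩
    rw [hc] at h2
    have h3 : c * ⟨g * t * g⁻¹, hg t ht⟩ * c⁻¹ ∈ T.subgroupOf X := h2
    rw [mem_subgroupOf] at h3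
    simpa using h3
  obtain ⟨t₀, ht₀, w, hw, hcw⟩ := mem_sup_of_normal_right.1 c.2
  refine ⟨w, hw, mem_normalizer_of_conj_le T _ ?_⟩
  intro t ht
  have h1 := hconj t ht
  rw [← hcw] at h1
  have h2 : w * g * t * (w * g)⁻¹ = t₀⁻¹ * (t₀ * w * (g * t * g⁻¹) * (t₀ * w)⁻¹) * t₀ := by group
  rw [h2]
  exact mul_mem (mul_mem (inv_mem ht₀) h1) ht₀

end frattini

section locals

variable {G : Type*} [Group G] {p : ℕ}

theorem centralizer_subgroupOf_eq {T M : Subgroup G} (h : T ≤ M) :
    centralizer ((T.subgroupOf M : Subgroup M) : Set M) = (centralizer (T : Set G)).subgroupOf M := by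
  ext x
  rw [mem_subgroupOf, mem_centralizer_iff, mem_centralizer_iff]
  constructor
  · intro hx t ht
    have := hx ⟨t, h ht⟩ (by
      change (⟨t, h ht⟩ : M) ∈ T.subgroupOf M
      rw [mem_subgroupOf]; exact ht)
    exact congrArg Subtype.val this
  · intro hx t ht
    apply Subtype.ext
    exact hx t ht

/-- centralisers of `p`-subgroups inherit the property. -/
theorem SelfCentPCore.centralizer [Finite G] [Fact p.Prime] (hG : SelfCentPCore p G)
    (T : Subgroup G) (hT : IsPGroup p T) : SelfCentPCore p ↥(Subgroup.centralizer (T : Set G)) := by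
  have h1 := hG.normalizer T hT
  have h2 := h1.of_normal
    ((Subgroup.centralizer (T : Set G)).subgroupOf (Subgroup.normalizer (T : Set G)))
  exact h2.of_mulEquiv (subgroupOfEquivOfLe (centralizer_le_normalizer (T : Set G)))

theorem card_ker_coprime_of_le [Finite G] {K : Type*} [Group K] (W : Subgroup G)
    (hW : (Nat.card W).Coprime p) (N : Subgroup G) (f : N →* K)
    (h : ∀ n : N, f n = 1 → (n : G) ∈ W) : (Nat.card f.ker).Coprime p := by
  let j : f.ker →* W :=
    { toFun := fun n => ⟨((n : N) : G), h n n.2⟩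
      map_one' := rfl
      map_mul' := fun _ _ => rfl }
  have hj : Function.Injective j := by
    intro a b hab
    have : ((a : N) : G) = ((b : N) : G) := congrArg (fun z : W => (z : G)) hab
    exact Subtype.ext (Subtype.ext this)
  exact Nat.Coprime.of_dvd_left (card_dvd_of_injective j hj) hW

/-- In a `p`-constrained group the normaliser of a `p`-subgroup is `p`-constrained. -/
theorem isPConstrained_normalizer [Finite G] [Fact p.Prime] (hG : IsPConstrained p G)
    (T : Subgroup G) (hT : IsPGroup p T) : IsPConstrained p ↥(normalizer (T : Set G)) := by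
  set W := pPrimeCore p G with hW
  set π := QuotientGroup.mk' W with hπ
  have hQ : SelfCentPCore p (G ⧸ W) := isPConstrained_iff_quotient.1 hG
  have hN := hQ.normalizer (T.map π) (hT.map π)
  let f : ↥(normalizer (T : Set G)) →* ↥(normalizer ((T.map π : Subgroup (G ⧸ W)) : Set (G ⧸ W))) :=
    (π.comp (normalizer (T : Set G)).subtype).codRestrict _ (fun n =>
      le_normalizer_map π ⟨n, n.2, rfl⟩)
  refine isPConstrained_of_surjective f ?_ ?_ hN
  · rintro ⟨y, hy⟩
    obtain ⟨g, rfl⟩ := QuotientGroup.mk'_surjective W y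
    have hg : ∀ t ∈ T, g * t * g⁻¹ ∈ T ⊔ W := by
      intro t ht
      have h1 : π g * π t * (π g)⁻¹ ∈ T.map π := (mem_normalizer_iff.1 hy (π t)).1 ⟨t, ht, rfl⟩
      obtain ⟨t', ht', h2⟩ := h1
      have h3 : t'⁻¹ * (g * t * g⁻¹) ∈ W := by
        rw [← QuotientGroup.ker_mk' W, MonoidHom.mem_ker]
        simp only [map_mul, map_inv]
        rw [← hπ, h2]; group
      have : g * t * g⁻¹ = t' * (t'⁻¹ * (g * t * g⁻¹)) := by group
      rw [this]
      exact mul_mem (mem_sup_left ht') (mem_sup_right h3)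
    obtain ⟨w, hw, hwg⟩ := exists_mul_mem_normalizer W (card_pPrimeCore_coprime p) T hT g hg
    refine ⟨⟨w * g, hwg⟩, Subtype.ext ?_⟩
    change π (w * g) = π g
    have hw1 : π w = 1 := (QuotientGroup.eq_one_iff w).2 hw
    rw [map_mul, hw1, one_mul]
  · apply card_ker_coprime_of_le W (card_pPrimeCore_coprime p)
    intro n hn
    have : π (n : G) = 1 := congrArg Subtype.val hn
    exact (QuotientGroup.eq_one_iff _).1 this

/-- In a `p`-constrained group the centraliser of a `p`-subgroup is `p`-constrained. -/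
theorem isPConstrained_centralizer [Finite G] [Fact p.Prime] (hG : IsPConstrained p G)
    (T : Subgroup G) (hT : IsPGroup p T) : IsPConstrained p ↥(centralizer (T : Set G)) := by
  set W := pPrimeCore p G with hW
  set π := QuotientGroup.mk' W with hπ
  have hQ : SelfCentPCore p (G ⧸ W) := isPConstrained_iff_quotient.1 hG
  have hN := hQ.centralizer (T.map π) (hT.map π)
  let f : ↥(centralizer (T : Set G)) →* ↥(centralizer ((T.map π : Subgroup (G ⧸ W)) : Set (G ⧸ W))) :=
    (π.comp (centralizer (T : Set G)).subtype).codRestrict _ (fun n => by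
      rw [mem_centralizer_iff]
      rintro _ ⟨t, ht, rfl⟩
      have := (mem_centralizer_iff.1 n.2) t ht
      change π t * π n = π n * π t
      rw [← map_mul, ← map_mul, this])
  refine isPConstrained_of_surjective f ?_ ?_ hN
  · rintro ⟨y, hy⟩
    obtain ⟨g, rfl⟩ := QuotientGroup.mk'_surjective W y
    have hcomm : ∀ t ∈ T, g * t * g⁻¹ * t⁻¹ ∈ W := by
      intro t ht
      have h1 : π t * π g = π g * π t := (mem_centralizer_iff.1 hy) (π t) ⟨t, ht, rfl⟩
      rw [← QuotientGroup.ker_mk' W, MonoidHom.mem_ker]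
      simp only [map_mul, map_inv]
      rw [← hπ, ← h1]; group
    have hg : ∀ t ∈ T, g * t * g⁻¹ ∈ T ⊔ W := by
      intro t ht
      have : g * t * g⁻¹ = (g * t * g⁻¹ * t⁻¹) * t := by group
      rw [this]
      exact mul_mem (mem_sup_right (hcomm t ht)) (mem_sup_left ht)
    obtain ⟨w, hw, hwg⟩ := exists_mul_mem_normalizer W (card_pPrimeCore_coprime p) T hT g hg
    have hcent : w * g ∈ centralizer (T : Set G) := by
      rw [mem_centralizer_iff]
      intro t ht
      set c := (w * g) * t * (w * g)⁻¹ * t⁻¹ with hc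
      have hcT : c ∈ T := mul_mem ((mem_normalizer_iff.1 hwg t).1 ht) (inv_mem ht)
      have hcW : c ∈ W := by
        have : c = w * (g * t * g⁻¹ * t⁻¹) * (t * w⁻¹ * t⁻¹) := by rw [hc]; group
        rw [this]
        exact mul_mem (mul_mem hw (hcomm t ht)) ((pPrimeCore_normal p G).conj_mem _ (inv_mem hw) t)
      obtain ⟨k, hk⟩ := hT ⟨c, hcT⟩
      have hk' : c ^ p ^ k = 1 := congrArg Subtype.val hk
      have hcW' : c ^ Nat.card W = 1 := by
        have := pow_card_eq_one' (G := W) (x := ⟨c, hcW⟩)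
        exact congrArg Subtype.val this
      have hc1 : c = 1 := eq_one_of_pow_of_coprime hk' hcW' (card_pPrimeCore_coprime p)
      have h3 := mul_inv_eq_one.1 hc1
      exact (mul_inv_eq_iff_eq_mul.1 h3).symm
    refine ⟨⟨w * g, hcent⟩, Subtype.ext ?_⟩
    change π (w * g) = π g
    have hw1 : π w = 1 := (QuotientGroup.eq_one_iff w).2 hw
    rw [map_mul, hw1, one_mul]
  · apply card_ker_coprime_of_le W (card_pPrimeCore_coprime p)
    intro n hn
    have : π (n : G) = 1 := congrArg Subtype.val hn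
    exact (QuotientGroup.eq_one_iff _).1 this

end locals

end Cfsg.Agent.Lib.Helper54
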