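/-
Helper library (helper54): a concrete field with 4 elements; the number a + 2 b stands for a + b s with s^2 = 1 + 1 s.
-/
import Mathlib

set_option autoImplicit false

namespace Cfsg.Agent.Lib.Helper54

/-- the field with 4 elements -/
structure K4 where
  /-- the code of the element -/
  n : Fin 4
  deriving DecidableEq

namespace K4

/-- the element with a given code -/
def ofN (m : ℕ) : K4 := ⟨⟨m % 4, Nat.mod_lt _ (by decide)⟩⟩

/-- the code -/
def toN (x : K4) : ℕ := x.n.val

instance instFintype : Fintype K4 :=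
  Fintype.ofEquiv (Fin 4) ⟨K4.mk, K4.n, fun _ => rfl, fun _ => rfl⟩

/-- addition -/
def add (x y : K4) : K4 :=
  ofN ((toN x % 2 + toN y % 2) % 2 + 2 * ((toN x / 2 + toN y / 2) % 2))

/-- multiplication -/
def mul (x y : K4) : K4 :=
  ofN (((toN x % 2) * (toN y % 2) + 1 * ((toN x / 2) * (toN y / 2))) % 2
    + 2 * (((toN x % 2) * (toN y / 2) + (toN x / 2) * (toN y % 2)
      + 1 * ((toN x / 2) * (toN y / 2))) % 2))

/-- negation -/
def neg (x : K4) : K4 :=
  ofN ((2 - toN x % 2) % 2 + 2 * ((2 - toN x / 2) % 2))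

/-- inversion -/
def inv (x : K4) : K4 := ofN (List.getD [0, 1, 3, 2] (toN x) 0)

instance : Add K4 := ⟨add⟩
instance : Mul K4 := ⟨mul⟩
instance : Neg K4 := ⟨neg⟩
instance : Inv K4 := ⟨inv⟩
instance : Zero K4 := ⟨ofN 0⟩
instance : One K4 := ⟨ofN 1⟩

set_option maxRecDepth 100000 in
instance instField : Field K4 :=
  Field.ofMinimalAxioms K4 (by decide +kernel) (by decide +kernel) (by decide +kernel) (by decide +kernel)
    (by decide +kernel) (by decide +kernel) (by decide +kernel) (by decide +kernel) (by decide +kernel)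
    (by decide +kernel)

theorem card_eq : Fintype.card K4 = 4 := by decide +kernel

theorem card_eq' : Fintype.card K4 = 2 ^ 2 := card_eq

theorem ofN_toN (x : K4) : ofN (toN x) = x := by
  revert x; decide +kernel

theorem toN_lt (x : K4) : toN x < 4 := x.n.isLt

end K4

end Cfsg.Agent.Lib.Helper54
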