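import Cfsg.Agent.Lib.Helper54.PConstrained

/-!
# p-constrained groups, part 2
-/

set_option autoImplicit false

namespace Cfsg.Agent.Lib.Helper54

open Cfsg Cfsg.Agent.Lib.Lead Subgroup

variable {G : Type*} [Group G] {p : ℕ}

theorem selfCentPCore_of_normal_of_centralizer_le [Finite G] [Fact p.Prime] (K : Subgroup G)
    [K.Normal] (hK : SelfCentPCore p ↥K) (h : centralizer (pCore p G : Set G) ≤ K) :
    SelfCentPCore p G := by
  apply selfCentPCore_of_coprime
  intro d hd hcent
  have hdK : d ∈ K := by
    apply h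
    rw [mem_centralizer_iff]
    intro g hg
    exact (mul_inv_eq_iff_eq_mul.1 (hcent g hg)).symm
  have h1 : (⟨d, hdK⟩ : K) = 1 := by
    apply hK.eq_one
    · rw [← Subgroup.orderOf_coe]; exact hd
    · intro g hg
      apply Subtype.ext
      exact hcent g (pCore_normal_subgroup_le K ⟨g, hg, rfl⟩)
  exact congrArg Subtype.val h1

/-- If `T` is a normal `p`-subgroup of `G` and `C_G(T)` is `p`-constrained, so is `G`. -/
theorem isPConstrained_of_centralizer [Finite G] [Fact p.Prime] (T : Subgroup G) [hTn : T.Normal]
    (hT : IsPGroup p T) (hC : IsPConstrained p ↥(centralizer (T : Set G))) :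
    IsPConstrained p G := by
  set W := pPrimeCore p G with hW
  set π := QuotientGroup.mk' W with hπ
  set K := centralizer (T : Set G) with hK
  have hKn : K.Normal := inferInstance
  have hKbn : (K.map π).Normal := Normal.map hKn π (QuotientGroup.mk'_surjective W)
  have hker : (π.subgroupMap K).ker = pPrimeCore p ↥K := by
    ext x
    rw [MonoidHom.mem_ker]
    have h1 : x ∈ pPrimeCore p ↥K ↔ (x : G) ∈ (pPrimeCore p ↥K).map K.subtype := by
      constructor
      · intro hx; exact ⟨x, hx, rfl⟩
      · rintro ⟨y, hy, hyx⟩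
        have : y = x := Subtype.ext hyx
        rwa [← this]
    rw [h1, pPrimeCore_normal_subgroup_eq K, mem_inf]
    constructor
    · intro hx
      have : π (x : G) = 1 := congrArg Subtype.val hx
      exact ⟨(QuotientGroup.eq_one_iff _).1 this, x.2⟩
    · rintro ⟨hx, -⟩
      apply Subtype.ext
      exact (QuotientGroup.eq_one_iff _).2 hx
  have hKb : SelfCentPCore p ↥(K.map π) :=
    (isPConstrained_iff_of_surjective (π.subgroupMap K) (π.subgroupMap_surjective K) hker).1 hC
  rw [isPConstrained_iff_quotient]
  apply selfCentPCore_of_normal_of_centralizer_le (K.map π) hKb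
  intro y hy
  obtain ⟨d, rfl⟩ := QuotientGroup.mk'_surjective W y
  refine ⟨d, ?_, rfl⟩
  change d ∈ centralizer (T : Set G)
  rw [mem_centralizer_iff]
  intro t ht
  have hTb : T.map π ≤ pCore p (G ⧸ W) :=
    le_pCore (Normal.map hTn π (QuotientGroup.mk'_surjective W)) (hT.map π)
  have h1 : π t * π d = π d * π t := (mem_centralizer_iff.1 hy) (π t) (hTb ⟨t, ht, rfl⟩)
  set c := d * t * d⁻¹ * t⁻¹ with hc
  have hcT : c ∈ T := mul_mem (hTn.conj_mem t ht d) (inv_mem ht)
  have hcW : c ∈ W := by
    rw [← QuotientGroup.ker_mk' W, MonoidHom.mem_ker, hc]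
    simp only [map_mul, map_inv]
    rw [← hπ, ← h1]; group
  obtain ⟨k, hk⟩ := hT ⟨c, hcT⟩
  have hk' : c ^ p ^ k = 1 := congrArg Subtype.val hk
  have hcW' : c ^ Nat.card W = 1 := by
    have := pow_card_eq_one' (G := W) (x := ⟨c, hcW⟩)
    exact congrArg Subtype.val this
  have hc1 : c = 1 := eq_one_of_pow_of_coprime hk' hcW' (card_pPrimeCore_coprime p)
  have h3 := mul_inv_eq_one.1 hc1
  exact (mul_inv_eq_iff_eq_mul.1 h3).symm

/-- relative version: if `T ≤ M` and `M` is `p`-constrained then `N_G(T)` is `p`-constrained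
as soon as `N_G(T) ≤ M`. -/
theorem isPConstrained_normalizer_of_le [Finite G] [Fact p.Prime] (M : Subgroup G)
    (hM : IsPConstrained p ↥M) (T : Subgroup G) (hT : IsPGroup p T)
    (hNM : normalizer (T : Set G) ≤ M) : IsPConstrained p ↥(normalizer (T : Set G)) := by
  have hTM : T ≤ M := le_normalizer.trans hNM
  have h1 := isPConstrained_normalizer hM (T.subgroupOf M)
    (hT.comap_of_injective M.subtype M.subtype_injective)
  rw [← subgroupOf_normalizer_eq hTM] at h1
  exact isPConstrained_of_mulEquiv (subgroupOfEquivOfLe hNM) h1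

/-- relative version for centralisers. -/
theorem isPConstrained_centralizer_of_le [Finite G] [Fact p.Prime] (M : Subgroup G)
    (hM : IsPConstrained p ↥M) (T : Subgroup G) (hT : IsPGroup p T) (hTM : T ≤ M)
    (hCM : centralizer (T : Set G) ≤ M) : IsPConstrained p ↥(centralizer (T : Set G)) := by
  have h1 := isPConstrained_centralizer hM (T.subgroupOf M)
    (hT.comap_of_injective M.subtype M.subtype_injective)
  rw [centralizer_subgroupOf_eq hTM] at h1
  exact isPConstrained_of_mulEquiv (subgroupOfEquivOfLe hCM) h1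

/-- If `C_G(T)` is `p`-constrained (`T` a `p`-subgroup) then so is `N_G(T)`. -/
theorem isPConstrained_normalizer_of_centralizer [Finite G] [Fact p.Prime] (T : Subgroup G)
    (hT : IsPGroup p T) (hC : IsPConstrained p ↥(centralizer (T : Set G))) :
    IsPConstrained p ↥(normalizer (T : Set G)) := by
  have hn : (T.subgroupOf (normalizer (T : Set G))).Normal := normal_in_normalizer
  apply isPConstrained_of_centralizer (T.subgroupOf (normalizer (T : Set G)))
    (hT.comap_of_injective _ (subtype_injective _))
  rw [centralizer_subgroupOf_eq le_normalizer]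
  exact isPConstrained_of_mulEquiv
    (subgroupOfEquivOfLe (centralizer_le_normalizer (T : Set G))).symm hC

end Cfsg.Agent.Lib.Helper54
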