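/-
Helper library (helper54): an isomorphism `G ≃* U ⧸ Z(U)` from a relation subgroup of `G × U`.
-/
import Mathlib

set_option autoImplicit false

namespace Cfsg.Agent.Lib.Helper54

/-- a submonoid of a finite group is a subgroup -/
def subgroupOfSubmonoid {G : Type*} [Group G] [Finite G] (M : Submonoid G) : Subgroup G where
  carrier := M
  one_mem' := M.one_mem
  mul_mem' := M.mul_mem
  inv_mem' := by
    intro x hx
    have h1 : x ^ (orderOf x - 1) * x = 1 := by
      rw [pow_sub_one_mul (orderOf_pos x).ne', pow_orderOf_eq_one]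
    rw [← eq_inv_of_mul_eq_one_left h1]
    exact M.pow_mem hx _

theorem mem_subgroupOfSubmonoid {G : Type*} [Group G] [Finite G] (M : Submonoid G) (x : G) :
    x ∈ subgroupOfSubmonoid M ↔ x ∈ M := Iff.rfl

/-- Let `R` be a subgroup of `G × U` projecting onto `U` (it is enough to have partners for a set of generators),
not containing all of `1 × U`.  If every proper normal subgroup of `U` is central and `|G| = |U / Z(U)|`
then `G ≃* U / Z(U)`. -/
theorem iso_of_relation {G U : Type*} [Group G] [Group U] [Finite G] [Finite U]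
    (hN : ∀ N : Subgroup U, N.Normal → N ≤ Subgroup.center U ∨ N = ⊤)
    (hcard : Nat.card G = Nat.card (U ⧸ Subgroup.center U))
    (R : Subgroup (G × U)) (T : Set U) (hT : Subgroup.closure T = ⊤)
    (h1 : ∀ u ∈ T, ∃ g, (g, u) ∈ R) (h3 : ∃ u, ((1 : G), u) ∉ R) :
    Nonempty (G ≃* U ⧸ Subgroup.center U) := by
  classical
  -- the second projection is onto
  have hsurj : ∀ u : U, ∃ g, (g, u) ∈ R := by
    have : R.map (MonoidHom.snd G U) = ⊤ := by
      rw [eq_top_iff, ← hT, Subgroup.closure_le]
      intro u hu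
      obtain ⟨g, hg⟩ := h1 u hu
      exact ⟨(g, u), hg, rfl⟩
    intro u
    have hu : u ∈ R.map (MonoidHom.snd G U) := by rw [this]; trivial
    obtain ⟨⟨g, u'⟩, hg, rfl⟩ := hu
    exact ⟨g, hg⟩
  -- the subgroup `N`
  let N : Subgroup U := R.comap (MonoidHom.inr G U)
  have hNmem : ∀ u, u ∈ N ↔ ((1 : G), u) ∈ R := fun u => Iff.rfl
  have hNn : N.Normal := by
    constructor
    intro u hu a
    obtain ⟨g, hg⟩ := hsurj a
    rw [hNmem] at hu ⊢
    have := R.mul_mem (R.mul_mem hg hu) (R.inv_mem hg)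
    simpa using this
  have hNle : N ≤ Subgroup.center U := by
    rcases hN N hNn with h | h
    · exact h
    · exfalso
      obtain ⟨u, hu⟩ := h3
      apply hu
      rw [← hNmem, h]
      trivial
  -- the two homomorphisms
  let π : R →* G := (MonoidHom.fst G U).comp R.subtype
  let φ : R →* U ⧸ Subgroup.center U := (QuotientGroup.mk' _).comp ((MonoidHom.snd G U).comp R.subtype)
  have hker : π.ker ≤ φ.ker := by
    rintro ⟨⟨g, u⟩, hgu⟩ hx
    rw [MonoidHom.mem_ker] at hx ⊢
    have hg : g = 1 := hx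
    subst hg
    show (QuotientGroup.mk' _) u = 1
    rw [QuotientGroup.mk'_apply, QuotientGroup.eq_one_iff]
    exact hNle ((hNmem u).2 hgu)
  let ψ : R ⧸ π.ker →* U ⧸ Subgroup.center U := QuotientGroup.lift π.ker φ hker
  have hψs : Function.Surjective ψ := by
    intro y
    obtain ⟨u, rfl⟩ := QuotientGroup.mk'_surjective _ y
    obtain ⟨g, hg⟩ := hsurj u
    exact ⟨QuotientGroup.mk (⟨(g, u), hg⟩ : R), rfl⟩
  let e1 : R ⧸ π.ker ≃* π.range := QuotientGroup.quotientKerEquivRange π
  have c1 : Nat.card (R ⧸ π.ker) = Nat.card π.range := Nat.card_congr e1.toEquiv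
  have c2 : Nat.card π.range ≤ Nat.card G := Subgroup.card_le_card_group _
  have c3 : Nat.card (U ⧸ Subgroup.center U) ≤ Nat.card (R ⧸ π.ker) :=
    Nat.card_le_card_of_surjective ψ hψs
  have c4 : Nat.card π.range = Nat.card G := by omega
  have htop : π.range = ⊤ := Subgroup.eq_top_of_card_eq _ c4
  have hψb : Function.Bijective ψ := by
    rw [Nat.bijective_iff_surjective_and_card]
    exact ⟨hψs, by omega⟩
  let e2 : R ⧸ π.ker ≃* U ⧸ Subgroup.center U := MulEquiv.ofBijective ψ hψb
  let e3 : π.range ≃* G := (MulEquiv.subgroupCongr htop).trans Subgroup.topEquiv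
  exact ⟨(e3.symm.trans e1.symm).trans e2⟩

end Cfsg.Agent.Lib.Helper54
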