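/-
Helper library (helper54): the centraliser in `Co2` of the sign change on the complement of the standard octad is an
extension of an extraspecial group of order `2 ^ 9` by `Sp(6, 2)`.
-/
import Cfsg.Agent.Lib.Helper54.C2Rel
import Cfsg.Agent.Lib.Helper54.RelHom
import Cfsg.Agent.Lib.Helper54.RelIso
import Cfsg.Agent.Lib.Helper4.ESCyclic
import Cfsg.Prelude.Def_CaseTheorems

set_option autoImplicit false

namespace Cfsg.Agent.Lib.Helper54.C2

open Matrix Cfsg Cfsg.Agent.Lib.Helper7 Cfsg.Agent.Lib.Helper13 Cfsg.Agent.Lib.Helper27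
  Cfsg.Agent.Lib.Helper54
open Cfsg.Agent.Lib.Helper54.U6 (forceN forceN_eq)

theorem t0_fix_uL : t0 • uL = uL := (K0_inC t0_mem).1

/-- the involution as an element of `Co2` -/
def tC : ↥Spor.Co2 := ⟨t0.1, Subgroup.mem_inf.2 ⟨t0.2, t0_fix_uL⟩⟩

/-- its centraliser -/
abbrev CC : Subgroup ↥Spor.Co2 := Subgroup.centralizer ({tC} : Set ↥Spor.Co2)

/-- the inclusion into `Co0` -/
def ι : ↥CC →* ↥Co0 where
  toFun g := ⟨g.1.1, (Subgroup.mem_inf.1 g.1.2).1⟩
  map_one' := rfl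
  map_mul' _ _ := rfl

theorem ι_inj : Function.Injective ι := by
  intro a b h
  have h1 : (ι a).1 = (ι b).1 := congrArg Subtype.val h
  exact Subtype.ext (Subtype.ext h1)

theorem ι_inC (g : ↥CC) : InC (ι g) := by
  constructor
  · exact (Subgroup.mem_inf.1 g.1.2).2
  · have h := (Subgroup.mem_centralizer_iff.1 g.2) tC rfl
    apply Subtype.ext
    exact (congrArg (fun x : ↥Spor.Co2 => x.1) h).symm

theorem exists_ι {h : ↥Co0} (hh : InC h) : ∃ g : ↥CC, ι g = h := by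
  refine ⟨⟨⟨h.1, Subgroup.mem_inf.2 ⟨h.2, hh.1⟩⟩, ?_⟩, rfl⟩
  rw [Subgroup.mem_centralizer_iff]
  intro x hx
  rw [Set.mem_singleton_iff.1 hx]
  apply Subtype.ext
  exact (congrArg Subtype.val hh.2).symm

instance finite_CC : Finite ↥CC := Finite.of_injective ι ι_inj

/-- the compatible pairs -/
def relMonoid : Submonoid (↥CC × U) where
  carrier := {p | Rel (ι p.1) p.2}
  one_mem' := Rel.one
  mul_mem' := fun ha hb => Rel.mul ha hb

/-- the compatible pairs -/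
def R : Subgroup (↥CC × U) := subgroupOfSubmonoid relMonoid

theorem mem_R {x : ↥CC} {u : U} : (x, u) ∈ R ↔ Rel (ι x) u := Iff.rfl

theorem uL_eq : uL = ⟨V Xu, V_mem Xu_leech⟩ := Subtype.ext V_Xu.symm

theorem gen_partner : ∀ g ∈ gens, ∃ x : ↥CC, (x, tvc g.2) ∈ R := by
  intro g hg
  have h1 := (allList_iff _ _).1 gens_ok g hg
  rw [band_eq, Bool.and_eq_true] at h1
  have h2 := (allList_iff _ _).1 gens_fix g hg
  have h3 := (allList_iff _ _).1 gens_blk g hg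
  have hin : InC (genCo0 g.1.2 h1.1) := by
    refine ⟨?_, genCo0_comm_t0 h1.1 h3⟩
    rw [uL_eq]
    apply Subtype.ext
    exact genCo0_smul_of_appFast h1.1 h1.2 Xu_code Xu_code (by rw [Xu_norm]; norm_num) _
      (Nat.eq_of_beq_eq_true h2)
  obtain ⟨x, hx⟩ := exists_ι hin
  refine ⟨x, ?_⟩
  rw [mem_R, hx]
  intro e he
  have h4 := (allList_iff _ _).1 ((allList_iff _ _).1 gens_chk g hg) e he
  rw [forceN_eq, forceN_eq, anyL'_iff] at h4
  obtain ⟨e', he', h5⟩ := h4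
  rw [band_eq, Bool.and_eq_true] at h5
  refine ⟨e', he', ?_, ?_⟩
  · apply Subtype.ext
    exact genCo0_smul_of_appFast h1.1 h1.2 (tab_code he) (tab_code he')
      (by rw [tab_norm he]; norm_num) _ (Nat.eq_of_beq_eq_true h5.1)
  · rw [tvc_mulVec, ← dec_tfc, Nat.eq_of_beq_eq_true h5.2]

theorem tvc_partner : ∀ a ∈ ga, ∃ x : ↥CC, (x, tvc a) ∈ R := by
  intro a ha
  rw [← gens_snd, List.mem_map] at ha
  obtain ⟨g, hg, rfl⟩ := ha
  exact gen_partner g hg

theorem tl_partner (l : List ℕ) (hl : ∀ a ∈ l, a ∈ ga) : ∃ x : ↥CC, (x, tl l) ∈ R := by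
  induction l with
  | nil =>
    have e : tl [] = 1 := by simp [tl]
    rw [e]
    exact ⟨1, R.one_mem⟩
  | cons a l ih =>
    obtain ⟨x, hx⟩ := ih (fun b hb => hl b (List.mem_cons_of_mem _ hb))
    obtain ⟨y, hy⟩ := tvc_partner a (hl a List.mem_cons_self)
    refine ⟨y * x, ?_⟩
    have e : tl (a :: l) = tvc a * tl l := by simp [tl]
    rw [e]
    have h := R.mul_mem hy hx
    rwa [Prod.mk_mul_mk] at h

theorem mem_tail : ∀ n < 64, n ≠ 0 → n ∈ (List.range 64).tail := by decide +kernel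

theorem exists_word (v : V6) (hv0 : v ≠ 0) : ∃ l ∈ wtab, v = dec6 (l.foldr tfc 1) := by
  have h := mem_tail (enc6 v) (enc6_lt v) (by
    intro h
    apply hv0
    rw [← dec6_enc6 v, h, dec6_zero])
  rw [← wtab_eval, List.mem_map] at h
  obtain ⟨l, hl, e⟩ := h
  exact ⟨l, hl, by rw [e, dec6_enc6]⟩

theorem wtab_ga : ∀ l ∈ wtab, ∀ a ∈ l, a ∈ ga := by
  intro l hl a ha
  have h := (allList_iff _ _).1 ((allList_iff _ _).1 wtab_letters l hl) a ha
  rw [anyL'_iff] at h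
  obtain ⟨b, hb, e⟩ := h
  rw [Nat.eq_of_beq_eq_true e]
  exact hb

/-- the transvection with centre `v` -/
def tv (v : V6) : U := ⟨Cfsg.sympTransvection 3 v 1, sympTransvection_mem _ _⟩

theorem tv_mulVec (v x : V6) : (tv v).1 *ᵥ x = x + sf x v • v := by
  show Cfsg.sympTransvection 3 v 1 *ᵥ x = _
  rw [sympTransvection_mulVec, one_mul]

theorem tv_partner (v : V6) (hv0 : v ≠ 0) : ∃ x : ↥CC, (x, tv v) ∈ R := by
  obtain ⟨l, hl, e⟩ := exists_word v hv0
  have hl' := wtab_ga l hl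
  have h0 : (1 : ℕ) ∈ ga := by decide
  have e2 : v = (tl l).1 *ᵥ dec6 1 := by rw [e, dec_foldr, tl_mulVec l]
  obtain ⟨x, hx⟩ := tl_partner l hl'
  obtain ⟨y, hy⟩ := tvc_partner 1 h0
  refine ⟨x * y * x⁻¹, ?_⟩
  have e3 : tv v = tl l * tvc 1 * (tl l)⁻¹ := by
    apply U_ext_mulVec
    intro z
    rw [tv_mulVec, U_mul_mulVec, U_mul_mulVec, tvc_mulVec, tf, mulVec_add, mulVec_smul,
      U_mulVec_inv_mulVec, ← e2]
    congr 2
    rw [← U_preserves (tl l) _ (dec6 1), U_mulVec_inv_mulVec, ← e2]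
  rw [e3]
  have h := R.mul_mem (R.mul_mem hx hy) (R.inv_mem hx)
  rwa [Prod.mk_mul_mk, Prod.inv_mk, Prod.mk_mul_mk] at h

theorem partner_of_tv (A : U) (hA : ∃ (w : Fin 3 ⊕ Fin 3 → ZMod 2) (c : ZMod 2),
    (A : Matrix (Fin 3 ⊕ Fin 3) (Fin 3 ⊕ Fin 3) (ZMod 2)) = Cfsg.sympTransvection 3 w c) :
    ∃ x : ↥CC, (x, A) ∈ R := by
  obtain ⟨w, c, hA⟩ := hA
  have key : ∀ c : ZMod 2, c = 0 ∨ c = 1 := by decide
  by_cases hw : w = 0
  · have : A = 1 := by
      apply U_ext_mulVec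
      intro x
      rw [hA, sympTransvection_mulVec, hw, U_one_mulVec]; simp
    rw [this]
    exact ⟨1, R.one_mem⟩
  rcases key c with rfl | rfl
  · have : A = 1 := by
      apply U_ext_mulVec
      intro x
      rw [hA, sympTransvection_mulVec, U_one_mulVec]; simp
    rw [this]
    exact ⟨1, R.one_mem⟩
  · have : A = tv w := Subtype.ext hA
    rw [this]
    exact tv_partner w hw

theorem order_tC : orderOf tC = 2 := by
  apply orderOf_eq_prime
  · rw [pow_two]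
    apply Subtype.ext
    have h1 : (t0 * t0).1 = (1 : ↥Co0).1 := congrArg Subtype.val t0_sq
    exact h1
  · intro h
    apply t0_ne
    apply Subtype.ext
    have h1 : tC.1 = (1 : ↥Spor.Co2).1 := congrArg Subtype.val h
    exact h1

theorem main : ∃ t : ↥Cfsg.Spor.Co2, orderOf t = 2 ∧
    Cfsg.IsExtraspecial 2 (Cfsg.pCore 2 ↥(Subgroup.centralizer ({t} : Set ↥Cfsg.Spor.Co2))) ∧
    Nat.card (Cfsg.pCore 2 ↥(Subgroup.centralizer ({t} : Set ↥Cfsg.Spor.Co2))) = 2 ^ 9 ∧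
    Nonempty (↥(Subgroup.centralizer ({t} : Set ↥Cfsg.Spor.Co2)) ⧸
      Cfsg.pCore 2 ↥(Subgroup.centralizer ({t} : Set ↥Cfsg.Spor.Co2)) ≃*
        Matrix.symplecticGroup (Fin 3) (ZMod 2)) := by
  obtain ⟨ψ, hψ⟩ := hom_of_relation R (fun c => exists_partner (ι_inC c))
    (fun u h => eq_one_of_rel h)
  have hsurj : Function.Surjective ψ := by
    intro u
    obtain ⟨c, hc⟩ := partners_of_closure R _ (Cfsg.Agent.S0765.result (F := ZMod 2) 3)
      partner_of_tv u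
    exact ⟨c, (hψ c u).1 hc⟩
  have hker : ∀ x : ↥CC, x ∈ ψ.ker ↔ ι x ∈ K0 := by
    intro x
    rw [MonoidHom.mem_ker, ← hψ x 1, mem_R]
    exact ⟨fun h => mem_K0_of_rel (ι_inC x) h, fun h => K0_rel h⟩
  let φ : ↥ψ.ker →* ↥K0 := (ι.comp ψ.ker.subtype).codRestrict K0 (fun x => (hker x.1).1 x.2)
  have hφ : Function.Bijective φ := by
    constructor
    · intro a b h
      exact Subtype.ext (ι_inj (congrArg Subtype.val h))
    · rintro ⟨k, hk⟩
      obtain ⟨g, hg⟩ := exists_ι (K0_inC hk)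
      exact ⟨⟨g, (hker g).2 (by rw [hg]; exact hk)⟩, Subtype.ext hg⟩
  let eK : ↥ψ.ker ≃* ↥K0 := MulEquiv.ofBijective φ hφ
  have hcard : Nat.card ↥ψ.ker = 2 ^ 9 := by rw [Nat.card_congr eK.toEquiv, card_K0]
  have : Fact (Nat.Prime 2) := ⟨Nat.prime_two⟩
  have hcore : Cfsg.pCore 2 ↥CC = ψ.ker :=
    pCore_eq_ker ψ hsurj (IsPGroup.of_card hcard) U_no_normal_two
  refine ⟨tC, order_tC, ?_, ?_, ?_⟩
  · rw [hcore]
    exact Cfsg.Agent.Lib.Helper4.ESCyclic.isExtraspecial_of_equiv eK.symm K0_extraspecial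
  · rw [hcore]
    exact hcard
  · exact ⟨(QuotientGroup.quotientMulEquivOfEq hcore).trans
      (QuotientGroup.quotientKerEquivOfSurjective ψ hsurj)⟩

end Cfsg.Agent.Lib.Helper54.C2
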