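/-
Helper library (helper54): an explicit finite generating set of the Leech lattice, in index form.
-/
import Cfsg.Agent.Lib.Helper7.LeechBasic
import Cfsg.Agent.Lib.Helper27.Code

set_option autoImplicit false

namespace Cfsg.Agent.Lib.Helper54

open Cfsg Cfsg.Agent.Lib.Helper7 Cfsg.Agent.Lib.Helper27

theorem sum_golayPt {M : Type*} [AddCommMonoid M] (f : GolayPt → M) :
    ∑ p, f p = ∑ k ∈ Finset.range 24, f (pt k) := by
  apply Finset.sum_nbij' idx pt
  · intro p _; exact Finset.mem_range.2 (idx_lt p)
  · intro k _; exact Finset.mem_univ _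
  · intro p _; exact pt_idx p
  · intro k hk; exact idx_pt (Finset.mem_range.1 hk)
  · intro p _; rw [pt_idx]

/-- the vector with given coordinates in index form -/
def vecOf (f : ℕ → ℤ) : GolayPt → ℤ := fun p => f (idx p)

/-- the `k`-th generator (`k < 49`) in index form -/
def genFn (k : ℕ) : ℕ → ℤ := fun i =>
  if k < 24 then (if (genMask k).testBit i = true then 2 else 0)
  else if k < 47 then (if i = k - 24 then 4 else if i = 23 then -4 else 0)
  else if k = 47 then (if i = 23 then 8 else 0)
  else (if i = 23 then -3 else 1)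

/-- the subgroup generated by the 49 generators -/
def genSub : AddSubgroup (GolayPt → ℤ) := AddSubgroup.closure {x | ∃ k < 49, x = vecOf (genFn k)}

theorem gen_mem_genSub {k : ℕ} (hk : k < 49) : vecOf (genFn k) ∈ genSub :=
  AddSubgroup.subset_closure ⟨k, hk, rfl⟩

theorem zmod2_add_val : ∀ a b : ZMod 2,
    (2 * (a.val : ℤ) + 2 * (b.val : ℤ)) % 4 = (2 * ((a + b).val : ℤ)) % 4 := by decide

theorem code_lift (w : GolayPt → ZMod 2) (hw : w ∈ golayCode) :
    ∃ y ∈ genSub, ∀ p, y p % 4 = (2 * ((w p).val : ℤ)) % 4 := by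
  unfold golayCode at hw
  induction hw using Submodule.span_induction with
  | mem w hw =>
    have key : ∀ t < 24, ∀ p, vecOf (genFn t) p = 2 * ((wordOf (genMask t) p).val : ℤ) := by
      intro t ht p
      simp only [vecOf, genFn, ht, if_true, wordOf]
      by_cases h : (genMask t).testBit (idx p) = true
      · simp [h, ZMod.val_one]
      · simp [h]
    rcases hw with ⟨t, rfl⟩ | hw
    · refine ⟨vecOf (genFn t.val), gen_mem_genSub (by have := ZMod.val_lt t; omega), fun p => ?_⟩
      rw [qrWord_eq, key _ (by have := ZMod.val_lt t; omega)]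
    · rw [Set.mem_singleton_iff] at hw
      subst hw
      refine ⟨vecOf (genFn 23), gen_mem_genSub (by norm_num), fun p => ?_⟩
      rw [one_eq_wordOf, key _ (by norm_num)]
  | zero => exact ⟨0, genSub.zero_mem, fun p => by simp⟩
  | add v w _ _ hv hw =>
    obtain ⟨y, hy, h1⟩ := hv
    obtain ⟨z, hz, h2⟩ := hw
    refine ⟨y + z, genSub.add_mem hy hz, fun p => ?_⟩
    have h3 := zmod2_add_val (v p) (w p)
    have := h1 p
    have := h2 p
    simp only [Pi.add_apply]
    omega
  | smul c w _ hw =>
    obtain ⟨y, hy, h1⟩ := hw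
    have hc : c = 0 ∨ c = 1 := by revert c; decide
    rcases hc with rfl | rfl
    · exact ⟨0, genSub.zero_mem, fun p => by simp⟩
    · exact ⟨y, hy, fun p => by rw [one_smul]; exact h1 p⟩

theorem mem_genSub_of_four_dvd (x : GolayPt → ℤ) (hx : x ∈ leechLattice) (h4 : ∀ p, x p % 4 = 0) :
    x ∈ genSub := by
  rw [mem_leechLattice_iff, mem_leechSet_iff] at hx
  obtain ⟨m, h1, h2, -⟩ := hx
  have hS : (∑ p, x p) % 8 = 0 := by
    have e1 := h1 none
    have e2 := h4 none
    simp only [Int.ModEq] at e1 h2
    omega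
  have hdec : x = ∑ j ∈ Finset.range 23, (x (pt j) / 4) • vecOf (genFn (24 + j))
      + ((∑ p, x p) / 8) • vecOf (genFn 47) := by
    funext p
    simp only [Pi.add_apply, Finset.sum_apply, Pi.smul_apply, smul_eq_mul]
    have g1 : ∀ j ∈ Finset.range 23, x (pt j) / 4 * vecOf (genFn (24 + j)) p
        = if idx p = j then x (pt j) else if idx p = 23 then - x (pt j) else 0 := by
      intro j hj
      have hj' := Finset.mem_range.1 hj
      have e := h4 (pt j)
      simp only [vecOf, genFn]
      rw [if_neg (by omega), if_pos (by omega)]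
      have : 24 + j - 24 = j := by omega
      rw [this]
      split_ifs <;> omega
    rw [Finset.sum_congr rfl g1]
    have g2 : vecOf (genFn 47) p = if idx p = 23 then 8 else 0 := by
      simp [vecOf, genFn]
    rw [g2]
    by_cases hp : idx p = 23
    · have g3 : ∀ j ∈ Finset.range 23, (if idx p = j then x (pt j) else
          if idx p = 23 then - x (pt j) else 0) = - x (pt j) := by
        intro j hj
        have hj' := Finset.mem_range.1 hj
        rw [if_neg (by omega), if_pos hp]
      have hsum : ∑ p, x p = ∑ j ∈ Finset.range 23, x (pt j) + x (pt 23) := by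
        rw [sum_golayPt, Finset.sum_range_succ]
      rw [Finset.sum_congr rfl g3, if_pos hp, Finset.sum_neg_distrib]
      rw [hsum] at hS ⊢
      have : x p = x (pt 23) := by rw [← hp, pt_idx]
      rw [this]
      omega
    · have hlt : idx p < 23 := by have := idx_lt p; omega
      rw [if_neg hp, mul_zero, add_zero, Finset.sum_eq_single (idx p)]
      · rw [if_pos rfl, pt_idx]
      · intro j _ hj
        rw [if_neg (Ne.symm hj), if_neg hp]
      · intro h; exact absurd (Finset.mem_range.2 hlt) h
  rw [hdec]
  apply genSub.add_mem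
  · apply AddSubgroup.sum_mem
    intro j hj
    have hj' := Finset.mem_range.1 hj
    exact genSub.zsmul_mem (gen_mem_genSub (by omega)) _
  · exact genSub.zsmul_mem (gen_mem_genSub (by norm_num)) _

/-- kernel-friendly sum `∑ i < n, f i` -/
def sumBelow (f : ℕ → ℤ) (n : ℕ) : ℤ := Nat.rec 0 (fun k ih => Int.add ih (f k)) n

theorem sumBelow_eq (f : ℕ → ℤ) (n : ℕ) : sumBelow f n = ∑ i ∈ Finset.range n, f i := by
  induction n with
  | zero => rfl
  | succ n ih =>
    rw [Finset.sum_range_succ, ← ih]
    rfl

/-- the mask of the positions where `f i ≡ m + 2 (mod 4)` -/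
def leechMask (f : ℕ → ℤ) (m : ℤ) : ℕ :=
  Nat.ofBits (fun i : Fin 24 => decide (f i % 4 = (m + 2) % 4))

/-- Boolean membership test for the Leech lattice, in index form -/
def isLeechFn (f : ℕ → ℤ) : Bool :=
  band (allBelow (fun i => decide (f i % 2 = f 0 % 2)) 24)
    (band (decide (sumBelow f 24 % 8 = (4 * (f 0 % 2)) % 8)) (isCode (leechMask f (f 0 % 2))))

theorem vecOf_mem_of_isLeechFn {f : ℕ → ℤ} (h : isLeechFn f = true) : vecOf f ∈ leechLattice := by
  unfold isLeechFn at h
  rw [band_eq, band_eq, Bool.and_eq_true, Bool.and_eq_true, allBelow_iff, decide_eq_true_eq] at h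
  obtain ⟨h1, h2, h3⟩ := h
  rw [mem_leechLattice_iff, mem_leechSet_iff]
  refine ⟨f 0 % 2, fun p => ?_, ?_, ?_⟩
  · have := h1 (idx p) (idx_lt p)
    rw [decide_eq_true_eq] at this
    simp only [Int.ModEq, vecOf]
    omega
  · rw [sum_golayPt]
    have e : ∀ k ∈ Finset.range 24, vecOf f (pt k) = f k := by
      intro k hk
      simp only [vecOf]
      rw [idx_pt (Finset.mem_range.1 hk)]
    rw [Finset.sum_congr rfl e, ← sumBelow_eq]
    exact h2
  · rw [mem_supports_iff]
    have e : mask (Finset.univ.filter fun i => vecOf f i ≡ f 0 % 2 + 2 [ZMOD 4])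
        = leechMask f (f 0 % 2) := by
      unfold mask leechMask
      congr 1
      funext i
      apply decide_eq_decide.2
      rw [Finset.mem_filter]
      simp only [Finset.mem_univ, true_and]
      unfold vecOf Int.ModEq
      rw [idx_pt i.2]
    rw [e]; exact h3

theorem gen_mem_leech : ∀ k < 49, vecOf (genFn k) ∈ leechLattice := by
  have h : allBelow (fun k => isLeechFn (genFn k)) 49 = true := by decide +kernel
  intro k hk
  exact vecOf_mem_of_isLeechFn ((allBelow_iff _ _).1 h k hk)

theorem genSub_le : genSub ≤ leechLattice := by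
  unfold genSub
  rw [AddSubgroup.closure_le]
  rintro x ⟨k, hk, rfl⟩
  exact gen_mem_leech k hk

theorem mem_genSub_of_two_dvd (x : GolayPt → ℤ) (hx : x ∈ leechLattice) (h2 : ∀ p, x p % 2 = 0) :
    x ∈ genSub := by
  have hx' := hx
  rw [mem_leechLattice_iff] at hx'
  obtain ⟨m, -, -, h3⟩ := hx'
  obtain ⟨w, hw, hws⟩ := h3 2
  obtain ⟨y, hy, hyw⟩ := code_lift w hw
  have hxy : x - y ∈ genSub := by
    apply mem_genSub_of_four_dvd _ (leechLattice.sub_mem hx (genSub_le hy))
    intro p
    have e1 := hyw p
    have e2 := h2 p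
    have e3 : p ∈ support₂ w ↔ x p ≡ 2 [ZMOD 4] := by
      rw [hws]; simp
    simp only [support₂, Finset.mem_filter, Finset.mem_univ, true_and, Int.ModEq] at e3
    have e4 : w p = 0 ∨ w p = 1 := by generalize w p = a; revert a; decide
    simp only [Pi.sub_apply]
    rcases e4 with e4 | e4
    · rw [e4] at e1 e3
      simp at e1 e3
      omega
    · rw [e4] at e1 e3
      simp [ZMod.val_one] at e1 e3
      omega
  have := genSub.add_mem hxy hy
  rwa [sub_add_cancel] at this

theorem leechLattice_eq_genSub : leechLattice = genSub := by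
  apply le_antisymm _ genSub_le
  intro x hx
  have hx' := hx
  rw [mem_leechLattice_iff] at hx'
  obtain ⟨m, h1, -, -⟩ := hx'
  have hu := gen_mem_genSub (show 48 < 49 by norm_num)
  have hxu : x - m • vecOf (genFn 48) ∈ genSub := by
    apply mem_genSub_of_two_dvd _ (leechLattice.sub_mem hx (leechLattice.zsmul_mem (genSub_le hu) m))
    intro p
    have e1 := h1 p
    simp only [Int.ModEq] at e1
    simp only [Pi.sub_apply, Pi.smul_apply, smul_eq_mul, vecOf, genFn]
    rw [if_neg (by norm_num), if_neg (by norm_num), if_neg (by norm_num)]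
    split_ifs <;> omega
  have := genSub.add_mem hxu (genSub.zsmul_mem hu m)
  rwa [sub_add_cancel] at this

/-- induction principle: an additive subgroup containing the 49 generators contains the lattice. -/
theorem leechLattice_le_of_gens (K : AddSubgroup (GolayPt → ℤ))
    (h : ∀ k < 49, vecOf (genFn k) ∈ K) : leechLattice ≤ K := by
  rw [leechLattice_eq_genSub]
  unfold genSub
  rw [AddSubgroup.closure_le]
  rintro x ⟨k, hk, rfl⟩
  exact h k hk

end Cfsg.Agent.Lib.Helper54
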