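/-
Helper library (helper54): integer matrices `A` with `Aᵀ A = 64`, `A Λ ⊆ 8 Λ`, `Aᵀ Λ ⊆ 8 Λ` give elements of `Co0`
(acting as `A / 8`).
-/
import Cfsg.Agent.Lib.Helper54.Co0Gen

set_option autoImplicit false

namespace Cfsg.Agent.Lib.Helper54

open Cfsg Matrix

/-- certificate that `A / 8` is an automorphism of the Leech lattice -/
structure IsCo0Mat (A : Matrix GolayPt GolayPt ℤ) : Prop where
  orth : Aᵀ * A = (64 : ℤ) • (1 : Matrix GolayPt GolayPt ℤ)
  orth' : A * Aᵀ = (64 : ℤ) • (1 : Matrix GolayPt GolayPt ℤ)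
  map : ∀ k < 49, ∃ z ∈ leechLattice, A *ᵥ vecOf (genFn k) = (8 : ℤ) • z
  mapT : ∀ k < 49, ∃ z ∈ leechLattice, Aᵀ *ᵥ vecOf (genFn k) = (8 : ℤ) • z

theorem map_all_of_gens (A : Matrix GolayPt GolayPt ℤ)
    (h : ∀ k < 49, ∃ z ∈ leechLattice, A *ᵥ vecOf (genFn k) = (8 : ℤ) • z) :
    ∀ x ∈ leechLattice, ∃ z ∈ leechLattice, A *ᵥ x = (8 : ℤ) • z := by
  let K : AddSubgroup (GolayPt → ℤ) :=
    { carrier := {x | ∃ z ∈ leechLattice, A *ᵥ x = (8 : ℤ) • z}
      zero_mem' := ⟨0, leechLattice.zero_mem, by simp⟩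
      add_mem' := by
        rintro a b ⟨z, hz, h1⟩ ⟨w, hw, h2⟩
        exact ⟨z + w, leechLattice.add_mem hz hw, by rw [mulVec_add, h1, h2, smul_add]⟩
      neg_mem' := by
        rintro a ⟨z, hz, h1⟩
        exact ⟨-z, leechLattice.neg_mem hz, by rw [mulVec_neg, h1, smul_neg]⟩ }
  exact fun x hx => leechLattice_le_of_gens K h hx

/-- the action of `A / 8` -/
def act (A : Matrix GolayPt GolayPt ℤ) (x : GolayPt → ℤ) : GolayPt → ℤ := fun p => (A *ᵥ x) p / 8

theorem act_eq {A : Matrix GolayPt GolayPt ℤ} {x z : GolayPt → ℤ} (h : A *ᵥ x = (8 : ℤ) • z) :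
    act A x = z := by
  funext p
  simp [act, h]

theorem eight_smul_injective {x y : GolayPt → ℤ} (h : (8 : ℤ) • x = (8 : ℤ) • y) : x = y := by
  funext p
  have := congrFun h p
  simp only [Pi.smul_apply, smul_eq_mul] at this
  omega

theorem sqNorm_eq_dotProduct (x : GolayPt → ℤ) : sqNorm x = x ⬝ᵥ x := by
  unfold sqNorm dotProduct
  exact Finset.sum_congr rfl (fun i _ => pow_two _)

theorem sqNorm_mulVec {A : Matrix GolayPt GolayPt ℤ}
    (h : Aᵀ * A = (64 : ℤ) • (1 : Matrix GolayPt GolayPt ℤ)) (x : GolayPt → ℤ) :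
    sqNorm (A *ᵥ x) = 64 * sqNorm x := by
  rw [sqNorm_eq_dotProduct, sqNorm_eq_dotProduct, dotProduct_mulVec, ← mulVec_transpose,
    mulVec_mulVec, h, smul_mulVec, one_mulVec, smul_dotProduct, smul_eq_mul]

theorem sqNorm_eight_smul (z : GolayPt → ℤ) : sqNorm ((8 : ℤ) • z) = 64 * sqNorm z := by
  unfold sqNorm
  rw [Finset.mul_sum]
  apply Finset.sum_congr rfl
  intro i _
  simp only [Pi.smul_apply, smul_eq_mul]
  ring

namespace IsCo0Mat

variable {A : Matrix GolayPt GolayPt ℤ}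

theorem transpose (h : IsCo0Mat A) : IsCo0Mat Aᵀ :=
  ⟨by rw [transpose_transpose]; exact h.orth', by rw [transpose_transpose]; exact h.orth,
    h.mapT, by rw [transpose_transpose]; exact h.map⟩

theorem mulVec_eq (h : IsCo0Mat A) {x : GolayPt → ℤ} (hx : x ∈ leechLattice) :
    A *ᵥ x = (8 : ℤ) • act A x := by
  obtain ⟨z, -, hz⟩ := map_all_of_gens A h.map x hx
  rw [act_eq hz, hz]

theorem act_mem (h : IsCo0Mat A) {x : GolayPt → ℤ} (hx : x ∈ leechLattice) :
    act A x ∈ leechLattice := by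
  obtain ⟨z, hz1, hz⟩ := map_all_of_gens A h.map x hx
  rw [act_eq hz]; exact hz1

theorem act_act (h : IsCo0Mat A) {x : GolayPt → ℤ} (hx : x ∈ leechLattice) :
    act Aᵀ (act A x) = x := by
  apply eight_smul_injective
  rw [← h.transpose.mulVec_eq (h.act_mem hx)]
  apply eight_smul_injective
  rw [← mulVec_smul, ← h.mulVec_eq hx, mulVec_mulVec, h.orth, smul_mulVec, one_mulVec, smul_smul]
  norm_num

/-- the element of `Co0` defined by a certified matrix -/
def toCo0 (h : IsCo0Mat A) : ↥Co0 :=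
  ⟨{ toFun := fun v => ⟨act A v, h.act_mem v.2⟩
     invFun := fun v => ⟨act Aᵀ v, h.transpose.act_mem v.2⟩
     left_inv := fun v => Subtype.ext (h.act_act v.2)
     right_inv := fun v => Subtype.ext (by
       have := h.transpose.act_act v.2
       rwa [transpose_transpose] at this) },
   by
    constructor
    · intro v w
      apply Subtype.ext
      apply eight_smul_injective
      show (8 : ℤ) • act A ((v : GolayPt → ℤ) + w) = (8 : ℤ) • (act A v + act A w)
      rw [smul_add, ← h.mulVec_eq v.2, ← h.mulVec_eq w.2,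
        ← h.mulVec_eq (leechLattice.add_mem v.2 w.2), mulVec_add]
    · intro v
      show sqNorm (act A v) = sqNorm (v : GolayPt → ℤ)
      have h1 := sqNorm_mulVec h.orth (v : GolayPt → ℤ)
      rw [h.mulVec_eq v.2, sqNorm_eight_smul] at h1
      omega⟩

theorem toCo0_smul (h : IsCo0Mat A) (v : ↥leechLattice) :
    ((h.toCo0 • v : ↥leechLattice) : GolayPt → ℤ) = act A v := rfl

theorem eight_smul_toCo0_smul (h : IsCo0Mat A) (v : ↥leechLattice) :
    (8 : ℤ) • ((h.toCo0 • v : ↥leechLattice) : GolayPt → ℤ) = A *ᵥ (v : GolayPt → ℤ) := by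
  rw [toCo0_smul, ← h.mulVec_eq v.2]

end IsCo0Mat

/-! ### general facts on `Co0` -/

theorem co0_add (g : ↥Co0) (v w : ↥leechLattice) : g • (v + w) = g • v + g • w := g.2.1 v w

theorem co0_sqNorm (g : ↥Co0) (v : ↥leechLattice) :
    sqNorm ((g • v : ↥leechLattice) : GolayPt → ℤ) = sqNorm (v : GolayPt → ℤ) := g.2.2 v

theorem sqNorm_add (x y : GolayPt → ℤ) : sqNorm (x + y) = sqNorm x + 2 * dotInt x y + sqNorm y := by
  unfold sqNorm dotInt
  rw [Finset.mul_sum, ← Finset.sum_add_distrib, ← Finset.sum_add_distrib]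
  apply Finset.sum_congr rfl
  intro i _
  simp only [Pi.add_apply]
  ring

theorem co0_dotInt (g : ↥Co0) (v w : ↥leechLattice) :
    dotInt ((g • v : ↥leechLattice) : GolayPt → ℤ) ((g • w : ↥leechLattice) : GolayPt → ℤ)
      = dotInt (v : GolayPt → ℤ) (w : GolayPt → ℤ) := by
  have h1 := co0_sqNorm g (v + w)
  rw [co0_add] at h1
  have h2 := sqNorm_add ((g • v : ↥leechLattice) : GolayPt → ℤ) ((g • w : ↥leechLattice) : GolayPt → ℤ)
  have h3 := sqNorm_add (v : GolayPt → ℤ) (w : GolayPt → ℤ)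
  have h4 := co0_sqNorm g v
  have h5 := co0_sqNorm g w
  simp only [AddSubgroup.coe_add] at h1
  omega

theorem co0_zero (g : ↥Co0) : g • (0 : ↥leechLattice) = 0 := by
  have := co0_add g 0 0
  rw [add_zero] at this
  exact left_eq_add.1 this

theorem co0_neg (g : ↥Co0) (v : ↥leechLattice) : g • (-v) = -(g • v) := by
  have := co0_add g v (-v)
  rw [add_neg_cancel, co0_zero] at this
  exact (neg_eq_of_add_eq_zero_right this.symm).symm

theorem co0_sub (g : ↥Co0) (v w : ↥leechLattice) : g • (v - w) = g • v - g • w := by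
  rw [sub_eq_add_neg, co0_add, co0_neg, sub_eq_add_neg]

end Cfsg.Agent.Lib.Helper54
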