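/-
Helper library (helper54): packed encodings of short integer vectors (24 digits in base `8192`, offset `8`), and a
kernel-fast matrix-vector product on encodings.
-/
import Cfsg.Agent.Lib.Helper54.Co0Mat

set_option autoImplicit false

namespace Cfsg.Agent.Lib.Helper54

open Cfsg Matrix Cfsg.Agent.Lib.Helper27

/-! ### digits in base 8192 -/

/-- the `i`-th digit of `X` in base `8192` -/
def dig (X i : ℕ) : ℕ := Nat.land (Nat.shiftRight X (Nat.mul 13 i)) 8191

theorem dig_eq (X i : ℕ) : dig X i = X / 8192 ^ i % 8192 := by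
  show (X >>> (13 * i)) &&& 8191 = _
  rw [Nat.shiftRight_eq_div_pow, show (8191 : ℕ) = 2 ^ 13 - 1 by norm_num,
    Nat.and_two_pow_sub_one_eq_mod, pow_mul]
  norm_num

theorem dig_zero (X : ℕ) : dig X 0 = X % 8192 := by rw [dig_eq]; simp

theorem dig_succ (X i : ℕ) : dig X (i + 1) = dig (X / 8192) i := by
  rw [dig_eq, dig_eq, Nat.div_div_eq_div_mul, pow_succ, mul_comm]

theorem dig_lt (X i : ℕ) : dig X i < 8192 := by
  rw [dig_eq]; exact Nat.mod_lt _ (by norm_num)

theorem sum_dig (X n : ℕ) : ∑ i ∈ Finset.range n, dig X i * 8192 ^ i = X % 8192 ^ n := by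
  induction n with
  | zero => simp [Nat.mod_one]
  | succ n ih =>
    rw [Finset.sum_range_succ, ih, Nat.mod_pow_succ, dig_eq, mul_comm]

theorem sum_dig_of_lt {X n : ℕ} (h : X < 8192 ^ n) :
    ∑ i ∈ Finset.range n, dig X i * 8192 ^ i = X := by
  rw [sum_dig, Nat.mod_eq_of_lt h]

theorem sum_lt_pow (f : ℕ → ℕ) (hf : ∀ i, f i < 8192) (n : ℕ) :
    ∑ i ∈ Finset.range n, f i * 8192 ^ i < 8192 ^ n := by
  induction n with
  | zero => simp
  | succ n ih =>
    rw [Finset.sum_range_succ, pow_succ]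
    have := hf n
    have hp : 0 < 8192 ^ n := by positivity
    nlinarith

theorem dig_sum (f : ℕ → ℕ) (hf : ∀ i, f i < 8192) (n k : ℕ) (hk : k < n) :
    dig (∑ i ∈ Finset.range n, f i * 8192 ^ i) k = f k := by
  induction k generalizing f n with
  | zero =>
    obtain ⟨m, rfl⟩ : ∃ m, n = m + 1 := ⟨n - 1, by omega⟩
    rw [dig_zero, Finset.sum_range_succ']
    have : ∑ i ∈ Finset.range m, f (i + 1) * 8192 ^ (i + 1)
        = 8192 * ∑ i ∈ Finset.range m, f (i + 1) * 8192 ^ i := by
      rw [Finset.mul_sum]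
      exact Finset.sum_congr rfl (fun i _ => by ring)
    rw [this, pow_zero, mul_one, Nat.mul_add_mod, Nat.mod_eq_of_lt (hf 0)]
  | succ k ih =>
    obtain ⟨m, rfl⟩ : ∃ m, n = m + 1 := ⟨n - 1, by omega⟩
    rw [dig_succ, Finset.sum_range_succ']
    have : ∑ i ∈ Finset.range m, f (i + 1) * 8192 ^ (i + 1)
        = 8192 * ∑ i ∈ Finset.range m, f (i + 1) * 8192 ^ i := by
      rw [Finset.mul_sum]
      exact Finset.sum_congr rfl (fun i _ => by ring)
    rw [this, pow_zero, mul_one, Nat.mul_add_div (by norm_num), Nat.div_eq_of_lt (hf 0), add_zero]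
    exact ih (fun i => f (i + 1)) (fun i => hf _) m (by omega)

/-! ### encodings -/

/-- the code of an integer vector with coordinates in `[-8, 8183]` -/
def enc (x : GolayPt → ℤ) : ℕ := ∑ k ∈ Finset.range 24, (x (pt k) + 8).toNat * 8192 ^ k

/-- the vector of a code, in index form -/
def decFn (X : ℕ) : ℕ → ℤ := fun i => Int.sub (Int.ofNat (dig X i)) 8

theorem decFn_apply (X i : ℕ) : decFn X i = (dig X i : ℤ) - 8 := rfl

/-- a vector is small when all its coordinates have absolute value at most 8 -/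
def Small (x : GolayPt → ℤ) : Prop := ∀ p, -8 ≤ x p ∧ x p ≤ 8

theorem dig_enc {x : GolayPt → ℤ} (hx : Small x) {k : ℕ} (hk : k < 24) :
    (dig (enc x) k : ℤ) = x (pt k) + 8 := by
  unfold enc
  rw [dig_sum (fun k => (x (pt k) + 8).toNat) (fun i => by have := hx (pt i); omega) 24 k hk]
  have := hx (pt k)
  omega

theorem vecOf_decFn_enc {x : GolayPt → ℤ} (hx : Small x) : vecOf (decFn (enc x)) = x := by
  funext p
  simp only [vecOf, decFn_apply]
  rw [dig_enc hx (idx_lt p), pt_idx]
  ring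

theorem enc_cast {x : GolayPt → ℤ} (hx : Small x) :
    ((enc x : ℕ) : ℤ) = ∑ k ∈ Finset.range 24, (x (pt k) + 8) * 8192 ^ k := by
  unfold enc
  push_cast
  apply Finset.sum_congr rfl
  intro k _
  have := hx (pt k)
  rw [Int.toNat_of_nonneg (by omega)]

theorem small_of_sqNorm_le {x : GolayPt → ℤ} (h : sqNorm x ≤ 64) : Small x := by
  intro p
  have h1 : x p ^ 2 ≤ sqNorm x := by
    unfold sqNorm
    exact Finset.single_le_sum (f := fun i => x i ^ 2) (fun i _ => sq_nonneg _) (Finset.mem_univ p)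
  constructor <;> nlinarith

/-! ### matrices given by packed columns -/

/-- entry `(i, j)` of the matrix whose `j`-th column has code `cols[j]` -/
def entry (cols : List ℕ) (i j : ℕ) : ℤ := decFn (cols.getD j 0) i

/-- the matrix with packed columns `cols` -/
def matOf (cols : List ℕ) : Matrix GolayPt GolayPt ℤ := fun p q => entry cols (idx p) (idx q)

theorem matOf_mulVec (cols : List ℕ) (x : GolayPt → ℤ) (p : GolayPt) :
    (matOf cols *ᵥ x) p = ∑ j ∈ Finset.range 24, entry cols (idx p) j * x (pt j) := by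
  unfold mulVec dotProduct
  rw [sum_golayPt]
  apply Finset.sum_congr rfl
  intro j hj
  simp only [matOf]
  rw [idx_pt (Finset.mem_range.1 hj)]

theorem matOf_transpose_mulVec (cols : List ℕ) (x : GolayPt → ℤ) (p : GolayPt) :
    ((matOf cols)ᵀ *ᵥ x) p = ∑ j ∈ Finset.range 24, entry cols j (idx p) * x (pt j) := by
  unfold mulVec dotProduct
  rw [sum_golayPt]
  apply Finset.sum_congr rfl
  intro j hj
  simp only [matOf, transpose_apply]
  rw [idx_pt (Finset.mem_range.1 hj)]

/-! ### the fast product -/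

/-- `∑ i < 24, 8192 ^ i`, times 1600 -/
def K1 : ℕ := 1600 * ((8192 ^ 24 - 1) / 8191)
/-- `∑ i < 24, 8192 ^ i`, times 8 -/
def ONES8 : ℕ := 8 * ((8192 ^ 24 - 1) / 8191)

theorem ones_eq : (8192 ^ 24 - 1) / 8191 = ∑ i ∈ Finset.range 24, 8192 ^ i := by
  simp only [Finset.sum_range_succ, Finset.sum_range_zero]
  norm_num

/-- the last step of the fast product -/
def finStep (T8 W S : ℕ) : ℕ := Nat.div (Nat.sub (Nat.add W K1) (Nat.add (Nat.mul S ONES8) T8)) 8

/-- the loop of the fast product -/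
def goW (T8 : ℕ) (cols : List ℕ) : ℕ → ℕ → ℕ → ℕ :=
  List.rec (motive := fun _ => ℕ → ℕ → ℕ → ℕ)
    (fun _ W S => finStep T8 W S)
    (fun C _ ih X W S => ih (Nat.shiftRight X 13) (Nat.add W (Nat.mul (Nat.land X 8191) C))
      (Nat.add S (Nat.land X 8191))) cols

theorem goW_nil (T8 X W S : ℕ) : goW T8 [] X W S = finStep T8 W S := rfl

theorem goW_cons (T8 C : ℕ) (Cs : List ℕ) (X W S : ℕ) :
    goW T8 (C :: Cs) X W S = goW T8 Cs (X / 8192) (W + dig X 0 * C) (S + dig X 0) := by
  have h1 : Nat.shiftRight X 13 = X / 8192 := by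
    show X >>> 13 = _
    rw [Nat.shiftRight_eq_div_pow]
  have h2 : Nat.land X 8191 = dig X 0 := rfl
  show goW T8 Cs (Nat.shiftRight X 13) (Nat.add W (Nat.mul (Nat.land X 8191) C))
      (Nat.add S (Nat.land X 8191)) = _
  rw [h1, h2]
  rfl

theorem goW_eq (T8 : ℕ) (cols : List ℕ) (X W S : ℕ) :
    goW T8 cols X W S = finStep T8 (W + ∑ j ∈ Finset.range cols.length, dig X j * cols.getD j 0)
      (S + ∑ j ∈ Finset.range cols.length, dig X j) := by
  induction cols generalizing X W S with
  | nil => simp [goW_nil]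
  | cons C Cs ih =>
    rw [goW_cons, ih, List.length_cons, Finset.sum_range_succ', Finset.sum_range_succ']
    congr 1
    · simp only [dig_succ, List.getD_cons_succ, List.getD_cons_zero]
      ring
    · simp only [dig_succ]
      ring

/-- the fast product: the code of `A x / 8` from the code of `x` -/
def appFast (T8 : ℕ) (cols : List ℕ) (X : ℕ) : ℕ := goW T8 cols X 0 0

theorem key_identity (d yv : ℕ → ℤ) (c : ℕ → ℕ → ℤ) (b : ℤ)
    (h : ∀ i ∈ Finset.range 24, ∑ j ∈ Finset.range 24, (c i j - 8) * (d j - 8) = 8 * (yv i - 8)) :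
    ∑ j ∈ Finset.range 24, d j * (∑ i ∈ Finset.range 24, c i j * b ^ i)
        + 1600 * ∑ i ∈ Finset.range 24, b ^ i
      = 8 * ∑ i ∈ Finset.range 24, yv i * b ^ i
        + ((∑ j ∈ Finset.range 24, d j) * (8 * ∑ i ∈ Finset.range 24, b ^ i)
          + 8 * ∑ j ∈ Finset.range 24, ∑ i ∈ Finset.range 24, c i j * b ^ i) := by
  have e1 : ∑ j ∈ Finset.range 24, d j * (∑ i ∈ Finset.range 24, c i j * b ^ i)
      = ∑ i ∈ Finset.range 24, (∑ j ∈ Finset.range 24, d j * c i j) * b ^ i := by
    simp only [Finset.mul_sum, Finset.sum_mul]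
    rw [Finset.sum_comm]
    exact Finset.sum_congr rfl (fun i _ => Finset.sum_congr rfl (fun j _ => by ring))
  have e2 : ∑ j ∈ Finset.range 24, ∑ i ∈ Finset.range 24, c i j * b ^ i
      = ∑ i ∈ Finset.range 24, (∑ j ∈ Finset.range 24, c i j) * b ^ i := by
    simp only [Finset.sum_mul]
    rw [Finset.sum_comm]
  rw [e1, e2]
  simp only [Finset.mul_sum, ← Finset.sum_add_distrib]
  apply Finset.sum_congr rfl
  intro i hi
  have h1 := h i hi
  have h2 : ∑ j ∈ Finset.range 24, (c i j - 8) * (d j - 8)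
      = ∑ j ∈ Finset.range 24, d j * c i j - 8 * ∑ j ∈ Finset.range 24, c i j
        - 8 * ∑ j ∈ Finset.range 24, d j + 1536 := by
    have : ∀ j ∈ Finset.range 24, (c i j - 8) * (d j - 8) = d j * c i j - 8 * c i j - 8 * d j + 64 :=
      fun j _ => by ring
    rw [Finset.sum_congr rfl this, Finset.sum_add_distrib, Finset.sum_sub_distrib,
      Finset.sum_sub_distrib, ← Finset.mul_sum, ← Finset.mul_sum]
    simp
  rw [h2] at h1
  have h3 : ∑ j ∈ Finset.range 24, d j * c i j = 8 * (yv i - 8) + 8 * ∑ j ∈ Finset.range 24, c i j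
      + 8 * ∑ j ∈ Finset.range 24, d j - 1536 := by linarith
  rw [h3]
  ring

theorem list_sum_eq (l : List ℕ) : l.sum = ∑ j ∈ Finset.range l.length, l.getD j 0 := by
  induction l with
  | nil => simp
  | cons a l ih =>
    rw [List.sum_cons, List.length_cons, Finset.sum_range_succ', ih]
    simp only [List.getD_cons_succ, List.getD_cons_zero]
    ring

/-- validity of the packed columns -/
def colsOK (T8 : ℕ) (cols : List ℕ) : Bool :=
  band (Nat.beq cols.length 24)
    (band (allList (fun C => Nat.blt C (8192 ^ 24)) cols) (Nat.beq T8 (Nat.mul 8 cols.sum)))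

theorem appFast_enc {T8 : ℕ} {cols : List ℕ} (hc : colsOK T8 cols = true) {x y : GolayPt → ℤ}
    (hx : Small x) (hy : Small y) (h : matOf cols *ᵥ x = (8 : ℤ) • y) :
    appFast T8 cols (enc x) = enc y := by
  unfold colsOK at hc
  rw [band_eq, band_eq, Bool.and_eq_true, Bool.and_eq_true, Nat.beq_eq, Nat.beq_eq, allList_iff] at hc
  obtain ⟨hlen, hlt, hT⟩ := hc
  have hlt' : ∀ j ∈ Finset.range 24, cols.getD j 0
      = ∑ i ∈ Finset.range 24, dig (cols.getD j 0) i * 8192 ^ i := by
    intro j hj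
    rw [sum_dig_of_lt]
    have hj' : j < cols.length := by rw [hlen]; exact Finset.mem_range.1 hj
    rw [List.getD_eq_getElem _ _ hj']
    have := hlt _ (List.getElem_mem hj')
    exact Nat.le_of_ble_eq_true this
  have hsum : cols.sum = ∑ j ∈ Finset.range 24, cols.getD j 0 := by
    rw [← hlen, list_sum_eq]
  unfold appFast
  rw [goW_eq, hlen, zero_add, zero_add]
  unfold finStep
  have main : (∑ j ∈ Finset.range 24, dig (enc x) j * cols.getD j 0) + K1
      = 8 * enc y + ((∑ j ∈ Finset.range 24, dig (enc x) j) * ONES8 + T8) := by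
    have hk := key_identity (fun j => (dig (enc x) j : ℤ)) (fun i => y (pt i) + 8)
      (fun i j => (dig (cols.getD j 0) i : ℤ)) 8192 (by
        intro i hi
        have h1 := congrFun h (pt i)
        rw [matOf_mulVec, idx_pt (Finset.mem_range.1 hi)] at h1
        simp only [Pi.smul_apply, smul_eq_mul] at h1
        rw [add_sub_cancel_right, ← h1]
        apply Finset.sum_congr rfl
        intro j hj
        rw [dig_enc hx (Finset.mem_range.1 hj), add_sub_cancel_right]
        rfl)
    have hcast : ∀ j ∈ Finset.range 24, ((cols.getD j 0 : ℕ) : ℤ)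
        = ∑ i ∈ Finset.range 24, (dig (cols.getD j 0) i : ℤ) * 8192 ^ i := by
      intro j hj
      conv_lhs => rw [hlt' j hj]
      push_cast
      rfl
    have hT' : T8 = 8 * ∑ j ∈ Finset.range 24, cols.getD j 0 := by rw [hT, hsum]; rfl
    zify
    rw [enc_cast hy, hT', K1, ONES8, ones_eq]
    push_cast
    rw [Finset.sum_congr rfl hcast,
      Finset.sum_congr rfl (fun j hj => by rw [hcast j hj] :
        ∀ j ∈ Finset.range 24, (dig (enc x) j : ℤ) * ((cols.getD j 0 : ℕ) : ℤ)
          = (dig (enc x) j : ℤ) * ∑ i ∈ Finset.range 24, (dig (cols.getD j 0) i : ℤ) * 8192 ^ i)]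
    exact hk
  show ((∑ j ∈ Finset.range 24, dig (enc x) j * cols.getD j 0) + K1
    - ((∑ j ∈ Finset.range 24, dig (enc x) j) * ONES8 + T8)) / 8 = enc y
  rw [main, Nat.add_sub_cancel, Nat.mul_div_cancel_left _ (by norm_num)]

end Cfsg.Agent.Lib.Helper54
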