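/-
Helper library (helper54): kernel-checkable certificate that a matrix given by packed columns defines an element
of `Co0`.
-/
import Cfsg.Agent.Lib.Helper54.Co0Enc

set_option autoImplicit false

namespace Cfsg.Agent.Lib.Helper54

open Cfsg Matrix Cfsg.Agent.Lib.Helper27

/-- inner product of two columns -/
def gram (cols : List ℕ) (j k : ℕ) : ℤ :=
  sumBelow (fun i => Int.mul (entry cols i j) (entry cols i k)) 24

/-- inner product of two rows -/
def gram' (cols : List ℕ) (j k : ℕ) : ℤ :=
  sumBelow (fun i => Int.mul (entry cols j i) (entry cols k i)) 24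

/-- row `i` of the matrix times a vector in index form -/
def rowDot (cols : List ℕ) (f : ℕ → ℤ) (i : ℕ) : ℤ :=
  sumBelow (fun j => Int.mul (entry cols i j) (f j)) 24

/-- column `i` of the matrix times a vector in index form -/
def colDot (cols : List ℕ) (f : ℕ → ℤ) (i : ℕ) : ℤ :=
  sumBelow (fun j => Int.mul (entry cols j i) (f j)) 24

def orthOK (cols : List ℕ) : Bool :=
  allBelow (fun j => allBelow (fun k => decide (gram cols j k = if j = k then 64 else 0)) 24) 24

def orthOK' (cols : List ℕ) : Bool :=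
  allBelow (fun j => allBelow (fun k => decide (gram' cols j k = if j = k then 64 else 0)) 24) 24

def mapOK (cols : List ℕ) : Bool :=
  allBelow (fun k => band (allBelow (fun i => decide (rowDot cols (genFn k) i % 8 = 0)) 24)
    (isLeechFn (fun i => rowDot cols (genFn k) i / 8))) 49

def mapOK' (cols : List ℕ) : Bool :=
  allBelow (fun k => band (allBelow (fun i => decide (colDot cols (genFn k) i % 8 = 0)) 24)
    (isLeechFn (fun i => colDot cols (genFn k) i / 8))) 49

theorem orth_of_check {cols : List ℕ} (h : orthOK cols = true) :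
    (matOf cols)ᵀ * matOf cols = (64 : ℤ) • (1 : Matrix GolayPt GolayPt ℤ) := by
  unfold orthOK at h
  rw [allBelow_iff] at h
  ext q q'
  have h1 := h (idx q) (idx_lt q)
  rw [allBelow_iff] at h1
  have h2 := h1 (idx q') (idx_lt q')
  rw [decide_eq_true_eq] at h2
  rw [mul_apply, sum_golayPt, Matrix.smul_apply, one_apply, smul_eq_mul]
  unfold gram at h2
  rw [sumBelow_eq] at h2
  have e : ∀ i ∈ Finset.range 24, (matOf cols)ᵀ q (pt i) * matOf cols (pt i) q'
      = Int.mul (entry cols i (idx q)) (entry cols i (idx q')) := by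
    intro i hi
    simp only [matOf, transpose_apply]
    rw [idx_pt (Finset.mem_range.1 hi)]
    rfl
  rw [Finset.sum_congr rfl e, h2]
  by_cases hq : q = q'
  · subst hq; simp
  · have : idx q ≠ idx q' := fun he => hq (idx_injective he)
    simp [hq, this]

theorem orth'_of_check {cols : List ℕ} (h : orthOK' cols = true) :
    matOf cols * (matOf cols)ᵀ = (64 : ℤ) • (1 : Matrix GolayPt GolayPt ℤ) := by
  unfold orthOK' at h
  rw [allBelow_iff] at h
  ext q q'
  have h1 := h (idx q) (idx_lt q)
  rw [allBelow_iff] at h1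
  have h2 := h1 (idx q') (idx_lt q')
  rw [decide_eq_true_eq] at h2
  rw [mul_apply, sum_golayPt, Matrix.smul_apply, one_apply, smul_eq_mul]
  unfold gram' at h2
  rw [sumBelow_eq] at h2
  have e : ∀ i ∈ Finset.range 24, matOf cols q (pt i) * (matOf cols)ᵀ (pt i) q'
      = Int.mul (entry cols (idx q) i) (entry cols (idx q') i) := by
    intro i hi
    simp only [matOf, transpose_apply]
    rw [idx_pt (Finset.mem_range.1 hi)]
    rfl
  rw [Finset.sum_congr rfl e, h2]
  by_cases hq : q = q'
  · subst hq; simp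
  · have : idx q ≠ idx q' := fun he => hq (idx_injective he)
    simp [hq, this]

theorem vecOf_pt (f : ℕ → ℤ) {j : ℕ} (hj : j < 24) : vecOf f (pt j) = f j := by
  simp only [vecOf]; rw [idx_pt hj]

theorem matOf_mulVec_vecOf (cols : List ℕ) (f : ℕ → ℤ) :
    matOf cols *ᵥ vecOf f = vecOf (rowDot cols f) := by
  funext p
  rw [matOf_mulVec]
  simp only [vecOf, rowDot]
  rw [sumBelow_eq]
  apply Finset.sum_congr rfl
  intro j hj
  rw [idx_pt (Finset.mem_range.1 hj)]
  rfl

theorem matOf_transpose_mulVec_vecOf (cols : List ℕ) (f : ℕ → ℤ) :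
    (matOf cols)ᵀ *ᵥ vecOf f = vecOf (colDot cols f) := by
  funext p
  rw [matOf_transpose_mulVec]
  simp only [vecOf, colDot]
  rw [sumBelow_eq]
  apply Finset.sum_congr rfl
  intro j hj
  rw [idx_pt (Finset.mem_range.1 hj)]
  rfl

theorem exists_of_divisible {r : ℕ → ℤ} (h1 : ∀ i < 24, r i % 8 = 0)
    (h2 : isLeechFn (fun i => r i / 8) = true) :
    ∃ z ∈ leechLattice, vecOf r = (8 : ℤ) • z := by
  refine ⟨vecOf (fun i => r i / 8), vecOf_mem_of_isLeechFn h2, ?_⟩
  funext p
  simp only [vecOf, Pi.smul_apply, smul_eq_mul]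
  have := h1 (idx p) (idx_lt p)
  omega

theorem map_of_check {cols : List ℕ} (h : mapOK cols = true) :
    ∀ k < 49, ∃ z ∈ leechLattice, matOf cols *ᵥ vecOf (genFn k) = (8 : ℤ) • z := by
  unfold mapOK at h
  rw [allBelow_iff] at h
  intro k hk
  have h1 := h k hk
  rw [band_eq, Bool.and_eq_true, allBelow_iff] at h1
  rw [matOf_mulVec_vecOf]
  exact exists_of_divisible (fun i hi => by simpa using h1.1 i hi) h1.2

theorem map'_of_check {cols : List ℕ} (h : mapOK' cols = true) :
    ∀ k < 49, ∃ z ∈ leechLattice, (matOf cols)ᵀ *ᵥ vecOf (genFn k) = (8 : ℤ) • z := by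
  unfold mapOK' at h
  rw [allBelow_iff] at h
  intro k hk
  have h1 := h k hk
  rw [band_eq, Bool.and_eq_true, allBelow_iff] at h1
  rw [matOf_transpose_mulVec_vecOf]
  exact exists_of_divisible (fun i hi => by simpa using h1.1 i hi) h1.2

/-- the full certificate -/
def certOK (cols : List ℕ) : Bool :=
  band (orthOK cols) (band (orthOK' cols) (band (mapOK cols) (mapOK' cols)))

theorem isCo0Mat_of_check {cols : List ℕ} (h : certOK cols = true) : IsCo0Mat (matOf cols) := by
  unfold certOK at h
  simp only [band_eq, Bool.and_eq_true] at h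
  exact ⟨orth_of_check h.1, orth'_of_check h.2.1, map_of_check h.2.2.1, map'_of_check h.2.2.2⟩

end Cfsg.Agent.Lib.Helper54
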