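/-
Helper library (helper54): the monomial elements of `Co0` (signed permutations), in particular sign changes on
codewords given by bitmasks.
-/
import Cfsg.Agent.Lib.Helper54.Co0Mat
import Cfsg.Agent.Lib.Helper93.LeechMonomial
import Cfsg.Agent.Lib.Helper27.Perm

set_option autoImplicit false

namespace Cfsg.Agent.Lib.Helper54

open Cfsg Cfsg.Agent.Lib.Helper7 Cfsg.Agent.Lib.Helper27 Cfsg.Agent.Lib.Helper93.LM
open scoped Pointwise

theorem signedPerm_inv (σ : Equiv.Perm GolayPt) (c : Finset GolayPt) (x : GolayPt → ℤ) :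
    signedPerm σ⁻¹ (σ⁻¹ • c) (signedPerm σ c x) = x := by
  funext j
  have h1 : (σ⁻¹).symm j = σ j := rfl
  have h2 : j ∈ σ⁻¹ • c ↔ σ j ∈ c := by
    rw [Finset.mem_inv_smul_finset_iff]; rfl
  simp only [signedPerm, h1, h2, Equiv.symm_apply_apply]
  split_ifs <;> ring

theorem signedPerm_inv' (σ : Equiv.Perm GolayPt) (c : Finset GolayPt) (x : GolayPt → ℤ) :
    signedPerm σ c (signedPerm σ⁻¹ (σ⁻¹ • c) x) = x := by
  funext j
  have h1 : ∀ i, (σ⁻¹).symm i = σ i := fun _ => rfl
  have h2 : ∀ i, i ∈ σ⁻¹ • c ↔ σ i ∈ c := by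
    intro i
    rw [Finset.mem_inv_smul_finset_iff]; rfl
  simp only [signedPerm, h1, h2, Equiv.apply_symm_apply]
  split_ifs <;> ring

/-- the monomial element of `Co0` attached to `σ ∈ M24` and a codeword `c` -/
def monCo0 (σ : Equiv.Perm GolayPt) (hσ : σ ∈ M24) (c : Finset GolayPt) (hc : c ∈ GC) : ↥Co0 :=
  ⟨{ toFun := fun v => ⟨signedPerm σ c v, signedPerm_mem hσ hc v.2⟩
     invFun := fun v => ⟨signedPerm σ⁻¹ (σ⁻¹ • c) v,
       signedPerm_mem (M24.inv_mem hσ) (smul_mem_supports (M24.inv_mem hσ) hc) v.2⟩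
     left_inv := fun v => Subtype.ext (signedPerm_inv σ c v)
     right_inv := fun v => Subtype.ext (signedPerm_inv' σ c v) },
   ⟨fun v w => Subtype.ext (signedPerm_add σ c v w), fun v => sqNorm_signedPerm σ c v⟩⟩

theorem monCo0_smul (σ : Equiv.Perm GolayPt) (hσ : σ ∈ M24) (c : Finset GolayPt) (hc : c ∈ GC)
    (v : ↥leechLattice) :
    ((monCo0 σ hσ c hc • v : ↥leechLattice) : GolayPt → ℤ) = signedPerm σ c v := rfl

/-- sign change on the positions of a bitmask -/
def sgnV (m : ℕ) (x : GolayPt → ℤ) : GolayPt → ℤ :=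
  fun p => if m.testBit (idx p) = true then - x p else x p

theorem sgnV_sgnV (m : ℕ) (x : GolayPt → ℤ) : sgnV m (sgnV m x) = x := by
  funext p
  simp only [sgnV]
  split_ifs <;> ring

theorem sgnV_injective (m : ℕ) : Function.Injective (sgnV m) :=
  fun x y h => by rw [← sgnV_sgnV m x, ← sgnV_sgnV m y, h]

theorem unmask_mem_GC {m : ℕ} (h : isCode m = true) : unmask m ∈ GC := by
  rw [mem_supports_iff, mask_unmask (isCode_lt h)]; exact h

theorem signedPerm_one_unmask (m : ℕ) (x : GolayPt → ℤ) : signedPerm 1 (unmask m) x = sgnV m x := by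
  funext p
  simp only [signedPerm, sgnV, mem_unmask]
  rfl

/-- the sign change on a codeword as an element of `Co0` -/
def sgnCo0 (m : ℕ) (h : isCode m = true) : ↥Co0 := monCo0 1 M24.one_mem (unmask m) (unmask_mem_GC h)

theorem sgnCo0_smul (m : ℕ) (h : isCode m = true) (v : ↥leechLattice) :
    ((sgnCo0 m h • v : ↥leechLattice) : GolayPt → ℤ) = sgnV m v := by
  unfold sgnCo0
  rw [monCo0_smul, signedPerm_one_unmask]

/-- minus one -/
def negCo0 : ↥Co0 :=
  ⟨Equiv.neg ↥leechLattice, ⟨fun v w => by simp [add_comm], fun v => by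
    show sqNorm (-(v : GolayPt → ℤ)) = _
    unfold sqNorm
    simp⟩⟩

theorem negCo0_smul (v : ↥leechLattice) : negCo0 • v = -v := rfl

end Cfsg.Agent.Lib.Helper54
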