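/-
Helper library (helper54): lower bounds for orbits of subgroups of `Co0` on short vectors.
Representatives of the orbits of a group of sign changes are reached by explicit words; the orbits of the sign changes are
counted by a doubling argument (pivots).
-/
import Cfsg.Agent.Lib.Helper54.Co0Cert
import Cfsg.Agent.Lib.Helper54.Co0Mon

set_option autoImplicit false

namespace Cfsg.Agent.Lib.Helper54

open Cfsg Cfsg.Agent.Lib.Helper27

/-- force the evaluation of a natural number (for the kernel) -/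
def force {α : Type} (n : ℕ) (k : ℕ → α) : α := Nat.rec (k 0) (fun m _ => k (Nat.succ m)) n

theorem force_eq {α : Type} (n : ℕ) (k : ℕ → α) : force n k = k n := by
  cases n <;> rfl

/-- kernel-friendly sum of natural numbers -/
def sumN (f : ℕ → ℕ) (n : ℕ) : ℕ := Nat.rec 0 (fun k ih => Nat.add ih (f k)) n

theorem sumN_eq (f : ℕ → ℕ) (n : ℕ) : sumN f n = ∑ i ∈ Finset.range n, f i := by
  induction n with
  | zero => rfl
  | succ n ih =>
    rw [Finset.sum_range_succ, ← ih]
    rfl

/-- sign change on codes -/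
def sgnCode (m X : ℕ) : ℕ :=
  sumN (fun i => Nat.mul (Bool.rec (dig X i) (Nat.sub 16 (dig X i)) (Nat.testBit m i))
    (Nat.pow 8192 i)) 24

theorem small_sgnV {m : ℕ} {x : GolayPt → ℤ} (hx : Small x) : Small (sgnV m x) := by
  intro p
  have := hx p
  simp only [sgnV]
  split_ifs <;> omega

theorem lt_of_blt {a b : ℕ} (h : Nat.blt a b = true) : a < b := by rwa [Nat.blt_eq] at h

theorem sgnCode_eq (m X : ℕ) : sgnCode m X =
    ∑ i ∈ Finset.range 24, (if Nat.testBit m i = true then 16 - dig X i else dig X i) * 8192 ^ i := by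
  unfold sgnCode
  rw [sumN_eq]
  apply Finset.sum_congr rfl
  intro i _
  generalize dig X i = d
  generalize hP : (8192 : ℕ) ^ i = P
  have hP' : Nat.pow 8192 i = P := hP
  rw [hP']
  cases Nat.testBit m i
  · rfl
  · rfl

theorem sgnCode_enc (m : ℕ) {x : GolayPt → ℤ} (hx : Small x) :
    sgnCode m (enc x) = enc (sgnV m x) := by
  rw [sgnCode_eq]
  conv_rhs => unfold enc
  apply Finset.sum_congr rfl
  intro i hi
  have hi' := Finset.mem_range.1 hi
  have h1 := dig_enc hx hi'
  have h2 := hx (pt i)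
  generalize dig (enc x) i = d at h1 ⊢
  congr 1
  simp only [sgnV, idx_pt hi']
  split_ifs <;> omega

/-- apply the `t`-th generator (nothing if `t` is out of range) -/
def appIdx (gens : List (ℕ × List ℕ)) : ℕ → ℕ → ℕ :=
  List.rec (motive := fun _ => ℕ → ℕ → ℕ) (fun _ X => X)
    (fun g _ ih t X => Nat.rec (appFast g.1 g.2 X) (fun t' _ => ih t' X) t) gens

theorem appIdx_nil (t X : ℕ) : appIdx [] t X = X := rfl
theorem appIdx_cons_zero (g : ℕ × List ℕ) (gs : List (ℕ × List ℕ)) (X : ℕ) :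
    appIdx (g :: gs) 0 X = appFast g.1 g.2 X := rfl
theorem appIdx_cons_succ (g : ℕ × List ℕ) (gs : List (ℕ × List ℕ)) (t X : ℕ) :
    appIdx (g :: gs) (t + 1) X = appIdx gs t X := rfl

/-- one step of a word: a generator followed by a sign change -/
def stepCode (ok : ℕ → Bool) (gens : List (ℕ × List ℕ)) (t m X : ℕ) : ℕ :=
  Bool.rec (appIdx gens t X) (sgnCode m (appIdx gens t X)) (ok m)

/-- run a word -/
def runWord (ok : ℕ → Bool) (gens : List (ℕ × List ℕ)) (w : List (ℕ × ℕ)) : ℕ → ℕ :=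
  List.rec (motive := fun _ => ℕ → ℕ) (fun X => X)
    (fun e _ ih X => force (stepCode ok gens e.1 e.2 X) ih) w

theorem runWord_nil (ok : ℕ → Bool) (gens : List (ℕ × List ℕ)) (X : ℕ) :
    runWord ok gens [] X = X := rfl

theorem runWord_cons (ok : ℕ → Bool) (gens : List (ℕ × List ℕ)) (e : ℕ × ℕ) (w : List (ℕ × ℕ))
    (X : ℕ) : runWord ok gens (e :: w) X = runWord ok gens w (stepCode ok gens e.1 e.2 X) := by
  show force (stepCode ok gens e.1 e.2 X) (runWord ok gens w) = _
  rw [force_eq]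

/-- the hypotheses on a set `Q` of vectors invariant under sign changes -/
structure SignData (Q : (GolayPt → ℤ) → Prop) (ok : ℕ → Bool) : Prop where
  small : ∀ x, Q x → Small x
  sgn : ∀ m, ok m = true → ∀ x, Q x → Q (sgnV m x)

/-- the hypotheses on the set `Q` of vectors (an orbit) -/
structure OrbitData (Q : (GolayPt → ℤ) → Prop) (ok : ℕ → Bool) (gens : List (ℕ × List ℕ)) : Prop where
  small : ∀ x, Q x → Small x
  gen : ∀ g ∈ gens, ∀ x, Q x → ∃ y, Q y ∧ appFast g.1 g.2 (enc x) = enc y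
  sgn : ∀ m, ok m = true → ∀ x, Q x → Q (sgnV m x)

theorem OrbitData.toSignData {Q : (GolayPt → ℤ) → Prop} {ok : ℕ → Bool} {gens : List (ℕ × List ℕ)}
    (D : OrbitData Q ok gens) : SignData Q ok := ⟨D.small, D.sgn⟩

section

variable {Q : (GolayPt → ℤ) → Prop} {ok : ℕ → Bool} {gens : List (ℕ × List ℕ)}

theorem appIdx_sound :
    ∀ (gens : List (ℕ × List ℕ)),
      (∀ g ∈ gens, ∀ x, Q x → ∃ y, Q y ∧ appFast g.1 g.2 (enc x) = enc y) →
      ∀ (t : ℕ) (x : GolayPt → ℤ), Q x → ∃ y, Q y ∧ appIdx gens t (enc x) = enc y := by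
  intro gens
  induction gens with
  | nil => intro _ t x hx; exact ⟨x, hx, rfl⟩
  | cons g gs ih =>
    intro hg t x hx
    cases t with
    | zero => exact hg g (List.mem_cons_self) x hx
    | succ t => exact ih (fun g' hg' => hg g' (List.mem_cons_of_mem _ hg')) t x hx

theorem stepCode_sound (D : OrbitData Q ok gens) (t m : ℕ) (x : GolayPt → ℤ) (hx : Q x) :
    ∃ y, Q y ∧ stepCode ok gens t m (enc x) = enc y := by
  obtain ⟨y, hy, hxy⟩ := appIdx_sound gens D.gen t x hx
  unfold stepCode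
  cases hm : ok m
  · exact ⟨y, hy, hxy⟩
  · refine ⟨sgnV m y, D.sgn m hm y hy, ?_⟩
    show sgnCode m (appIdx gens t (enc x)) = _
    rw [hxy, sgnCode_enc m (D.small y hy)]

theorem runWord_sound (D : OrbitData Q ok gens) (w : List (ℕ × ℕ)) :
    ∀ x, Q x → ∃ y, Q y ∧ runWord ok gens w (enc x) = enc y := by
  induction w with
  | nil => intro x hx; exact ⟨x, hx, rfl⟩
  | cons e w ih =>
    intro x hx
    obtain ⟨y, hy, hxy⟩ := stepCode_sound D e.1 e.2 x hx
    obtain ⟨z, hz, hyz⟩ := ih y hy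
    exact ⟨z, hz, by rw [runWord_cons, hxy, hyz]⟩

end

/-! ### groups of representatives -/

/-- `key` is the code of the vector of absolute values of the vector with code `r`, and the pivots are positive -/
def repOK (key : ℕ) (pivs : List (ℕ × ℕ)) (r : ℕ) : Bool :=
  band (allBelow (fun i => Nat.beq (dig key i)
      (Bool.rec (Nat.sub 16 (dig r i)) (dig r i) (Nat.ble 8 (dig r i)))) 24)
    (allList (fun cp => Nat.blt 8 (dig r cp.2)) pivs)

/-- the pivots: `(c, p)` with `c` an admissible mask containing `p`, and avoiding the later pivots -/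
def pivsOK (ok : ℕ → Bool) (pivs : List (ℕ × ℕ)) : Bool :=
  List.rec true (fun cp rest ih =>
    band (ok cp.1) (band (Nat.blt cp.2 24) (band (Nat.testBit cp.1 cp.2)
      (band (allList (fun cq => Bool.rec true false (Nat.testBit cp.1 cq.2)) rest) ih)))) pivs

theorem pivsOK_cons (ok : ℕ → Bool) (cp : ℕ × ℕ) (rest : List (ℕ × ℕ)) :
    pivsOK ok (cp :: rest) = (ok cp.1 && (Nat.blt cp.2 24 && (Nat.testBit cp.1 cp.2 &&
      (allList (fun cq => Bool.rec true false (Nat.testBit cp.1 cq.2)) rest && pivsOK ok rest)))) := by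
  have : pivsOK ok (cp :: rest) = band (ok cp.1) (band (Nat.blt cp.2 24) (band (Nat.testBit cp.1 cp.2)
      (band (allList (fun cq => Bool.rec true false (Nat.testBit cp.1 cq.2)) rest)
        (pivsOK ok rest)))) := rfl
  rw [this, band_eq, band_eq, band_eq, band_eq]

/-- the words of a group give strictly increasing codes with the required properties -/
def repsOK {W : Type} (ev : W → ℕ) (key : ℕ) (pivs : List (ℕ × ℕ))
    (words : List W) : ℕ → Bool :=
  List.rec (motive := fun _ => ℕ → Bool) (fun _ => true)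
    (fun w _ ih prev => force (ev w)
      (fun r => band (Nat.blt prev r) (band (repOK key pivs r) (ih r)))) words

theorem repsOK_cons {W : Type} (ev : W → ℕ) (key : ℕ) (pivs : List (ℕ × ℕ))
    (w : W) (words : List W) (prev : ℕ) :
    repsOK ev key pivs (w :: words) prev =
      (Nat.blt prev (ev w) && (repOK key pivs (ev w) &&
        repsOK ev key pivs words (ev w))) := by
  have : repsOK ev key pivs (w :: words) prev = force (ev w)
      (fun r => band (Nat.blt prev r) (band (repOK key pivs r)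
        (repsOK ev key pivs words r))) := rfl
  rw [this, force_eq, band_eq, band_eq]

/-- a vector has absolute values given by the code `key` -/
def AbsEq (x : GolayPt → ℤ) (key : ℕ) : Prop := ∀ p, |x p| = decFn key (idx p)

theorem repOK_spec {key : ℕ} {pivs : List (ℕ × ℕ)} {x : GolayPt → ℤ} (hx : Small x)
    (h : repOK key pivs (enc x) = true) :
    AbsEq x key ∧ ∀ cp ∈ pivs, cp.2 < 24 → 0 < x (pt cp.2) := by
  unfold repOK at h
  rw [band_eq, Bool.and_eq_true, allBelow_iff, allList_iff] at h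
  constructor
  · intro p
    have h1 := h.1 (idx p) (idx_lt p)
    rw [Nat.beq_eq] at h1
    have h2 := dig_enc hx (idx_lt p)
    rw [pt_idx] at h2
    have h3 := hx p
    rw [decFn_apply, h1]
    cases hb : Nat.ble 8 (dig (enc x) (idx p))
    · have : ¬ 8 ≤ dig (enc x) (idx p) := by
        intro hle; rw [Nat.ble_eq_true_of_le hle] at hb; exact Bool.noConfusion hb
      show |x p| = ((16 - dig (enc x) (idx p) : ℕ) : ℤ) - 8
      rw [abs_of_nonpos (by omega)]
      omega
    · have : 8 ≤ dig (enc x) (idx p) := Nat.le_of_ble_eq_true hb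
      show |x p| = ((dig (enc x) (idx p) : ℕ) : ℤ) - 8
      rw [abs_of_nonneg (by omega)]
      omega
  · intro cp hcp hlt
    have h1 := h.2 cp hcp
    have h2 : 8 < dig (enc x) cp.2 := lt_of_blt h1
    have h3 := dig_enc hx hlt
    omega

section

variable {Q : (GolayPt → ℤ) → Prop} {ok : ℕ → Bool} {gens : List (ℕ × List ℕ)}

theorem reps_finset {W : Type} (D : SignData Q ok) (ev : W → ℕ)
    (hev : ∀ w, ∃ y, Q y ∧ ev w = enc y) (key : ℕ)
    (pivs : List (ℕ × ℕ)) (words : List W) :
    ∀ prev, repsOK ev key pivs words prev = true →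
      ∃ S : Finset (GolayPt → ℤ), S.card = words.length ∧
        ∀ x ∈ S, Q x ∧ AbsEq x key ∧ (∀ cp ∈ pivs, cp.2 < 24 → 0 < x (pt cp.2)) ∧ prev < enc x := by
  classical
  induction words with
  | nil => intro prev _; exact ⟨∅, rfl, by simp⟩
  | cons w words ih =>
    intro prev h
    rw [repsOK_cons, Bool.and_eq_true, Bool.and_eq_true] at h
    obtain ⟨h1, h2, h3⟩ := h
    obtain ⟨S, hS, hSx⟩ := ih _ h3
    obtain ⟨y, hy, hy'⟩ := hev w
    generalize ev w = R at h1 h2 hSx hy'
    generalize hE : enc y = E at hy'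
    subst hy'
    rw [← hE] at h1 h2 hSx
    have hlt : prev < enc y := lt_of_blt h1
    have hyS : y ∉ S := fun hmem => lt_irrefl _ (hSx y hmem).2.2.2
    refine ⟨insert y S, by rw [Finset.card_insert_of_notMem hyS, hS, List.length_cons], ?_⟩
    intro x hx
    rcases Finset.mem_insert.1 hx with rfl | hx
    · obtain ⟨e1, e2⟩ := repOK_spec (D.small x hy) h2
      exact ⟨hy, e1, e2, hlt⟩
    · obtain ⟨e1, e2, e3, e4⟩ := hSx x hx
      exact ⟨e1, e2, e3, hlt.trans e4⟩

theorem absEq_sgnV {x : GolayPt → ℤ} {key : ℕ} (h : AbsEq x key) (m : ℕ) : AbsEq (sgnV m x) key := by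
  intro p
  rw [← h p]
  simp only [sgnV]
  split_ifs
  · exact abs_neg _
  · rfl

theorem doubling (D : SignData Q ok) (key : ℕ) (pivs : List (ℕ × ℕ)) :
    pivsOK ok pivs = true → ∀ S : Finset (GolayPt → ℤ),
      (∀ x ∈ S, Q x ∧ AbsEq x key ∧ (∀ cp ∈ pivs, cp.2 < 24 → 0 < x (pt cp.2))) →
      ∃ S' : Finset (GolayPt → ℤ), S'.card = S.card * 2 ^ pivs.length ∧
        ∀ x ∈ S', Q x ∧ AbsEq x key := by
  classical
  induction pivs with
  | nil => intro _ S hS; exact ⟨S, by simp, fun x hx => ⟨(hS x hx).1, (hS x hx).2.1⟩⟩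
  | cons cp rest ih =>
    intro h S hS
    rw [pivsOK_cons] at h
    simp only [Bool.and_eq_true] at h
    obtain ⟨h1, h2, h3, h4, h5⟩ := h
    have hp : cp.2 < 24 := lt_of_blt h2
    rw [allList_iff] at h4
    set T := S ∪ S.image (sgnV cp.1) with hT
    have hdisj : Disjoint S (S.image (sgnV cp.1)) := by
      rw [Finset.disjoint_left]
      intro x hx hx'
      obtain ⟨y, hy, rfl⟩ := Finset.mem_image.1 hx'
      have e1 := (hS _ hx).2.2 cp (List.mem_cons_self) hp
      have e2 := (hS _ hy).2.2 cp (List.mem_cons_self) hp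
      simp only [sgnV, idx_pt hp, h3, if_true] at e1
      omega
    have hcard : T.card = S.card * 2 := by
      rw [hT, Finset.card_union_of_disjoint hdisj,
        Finset.card_image_of_injective _ (sgnV_injective cp.1)]
      ring
    obtain ⟨S', hS', hS'x⟩ := ih h5 T (by
      intro x hx
      rcases Finset.mem_union.1 hx with hx | hx
      · obtain ⟨e1, e2, e3⟩ := hS x hx
        exact ⟨e1, e2, fun cq hcq => e3 cq (List.mem_cons_of_mem _ hcq)⟩
      · obtain ⟨y, hy, rfl⟩ := Finset.mem_image.1 hx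
        obtain ⟨e1, e2, e3⟩ := hS y hy
        refine ⟨D.sgn _ h1 y e1, absEq_sgnV e2 _, fun cq hcq hlt => ?_⟩
        have e4 := h4 cq hcq
        have e5 : Nat.testBit cp.1 cq.2 = false := by
          cases hb : Nat.testBit cp.1 cq.2
          · rfl
          · rw [hb] at e4; exact Bool.noConfusion e4
        simp only [sgnV, idx_pt hlt, e5, Bool.false_eq_true, if_false]
        exact e3 cq (List.mem_cons_of_mem _ hcq) hlt)
    refine ⟨S', ?_, hS'x⟩
    rw [hS', hcard, List.length_cons, pow_succ]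
    ring

end

/-- a group: key, pivots, words -/
abbrev RepGroup (W : Type) := ℕ × List (ℕ × ℕ) × List W

/-- the check of all groups; the keys are strictly increasing -/
def groupsOK {W : Type} (ok : ℕ → Bool) (ev : W → ℕ) (gs : List (RepGroup W)) : ℕ → Bool :=
  List.rec (motive := fun _ => ℕ → Bool) (fun _ => true)
    (fun g _ ih lo => band (Nat.blt lo g.1) (band (Nat.blt g.1 (8192 ^ 24))
      (band (pivsOK ok g.2.1) (band (repsOK ev g.1 g.2.1 g.2.2 0) (ih g.1))))) gs

theorem groupsOK_cons {W : Type} (ok : ℕ → Bool) (ev : W → ℕ) (g : RepGroup W)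
    (gs : List (RepGroup W)) (lo : ℕ) :
    groupsOK ok ev (g :: gs) lo = (Nat.blt lo g.1 && (Nat.blt g.1 (8192 ^ 24) &&
      (pivsOK ok g.2.1 && (repsOK ev g.1 g.2.1 g.2.2 0 && groupsOK ok ev gs g.1)))) := by
  have : groupsOK ok ev (g :: gs) lo = band (Nat.blt lo g.1) (band (Nat.blt g.1 (8192 ^ 24))
      (band (pivsOK ok g.2.1) (band (repsOK ev g.1 g.2.1 g.2.2 0)
        (groupsOK ok ev gs g.1)))) := rfl
  rw [this, band_eq, band_eq, band_eq, band_eq]

/-- the number of vectors accounted for -/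
def totalCount {W : Type} (gs : List (RepGroup W)) : ℕ :=
  List.rec 0 (fun g _ ih => Nat.add (Nat.mul g.2.2.length (Nat.pow 2 g.2.1.length)) ih) gs

theorem totalCount_cons {W : Type} (g : RepGroup W) (gs : List (RepGroup W)) :
    totalCount (g :: gs) = g.2.2.length * 2 ^ g.2.1.length + totalCount gs := rfl

theorem key_eq_of_absEq {x : GolayPt → ℤ} {k k' : ℕ} (hk : k < 8192 ^ 24) (hk' : k' < 8192 ^ 24)
    (h : AbsEq x k) (h' : AbsEq x k') : k = k' := by
  rw [← sum_dig_of_lt hk, ← sum_dig_of_lt hk']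
  apply Finset.sum_congr rfl
  intro i hi
  have hi' := Finset.mem_range.1 hi
  have e1 := h (pt i)
  have e2 := h' (pt i)
  rw [idx_pt hi', decFn_apply] at e1 e2
  congr 1
  omega

theorem orbit_lower_bound {W : Type} {Q : (GolayPt → ℤ) → Prop} {ok : ℕ → Bool}
    (D : SignData Q ok) (ev : W → ℕ) (hev : ∀ w, ∃ y, Q y ∧ ev w = enc y)
    (gs : List (RepGroup W)) :
    ∀ lo, groupsOK ok ev gs lo = true →
      ∃ F : Finset (GolayPt → ℤ), F.card = totalCount gs ∧
        ∀ x ∈ F, Q x ∧ ∃ k, lo < k ∧ k < 8192 ^ 24 ∧ AbsEq x k := by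
  classical
  induction gs with
  | nil => intro lo _; exact ⟨∅, rfl, by simp⟩
  | cons g gs ih =>
    intro lo h
    rw [groupsOK_cons] at h
    simp only [Bool.and_eq_true] at h
    obtain ⟨h1, h2, h3, h4, h5⟩ := h
    have hlo : lo < g.1 := lt_of_blt h1
    have hkey : g.1 < 8192 ^ 24 := lt_of_blt h2
    obtain ⟨F, hF, hFx⟩ := ih _ h5
    obtain ⟨S, hS, hSx⟩ := reps_finset D ev hev g.1 g.2.1 g.2.2 0 h4
    obtain ⟨S', hS', hS'x⟩ := doubling D g.1 g.2.1 h3 S
      (fun x hx => ⟨(hSx x hx).1, (hSx x hx).2.1, (hSx x hx).2.2.1⟩)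
    have hdisj : Disjoint S' F := by
      rw [Finset.disjoint_left]
      intro x hx hx'
      obtain ⟨-, k, hk1, hk2, hk3⟩ := hFx x hx'
      have := key_eq_of_absEq hkey hk2 (hS'x x hx).2 hk3
      omega
    refine ⟨S' ∪ F, ?_, ?_⟩
    · rw [Finset.card_union_of_disjoint hdisj, hS', hS, hF, totalCount_cons]
    · intro x hx
      rcases Finset.mem_union.1 hx with hx | hx
      · exact ⟨(hS'x x hx).1, g.1, hlo, hkey, (hS'x x hx).2⟩
      · obtain ⟨e1, k, hk1, hk2, hk3⟩ := hFx x hx
        exact ⟨e1, k, hlo.trans hk1, hk2, hk3⟩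

end Cfsg.Agent.Lib.Helper54
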