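/-
Helper library (helper54): vectors given by codes, stabilizers of vectors given by codes, and the orbit data
coming from certified generators.
-/
import Cfsg.Agent.Lib.Helper54.Co0Orbit

set_option autoImplicit false

namespace Cfsg.Agent.Lib.Helper54

open Cfsg Matrix Cfsg.Agent.Lib.Helper27

/-- the vector with code `X` -/
def V (X : ℕ) : GolayPt → ℤ := vecOf (decFn X)

theorem V_apply (X : ℕ) (p : GolayPt) : V X p = (dig X (idx p) : ℤ) - 8 := rfl

/-- `X` is the code of a small vector -/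
def codeOK (X : ℕ) : Bool :=
  band (Nat.blt X (8192 ^ 24)) (allBelow (fun i => Nat.ble (dig X i) 16) 24)

theorem small_V {X : ℕ} (h : codeOK X = true) : Small (V X) := by
  unfold codeOK at h
  rw [band_eq, Bool.and_eq_true, allBelow_iff] at h
  intro p
  have h1 : dig X (idx p) ≤ 16 := Nat.le_of_ble_eq_true (h.2 (idx p) (idx_lt p))
  rw [V_apply]
  omega

theorem enc_V {X : ℕ} (h : codeOK X = true) : enc (V X) = X := by
  have hs := small_V h
  unfold codeOK at h
  rw [band_eq, Bool.and_eq_true] at h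
  have hlt : X < 8192 ^ 24 := lt_of_blt h.1
  conv_rhs => rw [← sum_dig_of_lt hlt]
  unfold enc
  apply Finset.sum_congr rfl
  intro k hk
  rw [V_apply, idx_pt (Finset.mem_range.1 hk)]
  congr 1
  omega

theorem V_enc {x : GolayPt → ℤ} (hx : Small x) : V (enc x) = x := vecOf_decFn_enc hx

theorem enc_inj {x y : GolayPt → ℤ} (hx : Small x) (hy : Small y) (h : enc x = enc y) : x = y := by
  rw [← V_enc hx, ← V_enc hy, h]

/-- inner product on codes -/
def dotC (X Y : ℕ) : ℤ := sumBelow (fun i => Int.mul (decFn X i) (decFn Y i)) 24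

theorem dotInt_V (X Y : ℕ) : dotInt (V X) (V Y) = dotC X Y := by
  unfold dotInt dotC
  rw [sum_golayPt, sumBelow_eq]
  apply Finset.sum_congr rfl
  intro i hi
  simp only [V, vecOf]
  rw [idx_pt (Finset.mem_range.1 hi)]
  rfl

theorem sqNorm_eq_dotInt (x : GolayPt → ℤ) : sqNorm x = dotInt x x := by
  unfold sqNorm dotInt
  exact Finset.sum_congr rfl (fun i _ => pow_two _)

theorem sqNorm_V (X : ℕ) : sqNorm (V X) = dotC X X := by rw [sqNorm_eq_dotInt, dotInt_V]

/-- membership in the Leech lattice on codes -/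
def leechOK (X : ℕ) : Bool := isLeechFn (decFn X)

theorem V_mem {X : ℕ} (h : leechOK X = true) : V X ∈ leechLattice := vecOf_mem_of_isLeechFn h

/-- the lattice vector with code `X` -/
def LV (X : ℕ) (h : leechOK X = true) : ↥leechLattice := ⟨V X, V_mem h⟩

theorem coe_LV (X : ℕ) (h : leechOK X = true) : ((LV X h : ↥leechLattice) : GolayPt → ℤ) = V X := rfl

/-! ### certified generators -/

/-- the element of `Co0` given by checked columns -/
def genCo0 (cols : List ℕ) (h : certOK cols = true) : ↥Co0 := (isCo0Mat_of_check h).toCo0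

theorem appFast_genCo0 {T8 : ℕ} {cols : List ℕ} (h : certOK cols = true) (hc : colsOK T8 cols = true)
    (v : ↥leechLattice) (hv : sqNorm (v : GolayPt → ℤ) ≤ 64) :
    appFast T8 cols (enc (v : GolayPt → ℤ))
      = enc ((genCo0 cols h • v : ↥leechLattice) : GolayPt → ℤ) :=
  appFast_enc hc (small_of_sqNorm_le hv) (small_of_sqNorm_le (by rw [co0_sqNorm]; exact hv))
    ((isCo0Mat_of_check h).eight_smul_toCo0_smul v).symm

/-- the image of a vector given by a code, computed by the fast product -/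
theorem genCo0_smul_of_appFast {T8 : ℕ} {cols : List ℕ} (h : certOK cols = true)
    (hc : colsOK T8 cols = true) {X Y : ℕ} (hX : codeOK X = true) (hY : codeOK Y = true)
    (hn : dotC X X ≤ 64) (hL : V X ∈ leechLattice)
    (hXY : appFast T8 cols X = Y) :
    ((genCo0 cols h • (⟨V X, hL⟩ : ↥leechLattice) : ↥leechLattice) : GolayPt → ℤ) = V Y := by
  have hn' : sqNorm (((⟨V X, hL⟩ : ↥leechLattice)) : GolayPt → ℤ) ≤ 64 := by
    show sqNorm (V X) ≤ 64
    rw [sqNorm_V]; exact hn
  have h1 := appFast_genCo0 h hc ⟨V X, hL⟩ hn'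
  have h2 : enc (((⟨V X, hL⟩ : ↥leechLattice)) : GolayPt → ℤ) = X := enc_V hX
  rw [h2, hXY] at h1
  apply enc_inj (small_of_sqNorm_le (by rw [co0_sqNorm]; exact hn')) (small_V hY)
  rw [← h1, enc_V hY]

/-- orbit of a lattice vector under a subgroup, as a predicate on vectors -/
def Orb (H : Subgroup ↥Co0) (w : ↥leechLattice) (x : GolayPt → ℤ) : Prop :=
  ∃ g ∈ H, x = ((g • w : ↥leechLattice) : GolayPt → ℤ)

theorem Orb.self (H : Subgroup ↥Co0) (w : ↥leechLattice) : Orb H w (w : GolayPt → ℤ) :=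
  ⟨1, H.one_mem, by rw [one_smul]⟩

/-- all generators are certified -/
def gensOK (gens : List (ℕ × List ℕ)) : Bool :=
  allList (fun g => band (certOK g.2) (colsOK g.1 g.2)) gens

theorem orbitData_of_subgroup (H : Subgroup ↥Co0) (w : ↥leechLattice)
    (hw : sqNorm (w : GolayPt → ℤ) ≤ 64) {ok : ℕ → Bool} {gens : List (ℕ × List ℕ)}
    (hG : gensOK gens = true)
    (hgen : ∀ g ∈ gens, ∀ h : certOK g.2 = true, genCo0 g.2 h ∈ H)
    (hok : ∀ m, ok m = true → ∃ h : isCode m = true, sgnCo0 m h ∈ H) :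
    OrbitData (Orb H w) ok gens := by
  unfold gensOK at hG
  rw [allList_iff] at hG
  refine ⟨?_, ?_, ?_⟩
  · rintro x ⟨g, -, rfl⟩
    exact small_of_sqNorm_le (by rw [co0_sqNorm]; exact hw)
  · rintro g hg x ⟨a, ha, rfl⟩
    have h1 := hG g hg
    rw [band_eq, Bool.and_eq_true] at h1
    refine ⟨_, ⟨genCo0 g.2 h1.1 * a, H.mul_mem (hgen g hg h1.1) ha, rfl⟩, ?_⟩
    rw [mul_smul]
    exact appFast_genCo0 h1.1 h1.2 (a • w) (by rw [co0_sqNorm]; exact hw)
  · rintro m hm x ⟨a, ha, rfl⟩
    obtain ⟨h, hH⟩ := hok m hm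
    refine ⟨sgnCo0 m h * a, H.mul_mem hH ha, ?_⟩
    rw [mul_smul, sgnCo0_smul]

/-! ### stabilizers of vectors given by codes -/

/-- the pointwise stabilizer of the lattice vectors with codes in `Xs` -/
def StabC (Xs : List ℕ) : Subgroup ↥Co0 where
  carrier := {g | ∀ X ∈ Xs, ∀ h : V X ∈ leechLattice, g • (⟨V X, h⟩ : ↥leechLattice) = ⟨V X, h⟩}
  one_mem' := fun X _ h => one_smul _ _
  mul_mem' := fun {a b} ha hb X hX h => by rw [mul_smul, hb X hX h, ha X hX h]
  inv_mem' := fun {a} ha X hX h => by rw [inv_smul_eq_iff, ha X hX h]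

theorem mem_StabC {Xs : List ℕ} {g : ↥Co0} :
    g ∈ StabC Xs ↔ ∀ X ∈ Xs, ∀ h : V X ∈ leechLattice, g • (⟨V X, h⟩ : ↥leechLattice) = ⟨V X, h⟩ :=
  Iff.rfl

/-- the base vectors are small and supported on the mask `S` -/
def baseOK (S : ℕ) (Xs : List ℕ) : Bool :=
  allList (fun X => band (codeOK X) (band (decide (dotC X X ≤ 64))
    (allBelow (fun i => Bool.rec (Nat.beq (dig X i) 8) true (Nat.testBit S i)) 24))) Xs

/-- the generators fix the base vectors -/
def fixOK (gens : List (ℕ × List ℕ)) (Xs : List ℕ) : Bool :=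
  allList (fun g => allList (fun X => Nat.beq (appFast g.1 g.2 X) X) Xs) gens

/-- the admissible sign changes: codewords disjoint from `S` -/
def okMask (S m : ℕ) : Bool := band (isCode m) (Nat.beq (Nat.land m S) 0)

theorem sgnV_V_of_okMask {S : ℕ} {Xs : List ℕ} (hb : baseOK S Xs = true) {X : ℕ} (hX : X ∈ Xs)
    {m : ℕ} (hm : okMask S m = true) : sgnV m (V X) = V X := by
  unfold baseOK at hb
  rw [allList_iff] at hb
  have h1 := hb X hX
  rw [band_eq, band_eq, Bool.and_eq_true, Bool.and_eq_true, allBelow_iff] at h1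
  unfold okMask at hm
  rw [band_eq, Bool.and_eq_true, Nat.beq_eq] at hm
  funext p
  simp only [sgnV]
  split_ifs with hp
  · have h2 := h1.2.2 (idx p) (idx_lt p)
    have h3 : Nat.testBit S (idx p) = false := by
      have h4 : (m &&& S).testBit (idx p) = false := by
        have : m &&& S = 0 := hm.2
        rw [this]; exact Nat.zero_testBit _
      rw [Nat.testBit_and, hp, Bool.true_and] at h4
      exact h4
    rw [h3] at h2
    have h5 : dig X (idx p) = 8 := Nat.eq_of_beq_eq_true h2
    rw [V_apply, h5]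
    norm_num
  · rfl

theorem stab_orbitData {S : ℕ} {Xs : List ℕ} {gens : List (ℕ × List ℕ)} (hb : baseOK S Xs = true)
    (hg : gensOK gens = true) (hf : fixOK gens Xs = true) (w : ↥leechLattice)
    (hw : sqNorm (w : GolayPt → ℤ) ≤ 64) : OrbitData (Orb (StabC Xs) w) (okMask S) gens := by
  apply orbitData_of_subgroup (StabC Xs) w hw hg
  · intro g hgm h X hX hL
    have hb' := hb
    unfold baseOK at hb'
    rw [allList_iff] at hb'
    have h1 := hb' X hX
    rw [band_eq, band_eq, Bool.and_eq_true, Bool.and_eq_true, decide_eq_true_eq] at h1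
    unfold fixOK at hf
    rw [allList_iff] at hf
    have h2 := hf g hgm
    rw [allList_iff] at h2
    have h3 : appFast g.1 g.2 X = X := Nat.eq_of_beq_eq_true (h2 X hX)
    unfold gensOK at hg
    rw [allList_iff] at hg
    have h4 := hg g hgm
    rw [band_eq, Bool.and_eq_true] at h4
    apply Subtype.ext
    exact genCo0_smul_of_appFast h h4.2 h1.1 h1.1 h1.2.1 hL h3
  · intro m hm
    have hm' := hm
    unfold okMask at hm'
    rw [band_eq, Bool.and_eq_true] at hm'
    refine ⟨hm'.1, ?_⟩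
    intro X hX hL
    apply Subtype.ext
    rw [sgnCo0_smul]
    exact sgnV_V_of_okMask hb hX hm

/-- lower bound for the orbit of the vector with code `X0` under the stabilizer of the vectors with codes `Xs` -/
theorem stab_orbit_lower {S : ℕ} {Xs : List ℕ} {gens : List (ℕ × List ℕ)} (hb : baseOK S Xs = true)
    (hg : gensOK gens = true) (hf : fixOK gens Xs = true) {X0 : ℕ} (hX0 : codeOK X0 = true)
    (hL : V X0 ∈ leechLattice) (hn : dotC X0 X0 ≤ 64) (gs : List (RepGroup (List (ℕ × ℕ))))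
    (h : groupsOK (okMask S) (fun w => runWord (okMask S) gens w X0) gs 0 = true) :
    ∃ F : Finset (GolayPt → ℤ), F.card = totalCount gs ∧
      ∀ x ∈ F, Orb (StabC Xs) ⟨V X0, hL⟩ x := by
  have D := stab_orbitData hb hg hf ⟨V X0, hL⟩ (by show sqNorm (V X0) ≤ 64; rw [sqNorm_V]; exact hn)
  obtain ⟨F, hF, hFx⟩ := orbit_lower_bound D.toSignData (fun w => runWord (okMask S) gens w X0)
    (fun w => by
      have := runWord_sound D w (V X0) (Orb.self _ ⟨V X0, hL⟩)
      rwa [enc_V hX0] at this) gs 0 h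
  exact ⟨F, hF, fun x hx => (hFx x hx).1⟩

end Cfsg.Agent.Lib.Helper54
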