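/-
Helper library (helper54): the counting principle behind all our orbit computations.  If a finite set `S` is
covered "from below" by subsets with distinct values of an invariant whose sizes add up to the size of `S`, then these
subsets are exactly the fibres of the invariant.
-/
import Cfsg.Agent.Lib.Helper54.Co0Code

set_option autoImplicit false

namespace Cfsg.Agent.Lib.Helper54

open Cfsg

theorem census {α ι : Type*} (S : Set α) (hfin : S.Finite) (f : α → ι) (cs : Finset ι) (m : ι → ℕ)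
    (P : ι → α → Prop)
    (h : ∀ c ∈ cs, ∃ F : Finset α, F.card = m c ∧ ∀ x ∈ F, P c x)
    (hP : ∀ c ∈ cs, ∀ x, P c x → x ∈ S ∧ f x = c)
    (hcard : S.ncard = ∑ c ∈ cs, m c) :
    (∀ x ∈ S, f x ∈ cs ∧ P (f x) x) ∧ ∀ c ∈ cs, {x | x ∈ S ∧ f x = c}.ncard = m c := by
  classical
  have h' : ∀ c : ι, ∃ F : Finset α, c ∈ cs → (F.card = m c ∧ ∀ x ∈ F, P c x) := by
    intro c
    by_cases hc : c ∈ cs
    · obtain ⟨F, hF⟩ := h c hc
      exact ⟨F, fun _ => hF⟩
    · exact ⟨∅, fun hc' => absurd hc' hc⟩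
  choose F hF using h'
  set U := cs.biUnion F with hU
  have hdisj : (cs : Set ι).PairwiseDisjoint F := by
    intro c hc c' hc' hne
    rw [Function.onFun, Finset.disjoint_left]
    intro x hx hx'
    have e1 := (hP c hc x ((hF c hc).2 x hx)).2
    have e2 := (hP c' hc' x ((hF c' hc').2 x hx')).2
    exact hne (e1.symm.trans e2)
  have hUcard : U.card = S.ncard := by
    rw [hU, Finset.card_biUnion hdisj, hcard]
    exact Finset.sum_congr rfl (fun c hc => (hF c hc).1)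
  have hUS : U ⊆ hfin.toFinset := by
    intro x hx
    obtain ⟨c, hc, hxc⟩ := Finset.mem_biUnion.1 hx
    exact hfin.mem_toFinset.2 (hP c hc x ((hF c hc).2 x hxc)).1
  have hUeq : U = hfin.toFinset :=
    Finset.eq_of_subset_of_card_le hUS (by rw [hUcard, Set.ncard_eq_toFinset_card S hfin])
  have key : ∀ x ∈ S, f x ∈ cs ∧ x ∈ F (f x) := by
    intro x hx
    have hxU : x ∈ U := by rw [hUeq]; exact hfin.mem_toFinset.2 hx
    obtain ⟨c, hc, hxc⟩ := Finset.mem_biUnion.1 hxU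
    have e := (hP c hc x ((hF c hc).2 x hxc)).2
    rw [e]
    exact ⟨hc, hxc⟩
  refine ⟨fun x hx => ⟨(key x hx).1, (hF _ (key x hx).1).2 x (key x hx).2⟩, fun c hc => ?_⟩
  have : {x | x ∈ S ∧ f x = c} = (F c : Set α) := by
    ext x
    constructor
    · rintro ⟨hx, rfl⟩
      exact (key x hx).2
    · intro hx
      exact hP c hc x ((hF c hc).2 x hx)
  rw [this, Set.ncard_coe_finset, (hF c hc).1]

/-! ### orbits -/

theorem Orb.neg {H : Subgroup ↥Co0} {w : ↥leechLattice} {x : GolayPt → ℤ} (h : Orb H w x) :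
    Orb H (-w) (-x) := by
  obtain ⟨g, hg, rfl⟩ := h
  exact ⟨g, hg, by rw [co0_neg]; rfl⟩

theorem exists_finset_neg {P P' : (GolayPt → ℤ) → Prop} (hPP : ∀ x, P x → P' (-x)) {n : ℕ}
    (h : ∃ F : Finset (GolayPt → ℤ), F.card = n ∧ ∀ x ∈ F, P x) :
    ∃ F : Finset (GolayPt → ℤ), F.card = n ∧ ∀ x ∈ F, P' x := by
  classical
  obtain ⟨F, hF, hFx⟩ := h
  refine ⟨F.image (fun x => -x), ?_, ?_⟩
  · rw [Finset.card_image_of_injective _ neg_injective, hF]
  · intro x hx
    obtain ⟨y, hy, rfl⟩ := Finset.mem_image.1 hx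
    exact hPP y (hFx y hy)

theorem Orb.mem {H : Subgroup ↥Co0} {w : ↥leechLattice} {x : GolayPt → ℤ} (h : Orb H w x) :
    x ∈ leechLattice := by
  obtain ⟨g, -, rfl⟩ := h
  exact (g • w).2

theorem Orb.sqNorm {H : Subgroup ↥Co0} {w : ↥leechLattice} {x : GolayPt → ℤ} (h : Orb H w x) :
    sqNorm x = sqNorm (w : GolayPt → ℤ) := by
  obtain ⟨g, -, rfl⟩ := h
  exact co0_sqNorm g w

/-- two vectors in the same orbit are conjugate -/
theorem Orb.conj {H : Subgroup ↥Co0} {w x y : ↥leechLattice} (hx : Orb H w (x : GolayPt → ℤ))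
    (hy : Orb H w (y : GolayPt → ℤ)) : ∃ g ∈ H, g • x = y := by
  obtain ⟨a, ha, hxa⟩ := hx
  obtain ⟨b, hb, hyb⟩ := hy
  refine ⟨b * a⁻¹, H.mul_mem hb (H.inv_mem ha), ?_⟩
  have e1 : x = a • w := Subtype.ext hxa
  have e2 : y = b • w := Subtype.ext hyb
  rw [e1, e2, mul_smul, inv_smul_smul]

theorem Orb.dot_StabC {Xs : List ℕ} {w : ↥leechLattice} {x : GolayPt → ℤ} (h : Orb (StabC Xs) w x)
    {X : ℕ} (hX : X ∈ Xs) (hL : V X ∈ leechLattice) :
    dotInt (V X) x = dotInt (V X) (w : GolayPt → ℤ) := by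
  obtain ⟨g, hg, rfl⟩ := h
  have h1 := co0_dotInt g ⟨V X, hL⟩ w
  rw [hg X hX hL] at h1
  exact h1

end Cfsg.Agent.Lib.Helper54
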