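/-
Helper library (helper54): classes of lattice vectors of given norm and given inner products with base vectors;
lower bounds by explicit representatives, and refinement of an exact count by one more inner product.
-/
import Cfsg.Agent.Lib.Helper54.Co0Census

set_option autoImplicit false

namespace Cfsg.Agent.Lib.Helper54

open Cfsg Cfsg.Agent.Lib.Helper27

/-- inner products with the base vectors -/
def dotsV (Xs : List ℕ) (x : GolayPt → ℤ) : List ℤ := Xs.map (fun X => dotInt (V X) x)

/-- lattice vectors of norm `n` with inner products `c` with the base vectors -/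
def ClsQ (Xs : List ℕ) (n : ℤ) (c : List ℤ) (x : GolayPt → ℤ) : Prop :=
  x ∈ leechLattice ∧ sqNorm x = n ∧ dotsV Xs x = c

theorem clsQ_cons {Y : ℕ} {Xs : List ℕ} {n d : ℤ} {c : List ℤ} {x : GolayPt → ℤ} :
    ClsQ (Y :: Xs) n (d :: c) x ↔ ClsQ Xs n c x ∧ dotInt (V Y) x = d := by
  unfold ClsQ dotsV
  rw [List.map_cons, List.cons.injEq]
  tauto

theorem clsQ_nil {n : ℤ} {x : GolayPt → ℤ} : ClsQ [] n [] x ↔ x ∈ leechLattice ∧ sqNorm x = n := by
  unfold ClsQ dotsV
  simp

/-- kernel check of the inner products -/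
def dotsOK (Xs : List ℕ) (r : ℕ) : List ℤ → Bool :=
  List.rec (motive := fun _ => List ℤ → Bool)
    (fun c => List.rec true (fun _ _ _ => false) c)
    (fun X _ ih c => List.rec false (fun d ds _ => band (decide (dotC X r = d)) (ih ds)) c) Xs

theorem dotsOK_spec (r : ℕ) : ∀ (Xs : List ℕ) (c : List ℤ), dotsOK Xs r c = true →
    dotsV Xs (V r) = c := by
  intro Xs
  induction Xs with
  | nil =>
    intro c h
    cases c with
    | nil => rfl
    | cons d ds => exact Bool.noConfusion h
  | cons X Xs ih =>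
    intro c h
    cases c with
    | nil => exact Bool.noConfusion h
    | cons d ds =>
      have h' : band (decide (dotC X r = d)) (dotsOK Xs r ds) = true := h
      rw [band_eq, Bool.and_eq_true, decide_eq_true_eq] at h'
      unfold dotsV
      rw [List.map_cons, dotInt_V, h'.1]
      congr 1
      exact ih ds h'.2

/-- kernel check that the code `r` gives a vector of the class -/
def clsOK (Xs : List ℕ) (n : ℤ) (c : List ℤ) (r : ℕ) : Bool :=
  band (codeOK r) (band (leechOK r) (band (decide (dotC r r = n)) (dotsOK Xs r c)))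

theorem clsOK_spec {Xs : List ℕ} {n : ℤ} {c : List ℤ} {r : ℕ} (h : clsOK Xs n c r = true) :
    ClsQ Xs n c (V r) ∧ r = enc (V r) := by
  unfold clsOK at h
  rw [band_eq, band_eq, band_eq, Bool.and_eq_true, Bool.and_eq_true, Bool.and_eq_true,
    decide_eq_true_eq] at h
  obtain ⟨h1, h2, h3, h4⟩ := h
  exact ⟨⟨V_mem h2, by rw [sqNorm_V, h3], dotsOK_spec r Xs c h4⟩, (enc_V h1).symm⟩

theorem dotInt_sgnV (m : ℕ) (x y : GolayPt → ℤ) : dotInt (sgnV m x) (sgnV m y) = dotInt x y := by
  unfold dotInt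
  apply Finset.sum_congr rfl
  intro i _
  simp only [sgnV]
  split_ifs <;> ring

theorem cls_signData {S : ℕ} {Xs : List ℕ} (hb : baseOK S Xs = true) {n : ℤ} (hn : n ≤ 64)
    (c : List ℤ) : SignData (ClsQ Xs n c) (okMask S) := by
  refine ⟨fun x hx => small_of_sqNorm_le (by rw [hx.2.1]; exact hn), ?_⟩
  rintro m hm x ⟨h1, h2, h3⟩
  have hm' := hm
  unfold okMask at hm'
  rw [band_eq, Bool.and_eq_true] at hm'
  have e : sgnV m x = ((sgnCo0 m hm'.1 • (⟨x, h1⟩ : ↥leechLattice) : ↥leechLattice) : GolayPt → ℤ) :=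
    (sgnCo0_smul m hm'.1 ⟨x, h1⟩).symm
  refine ⟨by rw [e]; exact Subtype.property _, by rw [e, co0_sqNorm]; exact h2, ?_⟩
  rw [← h3]
  unfold dotsV
  apply List.map_congr_left
  intro X hX
  conv_lhs => rw [← sgnV_V_of_okMask hb hX hm]
  exact dotInt_sgnV m _ _

/-- lower bound for a class from explicit representatives -/
theorem class_lower {S : ℕ} {Xs : List ℕ} (hb : baseOK S Xs = true) {n : ℤ} (hn : n ≤ 64)
    (c : List ℤ) {X0 : ℕ} (hX0 : clsOK Xs n c X0 = true) (gs : List (RepGroup ℕ))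
    (h : groupsOK (okMask S) (fun r => Bool.rec X0 r (clsOK Xs n c r)) gs 0 = true) :
    ∃ F : Finset (GolayPt → ℤ), F.card = totalCount gs ∧ ∀ x ∈ F, ClsQ Xs n c x := by
  obtain ⟨F, hF, hFx⟩ := orbit_lower_bound (cls_signData hb hn c)
    (fun r => Bool.rec X0 r (clsOK Xs n c r))
    (fun r => by
      cases hr : clsOK Xs n c r
      · exact ⟨V X0, clsOK_spec hX0⟩
      · exact ⟨V r, clsOK_spec hr⟩) gs 0 h
  exact ⟨F, hF, fun x hx => (hFx x hx).1⟩

/-! ### the census for lists -/

theorem census_list {α : Type*} (S : Set α) (hfin : S.Finite) (f : α → ℤ) (data : List (ℤ × ℕ))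
    (hnd : (data.map Prod.fst).Nodup) (P : ℤ → α → Prop)
    (h : ∀ e ∈ data, ∃ F : Finset α, F.card = e.2 ∧ ∀ x ∈ F, P e.1 x)
    (hP : ∀ e ∈ data, ∀ x, P e.1 x → x ∈ S ∧ f x = e.1)
    (hcard : S.ncard = (data.map Prod.snd).sum) :
    (∀ x ∈ S, f x ∈ data.map Prod.fst ∧ P (f x) x) ∧
      ∀ e ∈ data, {x | x ∈ S ∧ f x = e.1}.ncard = e.2 := by
  classical
  have hinj : ∀ e ∈ data, ∀ e' ∈ data, e.1 = e'.1 → e = e' := List.inj_on_of_nodup_map hnd
  let m : ℤ → ℕ := fun c => if hc : ∃ e ∈ data, e.1 = c then (Classical.choose hc).2 else 0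
  have hm : ∀ e ∈ data, m e.1 = e.2 := by
    intro e he
    have hc : ∃ e' ∈ data, e'.1 = e.1 := ⟨e, he, rfl⟩
    have h1 := Classical.choose_spec hc
    simp only [m, dif_pos hc]
    rw [hinj _ h1.1 e he h1.2]
  have hsum : ∑ c ∈ (data.map Prod.fst).toFinset, m c = (data.map Prod.snd).sum := by
    rw [List.sum_toFinset _ hnd, List.map_map]
    congr 1
    apply List.map_congr_left
    intro e he
    exact hm e he
  have hmem : ∀ c ∈ (data.map Prod.fst).toFinset, ∃ e ∈ data, e.1 = c := by
    intro c hc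
    rw [List.mem_toFinset, List.mem_map] at hc
    exact hc
  have key := census S hfin f (data.map Prod.fst).toFinset m P
    (by
      intro c hc
      obtain ⟨e, he, rfl⟩ := hmem c hc
      rw [hm e he]
      exact h e he)
    (by
      intro c hc
      obtain ⟨e, he, rfl⟩ := hmem c hc
      exact hP e he)
    (by rw [hcard, hsum])
  refine ⟨fun x hx => ⟨List.mem_toFinset.1 (key.1 x hx).1, (key.1 x hx).2⟩, fun e he => ?_⟩
  rw [key.2 e.1 (List.mem_toFinset.2 (List.mem_map.2 ⟨e, he, rfl⟩)), hm e he]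

/-- data for the refinement of a class by one more inner product: value, first representative, groups -/
abbrev RefineData := List (ℤ × ℕ × List (RepGroup ℕ))

/-- kernel check of the data -/
def refineOK (S : ℕ) (Xs : List ℕ) (n : ℤ) (c : List ℤ) (data : RefineData) : Bool :=
  allList (fun e => band (clsOK Xs n (e.1 :: c) e.2.1)
    (groupsOK (okMask S) (fun r => Bool.rec e.2.1 r (clsOK Xs n (e.1 :: c) r)) e.2.2 0)) data

theorem refine_census {S Y : ℕ} {Xs : List ℕ} (hb : baseOK S (Y :: Xs) = true) {n : ℤ} (hn : n ≤ 64)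
    {c : List ℤ} {N : ℕ} (hN : {x | ClsQ Xs n c x}.ncard = N) (hN0 : N ≠ 0) (data : RefineData)
    (hnd : (data.map Prod.fst).Nodup) (hok : refineOK S (Y :: Xs) n c data = true)
    (hsum : (data.map (fun e => totalCount e.2.2)).sum = N) :
    (∀ x, ClsQ Xs n c x → dotInt (V Y) x ∈ data.map Prod.fst) ∧
      ∀ e ∈ data, {x | ClsQ (Y :: Xs) n (e.1 :: c) x}.ncard = totalCount e.2.2 := by
  unfold refineOK at hok
  rw [allList_iff] at hok
  have key := census_list {x | ClsQ Xs n c x}
    (Set.finite_of_ncard_ne_zero (by rw [hN]; exact hN0)) (fun x => dotInt (V Y) x)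
    (data.map (fun e => (e.1, totalCount e.2.2)))
    (by rw [List.map_map]; exact hnd)
    (fun d x => ClsQ (Y :: Xs) n (d :: c) x)
    (by
      intro e he
      obtain ⟨e', he', rfl⟩ := List.mem_map.1 he
      have h1 := hok e' he'
      rw [band_eq, Bool.and_eq_true] at h1
      exact class_lower hb hn (e'.1 :: c) h1.1 e'.2.2 h1.2)
    (by
      intro e _ x hx
      exact clsQ_cons.1 hx)
    (by rw [hN, List.map_map]; exact hsum.symm)
  constructor
  · intro x hx
    have := (key.1 x hx).1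
    rwa [List.map_map] at this
  · intro e he
    have h1 : {x | x ∈ {x | ClsQ Xs n c x} ∧ dotInt (V Y) x = e.1}.ncard = totalCount e.2.2 :=
      key.2 (e.1, totalCount e.2.2) (List.mem_map.2 ⟨e, he, rfl⟩)
    rw [← h1]
    congr 1
    ext x
    exact clsQ_cons

/-- a subset of a finite set with the same number of elements is everything -/
theorem all_of_card {α : Type*} {S : Set α} {m : ℕ} (hS : S.ncard = m) (hm : m ≠ 0)
    {P : α → Prop} (h : ∃ F : Finset α, F.card = m ∧ ∀ x ∈ F, P x) (hP : ∀ x, P x → x ∈ S) :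
    ∀ x ∈ S, P x := by
  have key := census S (Set.finite_of_ncard_ne_zero (by rw [hS]; exact hm)) (fun _ => ())
    {()} (fun _ => m) (fun _ x => P x) (fun _ _ => h) (fun _ _ x hx => ⟨hP x hx, rfl⟩)
    (by simp [hS])
  exact fun x hx => (key.1 x hx).2

end Cfsg.Agent.Lib.Helper54
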