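/-
Helper library (helper54): certificates based on packed tables of codes.  A table is a natural number whose
312-bit digits are strictly increasing codes of vectors; membership in an orbit is propagated along packed edges.
-/
import Cfsg.Agent.Lib.Helper54.Co0Class

set_option autoImplicit false

namespace Cfsg.Agent.Lib.Helper54

open Cfsg Cfsg.Agent.Lib.Helper27

/-- iteration with a forced state (indices `n-1, …, 0`) -/
def iterN (step : ℕ → ℕ → ℕ) (n : ℕ) (s : ℕ) : ℕ :=
  Nat.rec (motive := fun _ => ℕ → ℕ) (fun s => s) (fun i ih s => force (step i s) ih) n s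

theorem iterN_succ (step : ℕ → ℕ → ℕ) (n s : ℕ) :
    iterN step (n + 1) s = iterN step n (step n s) := by
  show force (step n s) (iterN step n) = _
  rw [force_eq]

theorem iterN_induction {P : ℕ → Prop} {step : ℕ → ℕ → ℕ} (h : ∀ i s, P s → P (step i s)) (n : ℕ) :
    ∀ s, P s → P (iterN step n s) := by
  induction n with
  | zero => intro s hs; exact hs
  | succ n ih =>
    intro s hs
    rw [iterN_succ]
    exact ih _ (h n s hs)

def mask312 : ℕ := Nat.sub (Nat.pow 2 312) 1

/-- the `k`-th entry of a table -/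
def tab (T k : ℕ) : ℕ := Nat.land (Nat.shiftRight T (Nat.mul 312 k)) mask312

/-- the first `n` entries are strictly increasing -/
def incOK (T n : ℕ) : Bool :=
  allBelow (fun k => Nat.blt (tab T k) (tab T (Nat.succ k))) (Nat.pred n)

theorem tab_lt_of_incOK {T n : ℕ} (h : incOK T n = true) :
    ∀ j, j < n → ∀ i, i < j → tab T i < tab T j := by
  unfold incOK at h
  rw [allBelow_iff] at h
  intro j
  induction j with
  | zero => intro _ i hi; exact absurd hi (Nat.not_lt_zero _)
  | succ j ih =>
    intro hj i hi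
    have h1 : tab T j < tab T (j + 1) := lt_of_blt (h j (by
      show j < n - 1
      omega))
    rcases Nat.lt_succ_iff_lt_or_eq.1 hi with h2 | h2
    · exact (ih (by omega) i h2).trans h1
    · rw [h2]; exact h1

theorem table_finset {Q : (GolayPt → ℤ) → Prop} {T n : ℕ} (hinc : incOK T n = true)
    (h : ∀ k < n, ∃ y, Q y ∧ tab T k = enc y) :
    ∃ F : Finset (GolayPt → ℤ), F.card = n ∧ ∀ x ∈ F, Q x := by
  classical
  have h' : ∀ k, ∃ y : GolayPt → ℤ, k < n → (Q y ∧ tab T k = enc y) := by
    intro k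
    by_cases hk : k < n
    · obtain ⟨y, hy⟩ := h k hk
      exact ⟨y, fun _ => hy⟩
    · exact ⟨0, fun hk' => absurd hk' hk⟩
  choose y hy using h'
  refine ⟨(Finset.range n).image y, ?_, ?_⟩
  · rw [Finset.card_image_of_injOn, Finset.card_range]
    intro i hi j hj hij
    have hi' : i < n := Finset.mem_range.1 hi
    have hj' : j < n := Finset.mem_range.1 hj
    have e : tab T i = tab T j := by rw [(hy i hi').2, (hy j hj').2, hij]
    rcases Nat.lt_trichotomy i j with hlt | heq | hlt
    · exact absurd e (ne_of_lt (tab_lt_of_incOK hinc j hj' i hlt))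
    · exact heq
    · exact absurd e.symm (ne_of_lt (tab_lt_of_incOK hinc i hi' j hlt))
  · intro x hx
    obtain ⟨k, hk, rfl⟩ := Finset.mem_image.1 hx
    exact (hy k (Finset.mem_range.1 hk)).1

/-- joining chunks of `w` bits -/
def joinChunks (w : ℕ) (cs : List ℕ) : ℕ :=
  List.rec 0 (fun c _ ih => Nat.add c (Nat.shiftLeft ih w)) cs

/-! ### tables for classes -/

def clsTabOK (Xs : List ℕ) (n : ℤ) (c : List ℤ) (T N : ℕ) : Bool :=
  band (incOK T N) (allBelow (fun k => clsOK Xs n c (tab T k)) N)

/-- the same with the table given by chunks of 64 entries -/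
def clsTabOK' (Xs : List ℕ) (n : ℤ) (c : List ℤ) (cs : List ℕ) (N : ℕ) : Bool :=
  force (joinChunks 19968 cs) (fun T => clsTabOK Xs n c T N)

theorem class_lower_tab {Xs : List ℕ} {n : ℤ} {c : List ℤ} {cs : List ℕ} {N : ℕ}
    (h : clsTabOK' Xs n c cs N = true) :
    ∃ F : Finset (GolayPt → ℤ), F.card = N ∧ ∀ x ∈ F, ClsQ Xs n c x := by
  unfold clsTabOK' at h
  rw [force_eq] at h
  unfold clsTabOK at h
  rw [band_eq, Bool.and_eq_true, allBelow_iff] at h
  exact table_finset h.1 (fun k hk => ⟨_, clsOK_spec (h.2 k hk)⟩)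

/-! ### tables for orbits -/

/-- one step: a generator followed by a sign change (nothing if the mask is zero) -/
def stepC (ok : ℕ → Bool) (gens : List (ℕ × List ℕ)) (t m X : ℕ) : ℕ :=
  Nat.rec (appIdx gens t X) (fun _ _ => stepCode ok gens t m X) m

theorem stepC_sound {Q : (GolayPt → ℤ) → Prop} {ok : ℕ → Bool} {gens : List (ℕ × List ℕ)}
    (D : OrbitData Q ok gens) (t m : ℕ) (x : GolayPt → ℤ) (hx : Q x) :
    ∃ y, Q y ∧ stepC ok gens t m (enc x) = enc y := by
  cases m with
  | zero => exact appIdx_sound gens D.gen t x hx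
  | succ m => exact stepCode_sound D t (m + 1) x hx

/-- processing of an edge record `r = p + 2^20 k + 2^40 t + 2^48 m` -/
def edgeStep (ok : ℕ → Bool) (gens : List (ℕ × List ℕ)) (T r known : ℕ) : ℕ :=
  Bool.rec known (Nat.lor known (Nat.shiftLeft 1 (Nat.land (Nat.shiftRight r 20) 1048575)))
    (band (Nat.testBit known (Nat.land r 1048575))
      (Nat.beq (stepC ok gens (Nat.land (Nat.shiftRight r 40) 255) (Nat.shiftRight r 48)
        (tab T (Nat.land r 1048575))) (tab T (Nat.land (Nat.shiftRight r 20) 1048575))))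

/-- the `i`-th edge record -/
def edgeAt (E i : ℕ) : ℕ := Nat.land (Nat.shiftRight E (Nat.mul 72 i)) 4722366482869645213695

/-- the bitmap of the roots -/
def initBits (roots : List ℕ) : ℕ := List.rec 0 (fun k _ ih => Nat.lor ih (Nat.shiftLeft 1 k)) roots

theorem testBit_initBits {roots : List ℕ} {k : ℕ} (h : Nat.testBit (initBits roots) k = true) :
    k ∈ roots := by
  induction roots with
  | nil => simp [initBits] at h
  | cons a l ih =>
    have h' : ((initBits l) ||| (1 <<< a)).testBit k = true := h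
    rw [Nat.testBit_or, Bool.or_eq_true] at h'
    rcases h' with h' | h'
    · exact List.mem_cons_of_mem _ (ih h')
    · rw [Nat.one_shiftLeft, Nat.testBit_two_pow, decide_eq_true_eq] at h'
      rw [← h']
      exact List.mem_cons_self

def orbTabOK (ok : ℕ → Bool) (gens : List (ℕ × List ℕ)) (rootchk : ℕ → Bool) (T N : ℕ)
    (roots : List ℕ) (E ne : ℕ) : Bool :=
  band (incOK T N) (band (allList (fun k => rootchk (tab T k)) roots)
    (Nat.beq (iterN (fun i known => force (edgeAt E i) (fun r => edgeStep ok gens T r known)) ne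
      (initBits roots)) (Nat.sub (Nat.pow 2 N) 1)))

/-- the same with the table given by chunks of 64 entries and the edges by chunks of 256 records -/
def orbTabOK' (ok : ℕ → Bool) (gens : List (ℕ × List ℕ)) (rootchk : ℕ → Bool) (cs : List ℕ) (N : ℕ)
    (roots : List ℕ) (es : List ℕ) (ne : ℕ) : Bool :=
  force (joinChunks 19968 cs) (fun T => force (joinChunks 18432 es)
    (fun E => orbTabOK ok gens rootchk T N roots E ne))

theorem orbit_lower_tab {Q : (GolayPt → ℤ) → Prop} {ok : ℕ → Bool} {gens : List (ℕ × List ℕ)}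
    (D : OrbitData Q ok gens) {rootchk : ℕ → Bool}
    (hroot : ∀ r, rootchk r = true → ∃ x, Q x ∧ r = enc x) {cs : List ℕ} {N : ℕ} {roots : List ℕ}
    {es : List ℕ} {ne : ℕ} (h : orbTabOK' ok gens rootchk cs N roots es ne = true) :
    ∃ F : Finset (GolayPt → ℤ), F.card = N ∧ ∀ x ∈ F, Q x := by
  unfold orbTabOK' at h
  rw [force_eq, force_eq] at h
  generalize joinChunks 19968 cs = T at h
  generalize joinChunks 18432 es = E at h
  unfold orbTabOK at h
  rw [band_eq, band_eq, Bool.and_eq_true, Bool.and_eq_true, Nat.beq_eq, allList_iff] at h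
  obtain ⟨h1, h2, h3⟩ := h
  apply table_finset h1
  have inv : ∀ k, Nat.testBit (iterN (fun i known => force (edgeAt E i)
      (fun r => edgeStep ok gens T r known)) ne (initBits roots)) k = true →
      ∃ y, Q y ∧ tab T k = enc y := by
    apply iterN_induction (P := fun s => ∀ k, Nat.testBit s k = true → ∃ y, Q y ∧ tab T k = enc y)
    · intro i s hs k hk
      rw [force_eq] at hk
      generalize edgeAt E i = r at hk
      unfold edgeStep at hk
      cases hb : (band (Nat.testBit s (Nat.land r 1048575))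
        (Nat.beq (stepC ok gens (Nat.land (Nat.shiftRight r 40) 255) (Nat.shiftRight r 48)
          (tab T (Nat.land r 1048575))) (tab T (Nat.land (Nat.shiftRight r 20) 1048575))))
      · rw [hb] at hk
        exact hs k hk
      · rw [hb] at hk
        rw [band_eq, Bool.and_eq_true, Nat.beq_eq] at hb
        have hk' : (s ||| (1 <<< (Nat.land (Nat.shiftRight r 20) 1048575))).testBit k = true := hk
        rw [Nat.testBit_or, Bool.or_eq_true] at hk'
        rcases hk' with hk' | hk'
        · exact hs k hk'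
        · rw [Nat.one_shiftLeft, Nat.testBit_two_pow, decide_eq_true_eq] at hk'
          obtain ⟨y, hy, hy'⟩ := hs _ hb.1
          obtain ⟨z, hz, hz'⟩ := stepC_sound D (Nat.land (Nat.shiftRight r 40) 255)
            (Nat.shiftRight r 48) y hy
          refine ⟨z, hz, ?_⟩
          rw [← hk', ← hb.2, hy', hz']
    · intro k hk
      exact hroot _ (h2 k (testBit_initBits hk))
  intro k hk
  apply inv k
  rw [h3]
  show (2 ^ N - 1).testBit k = true
  rw [Nat.testBit_two_pow_sub_one, decide_eq_true_eq]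
  exact hk

/-- lower bound for the orbit of the vector with code `X0` under the stabilizer of the vectors with codes `Xs` -/
theorem stab_orbit_tab {S : ℕ} {Xs : List ℕ} {gens : List (ℕ × List ℕ)} (hb : baseOK S Xs = true)
    (hg : gensOK gens = true) (hf : fixOK gens Xs = true) {X0 : ℕ} (hX0 : codeOK X0 = true)
    (hL : V X0 ∈ leechLattice) (hn : dotC X0 X0 ≤ 64) {cs : List ℕ} {N : ℕ} {roots : List ℕ}
    {es : List ℕ} {ne : ℕ} (h : orbTabOK' (okMask S) gens (Nat.beq X0) cs N roots es ne = true) :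
    ∃ F : Finset (GolayPt → ℤ), F.card = N ∧ ∀ x ∈ F, Orb (StabC Xs) ⟨V X0, hL⟩ x := by
  have D := stab_orbitData hb hg hf ⟨V X0, hL⟩ (by show sqNorm (V X0) ≤ 64; rw [sqNorm_V]; exact hn)
  refine orbit_lower_tab D (fun r hr => ?_) h
  rw [Nat.beq_eq] at hr
  exact ⟨V X0, Orb.self _ ⟨V X0, hL⟩, by rw [← hr, enc_V hX0]⟩

/-! ### classes are invariant under the generators fixing the base vectors -/

theorem genCo0_mem_StabC {S : ℕ} {Xs : List ℕ} {gens : List (ℕ × List ℕ)} (hb : baseOK S Xs = true)
    (hg : gensOK gens = true) (hf : fixOK gens Xs = true) :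
    ∀ g ∈ gens, ∀ h : certOK g.2 = true, genCo0 g.2 h ∈ StabC Xs := by
  intro g hgm h X hX hL
  unfold baseOK at hb
  rw [allList_iff] at hb
  have h1 := hb X hX
  rw [band_eq, band_eq, Bool.and_eq_true, Bool.and_eq_true, decide_eq_true_eq] at h1
  unfold fixOK at hf
  rw [allList_iff] at hf
  have h2 := hf g hgm
  rw [allList_iff] at h2
  have h3 : appFast g.1 g.2 X = X := Nat.eq_of_beq_eq_true (h2 X hX)
  unfold gensOK at hg
  rw [allList_iff] at hg
  have h4 := hg g hgm
  rw [band_eq, Bool.and_eq_true] at h4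
  apply Subtype.ext
  exact genCo0_smul_of_appFast h h4.2 h1.1 h1.1 h1.2.1 hL h3

theorem cls_orbitData {S : ℕ} {Xs : List ℕ} {gens : List (ℕ × List ℕ)} (hb : baseOK S Xs = true)
    (hg : gensOK gens = true) (hf : fixOK gens Xs = true) (hL : ∀ X ∈ Xs, V X ∈ leechLattice)
    {n : ℤ} (hn : n ≤ 64) (c : List ℤ) : OrbitData (ClsQ Xs n c) (okMask S) gens := by
  have D := cls_signData hb hn c
  refine ⟨D.small, ?_, D.sgn⟩
  rintro g hgm x ⟨h1, h2, h3⟩
  have hg' := hg
  unfold gensOK at hg'
  rw [allList_iff] at hg'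
  have h4 := hg' g hgm
  rw [band_eq, Bool.and_eq_true] at h4
  have hst := genCo0_mem_StabC hb hg hf g hgm h4.1
  refine ⟨((genCo0 g.2 h4.1 • (⟨x, h1⟩ : ↥leechLattice) : ↥leechLattice) : GolayPt → ℤ),
    ⟨Subtype.property _, by rw [co0_sqNorm]; exact h2, ?_⟩,
    appFast_genCo0 h4.1 h4.2 ⟨x, h1⟩ (by show sqNorm x ≤ 64; rw [h2]; exact hn)⟩
  rw [← h3]
  unfold dotsV
  apply List.map_congr_left
  intro X hX
  have e := co0_dotInt (genCo0 g.2 h4.1) ⟨V X, hL X hX⟩ ⟨x, h1⟩
  rw [hst X hX (hL X hX)] at e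
  exact e

/-- lower bound for a class from a table whose entries are reached from checked roots -/
theorem class_orbit_tab {S : ℕ} {Xs : List ℕ} {gens : List (ℕ × List ℕ)} (hb : baseOK S Xs = true)
    (hg : gensOK gens = true) (hf : fixOK gens Xs = true) (hL : ∀ X ∈ Xs, V X ∈ leechLattice)
    {n : ℤ} (hn : n ≤ 64) {c : List ℤ} {cs : List ℕ} {N : ℕ} {roots : List ℕ}
    {es : List ℕ} {ne : ℕ}
    (h : orbTabOK' (okMask S) gens (clsOK Xs n c) cs N roots es ne = true) :
    ∃ F : Finset (GolayPt → ℤ), F.card = N ∧ ∀ x ∈ F, ClsQ Xs n c x :=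
  orbit_lower_tab (cls_orbitData hb hg hf hL hn c) (fun r hr => ⟨V r, clsOK_spec hr⟩) h

end Cfsg.Agent.Lib.Helper54
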