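/-
Helper library (helper54): refinement of an exact count by one more inner product, with the classes given by tables.
-/
import Cfsg.Agent.Lib.Helper54.Co0Table

set_option autoImplicit false

namespace Cfsg.Agent.Lib.Helper54

open Cfsg Cfsg.Agent.Lib.Helper27

/-- data: value of the new inner product, chunks of the table, number of entries -/
abbrev RefineTab := List (ℤ × List ℕ × ℕ)

def refineTabOK (Xs : List ℕ) (n : ℤ) (c : List ℤ) (data : RefineTab) : Bool :=
  allList (fun e => clsTabOK' Xs n (e.1 :: c) e.2.1 e.2.2) data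

theorem refine_census_tab {Y : ℕ} {Xs : List ℕ} {n : ℤ}
    {c : List ℤ} {N : ℕ} (hN : {x | ClsQ Xs n c x}.ncard = N) (hN0 : N ≠ 0) (data : RefineTab)
    (hnd : (data.map Prod.fst).Nodup) (hok : refineTabOK (Y :: Xs) n c data = true)
    (hsum : (data.map (fun e => e.2.2)).sum = N) :
    (∀ x, ClsQ Xs n c x → dotInt (V Y) x ∈ data.map Prod.fst) ∧
      ∀ e ∈ data, {x | ClsQ (Y :: Xs) n (e.1 :: c) x}.ncard = e.2.2 := by
  unfold refineTabOK at hok
  rw [allList_iff] at hok
  have key := census_list {x | ClsQ Xs n c x}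
    (Set.finite_of_ncard_ne_zero (by rw [hN]; exact hN0)) (fun x => dotInt (V Y) x)
    (data.map (fun e => (e.1, e.2.2)))
    (by rw [List.map_map]; exact hnd)
    (fun d x => ClsQ (Y :: Xs) n (d :: c) x)
    (by
      intro e he
      obtain ⟨e', he', rfl⟩ := List.mem_map.1 he
      exact class_lower_tab (hok e' he'))
    (by
      intro e _ x hx
      exact clsQ_cons.1 hx)
    (by rw [hN, List.map_map]; exact hsum.symm)
  constructor
  · intro x hx
    have := (key.1 x hx).1
    rwa [List.map_map] at this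
  · intro e he
    have h1 : {x | x ∈ {x | ClsQ Xs n c x} ∧ dotInt (V Y) x = e.1}.ncard = e.2.2 :=
      key.2 (e.1, e.2.2) (List.mem_map.2 ⟨e, he, rfl⟩)
    rw [← h1]
    congr 1
    ext x
    exact clsQ_cons

/-- if the number of elements of a class is the length of a table of elements of the class, the class is the table -/
theorem class_eq_tab {Xs : List ℕ} {n : ℤ} {c : List ℤ} {cs : List ℕ} {N : ℕ}
    (h : clsTabOK' Xs n c cs N = true) (hcard : {x | ClsQ Xs n c x}.ncard = N) (hN0 : N ≠ 0) :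
    ∀ x, ClsQ Xs n c x → ∃ k < N, x = V (tab (joinChunks 19968 cs) k) := by
  unfold clsTabOK' at h
  rw [force_eq] at h
  unfold clsTabOK at h
  rw [band_eq, Bool.and_eq_true, allBelow_iff] at h
  have key := all_of_card (S := {x | ClsQ Xs n c x}) hcard hN0
    (P := fun x => ClsQ Xs n c x ∧ ∃ k < N, x = V (tab (joinChunks 19968 cs) k))
    (table_finset h.1 (fun k hk =>
      ⟨V (tab (joinChunks 19968 cs) k), ⟨(clsOK_spec (h.2 k hk)).1, k, hk, rfl⟩,
        (clsOK_spec (h.2 k hk)).2⟩))
    (fun x hx => hx.1)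
  exact fun x hx => (key x hx).2

theorem clsQ_one {X : ℕ} {n d : ℤ} {x : GolayPt → ℤ} :
    ClsQ [X] n [d] x ↔ (x ∈ leechLattice ∧ sqNorm x = n) ∧ dotInt (V X) x = d := by
  rw [clsQ_cons, clsQ_nil]

/-- data: value of the new inner product, chunks of the table, number of entries, roots, chunks of the edges,
number of edges -/
abbrev RefineOrb := List (ℤ × List ℕ × ℕ × List ℕ × List ℕ × ℕ)

def refineOrbOK (S : ℕ) (gens : List (ℕ × List ℕ)) (Xs : List ℕ) (n : ℤ) (c : List ℤ)
    (data : RefineOrb) : Bool :=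
  allList (fun e => orbTabOK' (okMask S) gens (clsOK Xs n (e.1 :: c)) e.2.1 e.2.2.1 e.2.2.2.1
    e.2.2.2.2.1 e.2.2.2.2.2) data

theorem refine_census_orb {S Y : ℕ} {Xs : List ℕ} {gens : List (ℕ × List ℕ)}
    (hb : baseOK S (Y :: Xs) = true) (hg : gensOK gens = true) (hf : fixOK gens (Y :: Xs) = true)
    (hL : ∀ X ∈ Y :: Xs, V X ∈ leechLattice) {n : ℤ} (hn : n ≤ 64)
    {c : List ℤ} {N : ℕ} (hN : {x | ClsQ Xs n c x}.ncard = N) (hN0 : N ≠ 0) (data : RefineOrb)
    (hnd : (data.map Prod.fst).Nodup) (hok : refineOrbOK S gens (Y :: Xs) n c data = true)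
    (hsum : (data.map (fun e => e.2.2.1)).sum = N) :
    (∀ x, ClsQ Xs n c x → dotInt (V Y) x ∈ data.map Prod.fst) ∧
      ∀ e ∈ data, {x | ClsQ (Y :: Xs) n (e.1 :: c) x}.ncard = e.2.2.1 := by
  unfold refineOrbOK at hok
  rw [allList_iff] at hok
  have key := census_list {x | ClsQ Xs n c x}
    (Set.finite_of_ncard_ne_zero (by rw [hN]; exact hN0)) (fun x => dotInt (V Y) x)
    (data.map (fun e => (e.1, e.2.2.1)))
    (by rw [List.map_map]; exact hnd)
    (fun d x => ClsQ (Y :: Xs) n (d :: c) x)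
    (by
      intro e he
      obtain ⟨e', he', rfl⟩ := List.mem_map.1 he
      exact class_orbit_tab hb hg hf hL hn (hok e' he'))
    (by
      intro e _ x hx
      exact clsQ_cons.1 hx)
    (by rw [hN, List.map_map]; exact hsum.symm)
  constructor
  · intro x hx
    have := (key.1 x hx).1
    rwa [List.map_map] at this
  · intro e he
    have h1 : {x | x ∈ {x | ClsQ Xs n c x} ∧ dotInt (V Y) x = e.1}.ncard = e.2.2.1 :=
      key.2 (e.1, e.2.2.1) (List.mem_map.2 ⟨e, he, rfl⟩)
    rw [← h1]
    congr 1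
    ext x
    exact clsQ_cons

end Cfsg.Agent.Lib.Helper54
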