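/-
Helper library (helper54): the action of `Co0` on minimal vectors and on pairs of minimal vectors.
-/
import Cfsg.Agent.Lib.Helper54.Co0Census
import Cfsg.Agent.Lib.Helper54.Co2Move
import Cfsg.Agent.S0394

set_option autoImplicit false

namespace Cfsg.Agent.Lib.Helper54

open Cfsg Cfsg.Agent.Lib.Helper27

/-! ### transport of cardinalities -/

theorem ncard_coe_set (R : (GolayPt → ℤ) → Prop) :
    {x : GolayPt → ℤ | x ∈ leechLattice ∧ R x}.ncard = {x : ↥leechLattice | R x}.ncard := by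
  have : {x : GolayPt → ℤ | x ∈ leechLattice ∧ R x} = Subtype.val '' {x : ↥leechLattice | R x} := by
    ext x
    constructor
    · rintro ⟨h1, h2⟩
      exact ⟨⟨x, h1⟩, h2, rfl⟩
    · rintro ⟨y, hy, rfl⟩
      exact ⟨y.2, hy⟩
  rw [this, Set.ncard_image_of_injective _ Subtype.val_injective]

theorem ncard_smul (a : ↥Co0) (P P' : ↥leechLattice → Prop) (h : ∀ x, P x ↔ P' (a • x)) :
    {x | P x}.ncard = {x | P' x}.ncard := by
  have : {x | P' x} = (fun x => a • x) '' {x | P x} := by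
    ext y
    constructor
    · intro hy
      refine ⟨a⁻¹ • y, ?_, smul_inv_smul a y⟩
      show P (a⁻¹ • y)
      rw [h, smul_inv_smul]
      exact hy
    · rintro ⟨x, hx, rfl⟩
      exact (h x).1 hx
  rw [this, Set.ncard_image_of_injective _ (MulAction.injective a)]

theorem sqNorm_neg' (x : GolayPt → ℤ) : sqNorm (-x) = sqNorm x := by
  unfold sqNorm
  simp

theorem dotInt_neg_right' (x y : GolayPt → ℤ) : dotInt x (-y) = - dotInt x y := by
  unfold dotInt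
  simp

/-! ### the standard minimal vector -/

/-- the vector `4 e_∞ - 4 e_0` -/
def v0 : ↥leechLattice := LV Xv0 Xv0_leech
def wA : ↥leechLattice := LV XwA XwA_leech
def wB : ↥leechLattice := LV XwB XwB_leech
def wC : ↥leechLattice := LV XwC XwC_leech

/-- the stabilizer of `v0` -/
def H0 : Subgroup ↥Co0 := StabC [Xv0]

theorem mem_H0 {g : ↥Co0} : g ∈ H0 ↔ g • v0 = v0 := by
  unfold H0
  rw [mem_StabC]
  constructor
  · intro h
    exact h Xv0 (List.mem_singleton.2 rfl) _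
  · intro h X hX hL
    rw [List.mem_singleton] at hX
    subst hX
    exact h

/-- base points of the orbits of `H0` on the minimal vectors, by inner product with `v0` -/
def wOf (c : ℤ) : ↥leechLattice :=
  if c = 32 then v0 else if c = -32 then -v0 else if c = -16 then wA else if c = 16 then -wA
  else if c = -8 then wB else if c = 8 then -wB else wC

/-- lengths of the orbits -/
def mOf (c : ℤ) : ℕ :=
  if c = 32 then 1 else if c = -32 then 1 else if c = -16 then 4600 else if c = 16 then 4600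
  else if c = -8 then 47104 else if c = 8 then 47104 else 93150

def csCo2 : Finset ℤ := {32, -32, -16, 16, -8, 8, 0}

theorem forall_csCo2 {p : ℤ → Prop} (h1 : p 32) (h2 : p (-32)) (h3 : p (-16)) (h4 : p 16) (h5 : p (-8))
    (h6 : p 8) (h7 : p 0) : ∀ c ∈ csCo2, p c := by
  intro c hc
  simp only [csCo2, Finset.mem_insert, Finset.mem_singleton] at hc
  rcases hc with rfl | rfl | rfl | rfl | rfl | rfl | rfl <;> assumption

theorem lbA : ∃ F : Finset (GolayPt → ℤ), F.card = 4600 ∧ ∀ x ∈ F, Orb H0 wA x := by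
  have := stab_orbit_lower co2_base co2Gens_ok co2_fix XwA_code (V_mem XwA_leech)
    (by rw [XwA_norm]; norm_num) co2GroupsA co2GroupsA_ok
  rwa [co2GroupsA_count] at this

theorem lbB : ∃ F : Finset (GolayPt → ℤ), F.card = 47104 ∧ ∀ x ∈ F, Orb H0 wB x := by
  have := stab_orbit_lower co2_base co2Gens_ok co2_fix XwB_code (V_mem XwB_leech)
    (by rw [XwB_norm]; norm_num) co2GroupsB co2GroupsB_ok
  rwa [co2GroupsB_count] at this

theorem lbC : ∃ F : Finset (GolayPt → ℤ), F.card = 93150 ∧ ∀ x ∈ F, Orb H0 wC x := by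
  have := stab_orbit_lower co2_base co2Gens_ok co2_fix XwC_code (V_mem XwC_leech)
    (by rw [XwC_norm]; norm_num) co2GroupsC co2GroupsC_ok
  rwa [co2GroupsC_count] at this

theorem lb_self (w : ↥leechLattice) :
    ∃ F : Finset (GolayPt → ℤ), F.card = 1 ∧ ∀ x ∈ F, Orb H0 w x :=
  ⟨{(w : GolayPt → ℤ)}, rfl, fun x hx => by rw [Finset.mem_singleton.1 hx]; exact Orb.self _ _⟩

theorem lb_all : ∀ c ∈ csCo2, ∃ F : Finset (GolayPt → ℤ), F.card = mOf c ∧ ∀ x ∈ F, Orb H0 (wOf c) x :=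
  forall_csCo2 (lb_self v0) (lb_self (-v0)) lbA (exists_finset_neg (fun _ h => Orb.neg h) lbA)
    lbB (exists_finset_neg (fun _ h => Orb.neg h) lbB) lbC

theorem wOf_spec : ∀ c ∈ csCo2, sqNorm ((wOf c : ↥leechLattice) : GolayPt → ℤ) = 32 ∧
    dotInt (V Xv0) ((wOf c : ↥leechLattice) : GolayPt → ℤ) = c := by
  have a0 : sqNorm (V Xv0) = 32 := by rw [sqNorm_V, Xv0_norm]
  have a1 : sqNorm (V XwA) = 32 := by rw [sqNorm_V, XwA_norm]
  have a2 : sqNorm (V XwB) = 32 := by rw [sqNorm_V, XwB_norm]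
  have a3 : sqNorm (V XwC) = 32 := by rw [sqNorm_V, XwC_norm]
  have b0 : dotInt (V Xv0) (V Xv0) = 32 := by rw [dotInt_V, Xv0_norm]
  have b1 : dotInt (V Xv0) (V XwA) = -16 := by rw [dotInt_V, XwA_dot]
  have b2 : dotInt (V Xv0) (V XwB) = -8 := by rw [dotInt_V, XwB_dot]
  have b3 : dotInt (V Xv0) (V XwC) = 0 := by rw [dotInt_V, XwC_dot]
  refine forall_csCo2 ⟨a0, b0⟩ ⟨?_, ?_⟩ ⟨a1, b1⟩ ⟨?_, ?_⟩ ⟨a2, b2⟩ ⟨?_, ?_⟩ ⟨a3, b3⟩
  · show sqNorm (-(V Xv0)) = 32
    rw [sqNorm_neg', a0]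
  · show dotInt (V Xv0) (-(V Xv0)) = -32
    rw [dotInt_neg_right', b0]
  · show sqNorm (-(V XwA)) = 32
    rw [sqNorm_neg', a1]
  · show dotInt (V Xv0) (-(V XwA)) = 16
    rw [dotInt_neg_right', b1]; norm_num
  · show sqNorm (-(V XwB)) = 32
    rw [sqNorm_neg', a2]
  · show dotInt (V Xv0) (-(V XwB)) = 8
    rw [dotInt_neg_right', b2]; norm_num

theorem co2_census :
    (∀ x ∈ {x : GolayPt → ℤ | x ∈ leechLattice ∧ sqNorm x = 32},
      dotInt (V Xv0) x ∈ csCo2 ∧ Orb H0 (wOf (dotInt (V Xv0) x)) x) ∧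
    ∀ c ∈ csCo2, {x | x ∈ {x : GolayPt → ℤ | x ∈ leechLattice ∧ sqNorm x = 32} ∧
      dotInt (V Xv0) x = c}.ncard = mOf c := by
  apply census {x : GolayPt → ℤ | x ∈ leechLattice ∧ sqNorm x = 32}
    (Set.finite_of_ncard_ne_zero (by rw [Cfsg.Agent.S0394.result]; norm_num))
    (fun x => dotInt (V Xv0) x) csCo2 mOf (fun c x => Orb H0 (wOf c) x) lb_all
  · intro c hc x hx
    obtain ⟨h1, h2⟩ := wOf_spec c hc
    refine ⟨⟨hx.mem, by rw [hx.sqNorm, h1]⟩, ?_⟩
    show dotInt (V Xv0) x = c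
    rw [Orb.dot_StabC hx (List.mem_singleton.2 rfl) (V_mem Xv0_leech), h2]
  · rw [Cfsg.Agent.S0394.result]
    decide

/-- `Co0` moves `v0` to all base points -/
theorem move_all : ∀ c ∈ csCo2, ∃ g : ↥Co0, g • v0 = wOf c := by
  have hn : dotC Xv0 Xv0 ≤ 64 := by rw [Xv0_norm]; norm_num
  have mA : ∃ g : ↥Co0, g • v0 = wA := ⟨genCo0 co2MoveA co2MoveA_cert, Subtype.ext
    (genCo0_smul_of_appFast co2MoveA_cert co2MoveA_cols Xv0_code XwA_code hn _ co2MoveA_app)⟩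
  have mB : ∃ g : ↥Co0, g • v0 = wB := ⟨genCo0 co2MoveB co2MoveB_cert, Subtype.ext
    (genCo0_smul_of_appFast co2MoveB_cert co2MoveB_cols Xv0_code XwB_code hn _ co2MoveB_app)⟩
  have mC : ∃ g : ↥Co0, g • v0 = wC := ⟨genCo0 co2MoveC co2MoveC_cert, Subtype.ext
    (genCo0_smul_of_appFast co2MoveC_cert co2MoveC_cols Xv0_code XwC_code hn _ co2MoveC_app)⟩
  have neg : ∀ {w : ↥leechLattice}, (∃ g : ↥Co0, g • v0 = w) → ∃ g : ↥Co0, g • v0 = -w := by
    rintro w ⟨g, rfl⟩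
    exact ⟨negCo0 * g, by rw [mul_smul, negCo0_smul]⟩
  exact forall_csCo2 ⟨1, one_smul _ _⟩ (neg ⟨1, one_smul _ _⟩) mA (neg mA) mB (neg mB) mC

/-- every minimal vector is an image of `v0` -/
theorem exists_smul_v0 (x : ↥leechLattice) (hx : sqNorm (x : GolayPt → ℤ) = 32) :
    ∃ g : ↥Co0, g • v0 = x := by
  obtain ⟨h1, g, -, h2⟩ := co2_census.1 (x : GolayPt → ℤ) ⟨x.2, hx⟩
  obtain ⟨a, ha⟩ := move_all _ h1
  exact ⟨g * a, by rw [mul_smul, ha]; exact (Subtype.ext h2).symm⟩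

/-- `Co0` is transitive on the minimal vectors -/
theorem co0_trans_min (v w : ↥leechLattice) (hv : sqNorm (v : GolayPt → ℤ) = 32)
    (hw : sqNorm (w : GolayPt → ℤ) = 32) : ∃ g : ↥Co0, g • v = w := by
  obtain ⟨a, rfl⟩ := exists_smul_v0 v hv
  obtain ⟨b, rfl⟩ := exists_smul_v0 w hw
  exact ⟨b * a⁻¹, by rw [mul_smul, inv_smul_smul]⟩

/-- the stabilizer of a minimal vector is transitive on the minimal vectors with a given inner product -/
theorem co0_trans_pair (v w w' : ↥leechLattice) (hv : sqNorm (v : GolayPt → ℤ) = 32)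
    (hw : sqNorm (w : GolayPt → ℤ) = 32) (hw' : sqNorm (w' : GolayPt → ℤ) = 32)
    (hd : dotInt (v : GolayPt → ℤ) (w : GolayPt → ℤ) = dotInt (v : GolayPt → ℤ) (w' : GolayPt → ℤ)) :
    ∃ g : ↥Co0, g • v = v ∧ g • w = w' := by
  obtain ⟨a, rfl⟩ := exists_smul_v0 v hv
  have e : ∀ y : ↥leechLattice, dotInt (V Xv0) ((a⁻¹ • y : ↥leechLattice) : GolayPt → ℤ)
      = dotInt ((a • v0 : ↥leechLattice) : GolayPt → ℤ) (y : GolayPt → ℤ) := by
    intro y
    have := co0_dotInt a v0 (a⁻¹ • y)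
    rw [smul_inv_smul] at this
    exact this.symm
  obtain ⟨-, h1⟩ := co2_census.1 ((a⁻¹ • w : ↥leechLattice) : GolayPt → ℤ)
    ⟨(a⁻¹ • w).2, by rw [co0_sqNorm]; exact hw⟩
  obtain ⟨-, h2⟩ := co2_census.1 ((a⁻¹ • w' : ↥leechLattice) : GolayPt → ℤ)
    ⟨(a⁻¹ • w').2, by rw [co0_sqNorm]; exact hw'⟩
  rw [e] at h1 h2
  rw [← hd] at h2
  obtain ⟨h, hh, hhw⟩ := Orb.conj h1 h2
  refine ⟨a * h * a⁻¹, ?_, ?_⟩
  · rw [mul_smul, mul_smul, inv_smul_smul, mem_H0.1 hh]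
  · rw [mul_smul, mul_smul, hhw, smul_inv_smul]

/-- the number of minimal vectors with a given inner product with a minimal vector -/
theorem co0_count_pair (v : ↥leechLattice) (hv : sqNorm (v : GolayPt → ℤ) = 32) :
    ∀ c ∈ csCo2, {w : ↥leechLattice | sqNorm (w : GolayPt → ℤ) = 32 ∧
      dotInt (v : GolayPt → ℤ) (w : GolayPt → ℤ) = c}.ncard = mOf c := by
  intro c hc
  obtain ⟨a, rfl⟩ := exists_smul_v0 v hv
  rw [← co2_census.2 c hc]
  have e1 : {x | x ∈ {x : GolayPt → ℤ | x ∈ leechLattice ∧ sqNorm x = 32} ∧ dotInt (V Xv0) x = c}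
      = {x : GolayPt → ℤ | x ∈ leechLattice ∧ (sqNorm x = 32 ∧ dotInt (V Xv0) x = c)} := by
    ext x
    simp only [Set.mem_ofPred_eq, and_assoc]
  rw [e1, ncard_coe_set (fun x => sqNorm x = 32 ∧ dotInt (V Xv0) x = c)]
  symm
  apply ncard_smul a
  intro x
  rw [co0_sqNorm, co0_dotInt]
  rfl

end Cfsg.Agent.Lib.Helper54
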