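/-
Helper library (helper54): transitivity of `Co0` on pairs of minimal vectors with a given inner product, and
elementary identities.
-/
import Cfsg.Agent.Lib.Helper54.Co2Main

set_option autoImplicit false

namespace Cfsg.Agent.Lib.Helper54

open Cfsg

theorem co0_trans_pairs (v w v' w' : ↥leechLattice) (hv : sqNorm (v : GolayPt → ℤ) = 32)
    (hw : sqNorm (w : GolayPt → ℤ) = 32) (hv' : sqNorm (v' : GolayPt → ℤ) = 32)
    (hw' : sqNorm (w' : GolayPt → ℤ) = 32)
    (hd : dotInt (v : GolayPt → ℤ) (w : GolayPt → ℤ) = dotInt (v' : GolayPt → ℤ) (w' : GolayPt → ℤ)) :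
    ∃ g : ↥Co0, g • v = v' ∧ g • w = w' := by
  obtain ⟨a, rfl⟩ := co0_trans_min v v' hv hv'
  obtain ⟨h, h1, h2⟩ := co0_trans_pair (a • v) (a • w) w' hv' (by rw [co0_sqNorm]; exact hw) hw'
    (by rw [co0_dotInt]; exact hd)
  exact ⟨h * a, by rw [mul_smul, h1], by rw [mul_smul, h2]⟩

theorem dotInt_comm' (x y : GolayPt → ℤ) : dotInt x y = dotInt y x := by
  unfold dotInt
  exact Finset.sum_congr rfl (fun i _ => mul_comm _ _)

theorem dotInt_add_right' (x y z : GolayPt → ℤ) : dotInt x (y + z) = dotInt x y + dotInt x z := by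
  unfold dotInt
  rw [← Finset.sum_add_distrib]
  exact Finset.sum_congr rfl (fun i _ => by simp only [Pi.add_apply]; ring)

theorem dotInt_sub_right' (x y z : GolayPt → ℤ) : dotInt x (y - z) = dotInt x y - dotInt x z := by
  unfold dotInt
  rw [← Finset.sum_sub_distrib]
  exact Finset.sum_congr rfl (fun i _ => by simp only [Pi.sub_apply]; ring)

theorem dotInt_add_left' (x y z : GolayPt → ℤ) : dotInt (x + y) z = dotInt x z + dotInt y z := by
  rw [dotInt_comm', dotInt_add_right', dotInt_comm' z x, dotInt_comm' z y]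

theorem dotInt_sub_left' (x y z : GolayPt → ℤ) : dotInt (x - y) z = dotInt x z - dotInt y z := by
  rw [dotInt_comm', dotInt_sub_right', dotInt_comm' z x, dotInt_comm' z y]

theorem dotInt_neg_left' (x y : GolayPt → ℤ) : dotInt (-x) y = - dotInt x y := by
  rw [dotInt_comm', dotInt_neg_right', dotInt_comm']

theorem sqNorm_sub (x y : GolayPt → ℤ) : sqNorm (x - y) = sqNorm x - 2 * dotInt x y + sqNorm y := by
  rw [sub_eq_add_neg, sqNorm_add, dotInt_neg_right', sqNorm_neg']
  ring

end Cfsg.Agent.Lib.Helper54
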