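/-
Helper library (helper54): classes of lattice vectors relative to a list of lattice vectors, their transport under `Co0`, and
the link with the classes relative to vectors given by codes.
-/
import Cfsg.Agent.Lib.Helper54.Co0Refine
import Cfsg.Agent.Lib.Helper54.Co2Pairs

set_option autoImplicit false

namespace Cfsg.Agent.Lib.Helper54

open Cfsg

/-- lattice vectors of norm `n` with inner products `c` with the vectors of the list `bs` -/
def ClsL (bs : List ↥leechLattice) (n : ℤ) (c : List ℤ) (x : ↥leechLattice) : Prop :=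
  sqNorm (x : GolayPt → ℤ) = n ∧
    bs.map (fun b : ↥leechLattice => dotInt (b : GolayPt → ℤ) (x : GolayPt → ℤ)) = c

/-- the class has `N` elements -/
def CountL (bs : List ↥leechLattice) (n : ℤ) (c : List ℤ) (N : ℕ) : Prop :=
  {x | ClsL bs n c x}.ncard = N

/-- the pointwise stabilizer of `bs` is transitive on the class -/
def TransL (bs : List ↥leechLattice) (n : ℤ) (c : List ℤ) : Prop :=
  ∀ x y, ClsL bs n c x → ClsL bs n c y → ∃ g : ↥Co0, (∀ b ∈ bs, g • b = b) ∧ g • x = y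

/-- the list `bs'` is an image of the list `bs` -/
def ConjL (bs bs' : List ↥leechLattice) : Prop := ∃ a : ↥Co0, bs' = bs.map (fun b => a • b)

theorem clsL_smul (a : ↥Co0) (bs : List ↥leechLattice) (n : ℤ) (c : List ℤ) (x : ↥leechLattice) :
    ClsL (bs.map (fun b => a • b)) n c (a • x) ↔ ClsL bs n c x := by
  unfold ClsL
  rw [co0_sqNorm, List.map_map]
  have : ((fun b : ↥leechLattice => dotInt (b : GolayPt → ℤ) ((a • x : ↥leechLattice) : GolayPt → ℤ)) ∘
      fun b => a • b) = fun b : ↥leechLattice => dotInt (b : GolayPt → ℤ) (x : GolayPt → ℤ) := by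
    funext b
    exact co0_dotInt a b x
  rw [this]

theorem CountL.conj {bs bs' : List ↥leechLattice} {n : ℤ} {c : List ℤ} {N : ℕ}
    (h : CountL bs n c N) (hc : ConjL bs bs') : CountL bs' n c N := by
  obtain ⟨a, rfl⟩ := hc
  unfold CountL at h ⊢
  rw [← h]
  symm
  exact ncard_smul a _ _ (fun x => (clsL_smul a bs n c x).symm)

theorem TransL.conj {bs bs' : List ↥leechLattice} {n : ℤ} {c : List ℤ}
    (h : TransL bs n c) (hc : ConjL bs bs') : TransL bs' n c := by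
  obtain ⟨a, rfl⟩ := hc
  intro x y hx hy
  have hx' : ClsL bs n c (a⁻¹ • x) := by
    rw [← clsL_smul a, smul_inv_smul]; exact hx
  have hy' : ClsL bs n c (a⁻¹ • y) := by
    rw [← clsL_smul a, smul_inv_smul]; exact hy
  obtain ⟨g, hg, hgx⟩ := h _ _ hx' hy'
  refine ⟨a * g * a⁻¹, ?_, ?_⟩
  · intro b hb
    obtain ⟨b0, hb0, rfl⟩ := List.mem_map.1 hb
    rw [mul_smul, mul_smul, inv_smul_smul, hg b0 hb0]
  · rw [mul_smul, mul_smul, hgx, smul_inv_smul]

theorem ConjL.cons {bs bs' : List ↥leechLattice} {n : ℤ} {c : List ℤ} (hc : ConjL bs bs')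
    (ht : TransL bs n c) {x0 x : ↥leechLattice} (hx0 : ClsL bs n c x0) (hx : ClsL bs' n c x) :
    ConjL (x0 :: bs) (x :: bs') := by
  obtain ⟨a, rfl⟩ := hc
  have hx' : ClsL bs n c (a⁻¹ • x) := by
    rw [← clsL_smul a, smul_inv_smul]; exact hx
  obtain ⟨g, hg, hgx⟩ := ht _ _ hx0 hx'
  refine ⟨a * g, ?_⟩
  rw [List.map_cons, mul_smul, hgx, smul_inv_smul]
  congr 1
  apply List.map_congr_left
  intro b hb
  rw [mul_smul, hg b hb]

theorem ConjL.nil : ConjL [] [] := ⟨1, rfl⟩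

theorem clsL_nil {n : ℤ} {x : ↥leechLattice} : ClsL [] n [] x ↔ sqNorm (x : GolayPt → ℤ) = n := by
  unfold ClsL
  simp

theorem clsL_cons {b : ↥leechLattice} {bs : List ↥leechLattice} {n d : ℤ} {c : List ℤ}
    {x : ↥leechLattice} : ClsL (b :: bs) n (d :: c) x ↔
      dotInt (b : GolayPt → ℤ) (x : GolayPt → ℤ) = d ∧ ClsL bs n c x := by
  unfold ClsL
  rw [List.map_cons, List.cons.injEq]
  tauto

/-! ### link with codes -/

theorem clsL_iff_clsQ {bs : List ↥leechLattice} {Xs : List ℕ}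
    (hbs : bs.map (fun b : ↥leechLattice => (b : GolayPt → ℤ)) = Xs.map V) (n : ℤ) (c : List ℤ)
    (x : ↥leechLattice) : ClsL bs n c x ↔ ClsQ Xs n c (x : GolayPt → ℤ) := by
  unfold ClsL ClsQ dotsV
  have e : bs.map (fun b : ↥leechLattice => dotInt (b : GolayPt → ℤ) (x : GolayPt → ℤ))
      = Xs.map (fun X => dotInt (V X) (x : GolayPt → ℤ)) := by
    have h1 : bs.map (fun b : ↥leechLattice => dotInt (b : GolayPt → ℤ) (x : GolayPt → ℤ))
        = (bs.map (fun b : ↥leechLattice => (b : GolayPt → ℤ))).map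
          (fun f => dotInt f (x : GolayPt → ℤ)) := by
      rw [List.map_map]; rfl
    rw [h1, hbs, List.map_map]
    rfl
  rw [e]
  constructor
  · intro h; exact ⟨x.2, h⟩
  · intro h; exact h.2

theorem countL_of_codes {bs : List ↥leechLattice} {Xs : List ℕ}
    (hbs : bs.map (fun b : ↥leechLattice => (b : GolayPt → ℤ)) = Xs.map V) {n : ℤ} {c : List ℤ}
    {N : ℕ} (h : {x | ClsQ Xs n c x}.ncard = N) : CountL bs n c N := by
  unfold CountL
  rw [← h]
  have e : {x | ClsQ Xs n c x} = {x : GolayPt → ℤ | x ∈ leechLattice ∧ ClsQ Xs n c x} := by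
    ext x
    exact ⟨fun hx => ⟨hx.1, hx⟩, fun hx => hx.2⟩
  rw [e, ncard_coe_set (fun x => ClsQ Xs n c x)]
  congr 1
  ext x
  exact clsL_iff_clsQ hbs n c x

theorem mem_StabC_iff {bs : List ↥leechLattice} {Xs : List ℕ}
    (hbs : bs.map (fun b : ↥leechLattice => (b : GolayPt → ℤ)) = Xs.map V) {g : ↥Co0}
    (hg : g ∈ StabC Xs) : ∀ b ∈ bs, g • b = b := by
  intro b hb
  have h1 : (b : GolayPt → ℤ) ∈ Xs.map V := by
    rw [← hbs]; exact List.mem_map.2 ⟨b, hb, rfl⟩
  obtain ⟨X, hX, hXb⟩ := List.mem_map.1 h1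
  have h2 := hg X hX (by rw [hXb]; exact b.2)
  have e : (⟨V X, by rw [hXb]; exact b.2⟩ : ↥leechLattice) = b := Subtype.ext hXb
  rwa [e] at h2

theorem orb_imp_cls {Xs : List ℕ} {n : ℤ} {c : List ℤ} {X0 : ℕ} (hL : ∀ X ∈ Xs, V X ∈ leechLattice)
    (h0 : ClsQ Xs n c (V X0)) (hL0 : V X0 ∈ leechLattice) {x : GolayPt → ℤ}
    (h : Orb (StabC Xs) ⟨V X0, hL0⟩ x) : ClsQ Xs n c x := by
  refine ⟨h.mem, by rw [h.sqNorm]; exact h0.2.1, ?_⟩
  rw [← h0.2.2]
  unfold dotsV
  apply List.map_congr_left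
  intro X hX
  exact Orb.dot_StabC h hX (hL X hX)

/-- transitivity on a class from an orbit of the right length -/
theorem transL_of_codes {bs : List ↥leechLattice} {Xs : List ℕ}
    (hbs : bs.map (fun b : ↥leechLattice => (b : GolayPt → ℤ)) = Xs.map V) {n : ℤ} {c : List ℤ}
    {N : ℕ} (hcount : {x | ClsQ Xs n c x}.ncard = N) (hN0 : N ≠ 0) {X0 : ℕ}
    (h0 : clsOK Xs n c X0 = true) (hL0 : V X0 ∈ leechLattice)
    (hlow : ∃ F : Finset (GolayPt → ℤ), F.card = N ∧ ∀ x ∈ F, Orb (StabC Xs) ⟨V X0, hL0⟩ x) :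
    TransL bs n c := by
  have hL : ∀ X ∈ Xs, V X ∈ leechLattice := by
    intro X hX
    have h1 : V X ∈ bs.map (fun b : ↥leechLattice => (b : GolayPt → ℤ)) := by
      rw [hbs]; exact List.mem_map.2 ⟨X, hX, rfl⟩
    obtain ⟨b, -, hb⟩ := List.mem_map.1 h1
    rw [← hb]; exact b.2
  have key := all_of_card (S := {x | ClsQ Xs n c x}) hcount hN0 hlow
    (fun x hx => orb_imp_cls hL (clsOK_spec h0).1 hL0 hx)
  intro x y hx hy
  obtain ⟨g, hg, hgx⟩ := Orb.conj (key _ ((clsL_iff_clsQ hbs n c x).1 hx))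
    (key _ ((clsL_iff_clsQ hbs n c y).1 hy))
  exact ⟨g, mem_StabC_iff hbs hg, hgx⟩

/-! ### the first two levels -/

theorem transL_nil_32 : TransL [] 32 [] := by
  intro x y hx hy
  obtain ⟨g, hg⟩ := co0_trans_min x y (clsL_nil.1 hx) (clsL_nil.1 hy)
  exact ⟨g, fun b hb => absurd hb (List.not_mem_nil), hg⟩

theorem transL_one_32 (v : ↥leechLattice) (hv : sqNorm (v : GolayPt → ℤ) = 32) (d : ℤ) :
    TransL [v] 32 [d] := by
  intro x y hx hy
  rw [clsL_cons, clsL_nil] at hx hy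
  obtain ⟨g, hg, hgx⟩ := co0_trans_pair v x y hv hx.2 hy.2 (hx.1.trans hy.1.symm)
  exact ⟨g, fun b hb => by rw [List.mem_singleton.1 hb]; exact hg, hgx⟩

end Cfsg.Agent.Lib.Helper54
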