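/-
Helper library (helper54): orbit certificates for large tables.  The table is a binary tree of chunks of 64 codes, the
edges are a list of chunks of 256 records; no large intermediate numbers occur.
-/
import Cfsg.Agent.Lib.Helper54.Co0Refine

set_option autoImplicit false

namespace Cfsg.Agent.Lib.Helper54

open Cfsg Cfsg.Agent.Lib.Helper27

/-- binary trees of natural numbers -/
inductive Tr : Type where
  | leaf : ℕ → Tr
  | node : Tr → Tr → Tr

/-- the leaf with index `j` (low bits first) -/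
noncomputable def Tr.get (t : Tr) : ℕ → ℕ :=
  Tr.rec (motive := fun _ => ℕ → ℕ) (fun c _ => c)
    (fun _ _ ihl ihr j =>
      Bool.rec (ihl (Nat.shiftRight j 1)) (ihr (Nat.shiftRight j 1)) (Nat.testBit j 0)) t

/-- the `k`-th entry of the table -/
noncomputable def look (t : Tr) (k : ℕ) : ℕ := tab (t.get (Nat.shiftRight k 6)) (Nat.land k 63)

/-- the first `n` values are strictly increasing -/
def incOKL (f : ℕ → ℕ) (n : ℕ) : Bool :=
  allBelow (fun k => Nat.blt (f k) (f (Nat.succ k))) (Nat.pred n)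

theorem lt_of_incOKL {f : ℕ → ℕ} {n : ℕ} (h : incOKL f n = true) :
    ∀ j, j < n → ∀ i, i < j → f i < f j := by
  unfold incOKL at h
  rw [allBelow_iff] at h
  intro j
  induction j with
  | zero => intro _ i hi; exact absurd hi (Nat.not_lt_zero _)
  | succ j ih =>
    intro hj i hi
    have h1 : f j < f (j + 1) := lt_of_blt (h j (by
      show j < n - 1
      omega))
    rcases Nat.lt_succ_iff_lt_or_eq.1 hi with h2 | h2
    · exact (ih (by omega) i h2).trans h1
    · rw [h2]; exact h1

theorem finset_of_lookup {Q : (GolayPt → ℤ) → Prop} {f : ℕ → ℕ} {n : ℕ} (hinc : incOKL f n = true)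
    (h : ∀ k < n, ∃ y, Q y ∧ f k = enc y) :
    ∃ F : Finset (GolayPt → ℤ), F.card = n ∧ ∀ x ∈ F, Q x := by
  classical
  have h' : ∀ k, ∃ y : GolayPt → ℤ, k < n → (Q y ∧ f k = enc y) := by
    intro k
    by_cases hk : k < n
    · obtain ⟨y, hy⟩ := h k hk
      exact ⟨y, fun _ => hy⟩
    · exact ⟨0, fun hk' => absurd hk' hk⟩
  choose y hy using h'
  refine ⟨(Finset.range n).image y, ?_, ?_⟩
  · rw [Finset.card_image_of_injOn, Finset.card_range]
    intro i hi j hj hij
    have hi' : i < n := Finset.mem_range.1 hi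
    have hj' : j < n := Finset.mem_range.1 hj
    have e : f i = f j := by rw [(hy i hi').2, (hy j hj').2, hij]
    rcases Nat.lt_trichotomy i j with hlt | heq | hlt
    · exact absurd e (ne_of_lt (lt_of_incOKL hinc j hj' i hlt))
    · exact heq
    · exact absurd e.symm (ne_of_lt (lt_of_incOKL hinc i hi' j hlt))
  · intro x hx
    obtain ⟨k, hk, rfl⟩ := Finset.mem_image.1 hx
    exact (hy k (Finset.mem_range.1 hk)).1

/-- processing of the chunks of edges -/
def runEdges (step : ℕ → ℕ → ℕ) (es : List ℕ) : ℕ → ℕ :=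
  List.rec (motive := fun _ => ℕ → ℕ) (fun s => s)
    (fun c _ ih s => force (iterN (fun i s => force (edgeAt c i) (fun r => step r s)) 256 s) ih) es

theorem runEdges_induction {P : ℕ → Prop} {step : ℕ → ℕ → ℕ} (h : ∀ r s, P s → P (step r s))
    (es : List ℕ) : ∀ s, P s → P (runEdges step es s) := by
  induction es with
  | nil => intro s hs; exact hs
  | cons c es ih =>
    intro s hs
    have e : runEdges step (c :: es) s = force (iterN (fun i s => force (edgeAt c i)
      (fun r => step r s)) 256 s) (runEdges step es) := rfl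
    rw [e, force_eq]
    apply ih
    apply iterN_induction (P := P) _ 256 s hs
    intro i s' hs'
    rw [force_eq]
    exact h _ _ hs'

/-- processing of an edge record `r = p + 2^20 k + 2^40 t + 2^48 m` -/
def edgeStepL (ok : ℕ → Bool) (gens : List (ℕ × List ℕ)) (f : ℕ → ℕ) (r known : ℕ) : ℕ :=
  Bool.rec known (Nat.lor known (Nat.shiftLeft 1 (Nat.land (Nat.shiftRight r 20) 1048575)))
    (band (Nat.testBit known (Nat.land r 1048575))
      (Nat.beq (stepC ok gens (Nat.land (Nat.shiftRight r 40) 255) (Nat.shiftRight r 48)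
        (f (Nat.land r 1048575))) (f (Nat.land (Nat.shiftRight r 20) 1048575))))

noncomputable def orbTreeOK (ok : ℕ → Bool) (gens : List (ℕ × List ℕ)) (rootchk : ℕ → Bool) (t : Tr) (N : ℕ)
    (roots : List ℕ) (es : List ℕ) : Bool :=
  band (incOKL (look t) N) (band (allList (fun k => rootchk (look t k)) roots)
    (Nat.beq (runEdges (edgeStepL ok gens (look t)) es (initBits roots)) (Nat.sub (Nat.pow 2 N) 1)))

theorem orbit_lower_tree {Q : (GolayPt → ℤ) → Prop} {ok : ℕ → Bool} {gens : List (ℕ × List ℕ)}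
    (D : OrbitData Q ok gens) {rootchk : ℕ → Bool}
    (hroot : ∀ r, rootchk r = true → ∃ x, Q x ∧ r = enc x) {t : Tr} {N : ℕ} {roots : List ℕ}
    {es : List ℕ} (h : orbTreeOK ok gens rootchk t N roots es = true) :
    ∃ F : Finset (GolayPt → ℤ), F.card = N ∧ ∀ x ∈ F, Q x := by
  unfold orbTreeOK at h
  generalize look t = f at h
  rw [band_eq, band_eq, Bool.and_eq_true, Bool.and_eq_true, Nat.beq_eq, allList_iff] at h
  obtain ⟨h1, h2, h3⟩ := h
  apply finset_of_lookup h1
  have inv : ∀ k, Nat.testBit (runEdges (edgeStepL ok gens f) es (initBits roots)) k = true →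
      ∃ y, Q y ∧ f k = enc y := by
    apply runEdges_induction (P := fun s => ∀ k, Nat.testBit s k = true → ∃ y, Q y ∧ f k = enc y)
    · intro r s hs k hk
      unfold edgeStepL at hk
      cases hb : (band (Nat.testBit s (Nat.land r 1048575))
        (Nat.beq (stepC ok gens (Nat.land (Nat.shiftRight r 40) 255) (Nat.shiftRight r 48)
          (f (Nat.land r 1048575))) (f (Nat.land (Nat.shiftRight r 20) 1048575))))
      · rw [hb] at hk
        exact hs k hk
      · rw [hb] at hk
        rw [band_eq, Bool.and_eq_true, Nat.beq_eq] at hb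
        have hk' : (s ||| (1 <<< (Nat.land (Nat.shiftRight r 20) 1048575))).testBit k = true := hk
        rw [Nat.testBit_or, Bool.or_eq_true] at hk'
        rcases hk' with hk' | hk'
        · exact hs k hk'
        · rw [Nat.one_shiftLeft, Nat.testBit_two_pow, decide_eq_true_eq] at hk'
          obtain ⟨y, hy, hy'⟩ := hs _ hb.1
          obtain ⟨z, hz, hz'⟩ := stepC_sound D (Nat.land (Nat.shiftRight r 40) 255)
            (Nat.shiftRight r 48) y hy
          refine ⟨z, hz, ?_⟩
          rw [← hk', ← hb.2, hy', hz']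
    · intro k hk
      exact hroot _ (h2 k (testBit_initBits hk))
  intro k hk
  apply inv k
  rw [h3]
  show (2 ^ N - 1).testBit k = true
  rw [Nat.testBit_two_pow_sub_one, decide_eq_true_eq]
  exact hk

/-- lower bound for the orbit of the vector with code `X0` under the stabilizer of the vectors with codes `Xs` -/
theorem stab_orbit_tree {S : ℕ} {Xs : List ℕ} {gens : List (ℕ × List ℕ)} (hb : baseOK S Xs = true)
    (hg : gensOK gens = true) (hf : fixOK gens Xs = true) {X0 : ℕ} (hX0 : codeOK X0 = true)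
    (hL : V X0 ∈ leechLattice) (hn : dotC X0 X0 ≤ 64) {t : Tr} {N : ℕ} {roots : List ℕ}
    {es : List ℕ} (h : orbTreeOK (okMask S) gens (Nat.beq X0) t N roots es = true) :
    ∃ F : Finset (GolayPt → ℤ), F.card = N ∧ ∀ x ∈ F, Orb (StabC Xs) ⟨V X0, hL⟩ x := by
  have D := stab_orbitData hb hg hf ⟨V X0, hL⟩ (by show sqNorm (V X0) ≤ 64; rw [sqNorm_V]; exact hn)
  refine orbit_lower_tree D (fun r hr => ?_) h
  rw [Nat.beq_eq] at hr
  exact ⟨V X0, Orb.self _ ⟨V X0, hL⟩, by rw [← hr, enc_V hX0]⟩

/-- lower bound for a class from a table whose entries are reached from checked roots -/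
theorem class_orbit_tree {S : ℕ} {Xs : List ℕ} {gens : List (ℕ × List ℕ)} (hb : baseOK S Xs = true)
    (hg : gensOK gens = true) (hf : fixOK gens Xs = true) (hL : ∀ X ∈ Xs, V X ∈ leechLattice)
    {n : ℤ} (hn : n ≤ 64) {c : List ℤ} {t : Tr} {N : ℕ} {roots : List ℕ} {es : List ℕ}
    (h : orbTreeOK (okMask S) gens (clsOK Xs n c) t N roots es = true) :
    ∃ F : Finset (GolayPt → ℤ), F.card = N ∧ ∀ x ∈ F, ClsQ Xs n c x :=
  orbit_lower_tree (cls_orbitData hb hg hf hL hn c) (fun r hr => ⟨V r, clsOK_spec hr⟩) h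

/-- data: value of the new inner product, table, number of entries, roots, chunks of the edges -/
abbrev RefineTree := List (ℤ × Tr × ℕ × List ℕ × List ℕ)

/-- the check for one class -/
noncomputable def refineTreeOK1 (S : ℕ) (gens : List (ℕ × List ℕ)) (Xs : List ℕ) (n : ℤ) (c : List ℤ)
    (e : ℤ × Tr × ℕ × List ℕ × List ℕ) : Bool :=
  orbTreeOK (okMask S) gens (clsOK Xs n (e.1 :: c)) e.2.1 e.2.2.1 e.2.2.2.1 e.2.2.2.2

theorem refine_census_tree {S Y : ℕ} {Xs : List ℕ} {gens : List (ℕ × List ℕ)}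
    (hb : baseOK S (Y :: Xs) = true) (hg : gensOK gens = true) (hf : fixOK gens (Y :: Xs) = true)
    (hL : ∀ X ∈ Y :: Xs, V X ∈ leechLattice) {n : ℤ} (hn : n ≤ 64)
    {c : List ℤ} {N : ℕ} (hN : {x | ClsQ Xs n c x}.ncard = N) (hN0 : N ≠ 0) (data : RefineTree)
    (hnd : (data.map Prod.fst).Nodup)
    (hok : ∀ e ∈ data, refineTreeOK1 S gens (Y :: Xs) n c e = true)
    (hsum : (data.map (fun e => e.2.2.1)).sum = N) :
    (∀ x, ClsQ Xs n c x → dotInt (V Y) x ∈ data.map Prod.fst) ∧
      ∀ e ∈ data, {x | ClsQ (Y :: Xs) n (e.1 :: c) x}.ncard = e.2.2.1 := by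
  have key := census_list {x | ClsQ Xs n c x}
    (Set.finite_of_ncard_ne_zero (by rw [hN]; exact hN0)) (fun x => dotInt (V Y) x)
    (data.map (fun e => (e.1, e.2.2.1)))
    (by rw [List.map_map]; exact hnd)
    (fun d x => ClsQ (Y :: Xs) n (d :: c) x)
    (by
      intro e he
      obtain ⟨e', he', rfl⟩ := List.mem_map.1 he
      exact class_orbit_tree hb hg hf hL hn (hok e' he'))
    (by
      intro e _ x hx
      exact clsQ_cons.1 hx)
    (by rw [hN, List.map_map]; exact hsum.symm)
  constructor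
  · intro x hx
    have := (key.1 x hx).1
    rwa [List.map_map] at this
  · intro e he
    have h1 : {x | x ∈ {x | ClsQ Xs n c x} ∧ dotInt (V Y) x = e.1}.ncard = e.2.2.1 :=
      key.2 (e.1, e.2.2.1) (List.mem_map.2 ⟨e, he, rfl⟩)
    rw [← h1]
    congr 1
    ext x
    exact clsQ_cons

end Cfsg.Agent.Lib.Helper54
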