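/-
Helper library (helper54): refinement of an exact count by one more inner product, from abstract lower bounds
(typically orbits).
-/
import Cfsg.Agent.Lib.Helper54.Co0Tree
import Cfsg.Agent.Lib.Helper54.Co0Std

set_option autoImplicit false

namespace Cfsg.Agent.Lib.Helper54

open Cfsg Cfsg.Agent.Lib.Helper27

theorem refine_census_abs {Y : ℕ} {Xs : List ℕ} {n : ℤ}
    {c : List ℤ} {N : ℕ} (hN : {x | ClsQ Xs n c x}.ncard = N) (hN0 : N ≠ 0) (data : List (ℤ × ℕ))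
    (hnd : (data.map Prod.fst).Nodup)
    (h : ∀ e ∈ data, ∃ F : Finset (GolayPt → ℤ), F.card = e.2 ∧
      ∀ x ∈ F, ClsQ (Y :: Xs) n (e.1 :: c) x)
    (hsum : (data.map Prod.snd).sum = N) :
    (∀ x, ClsQ Xs n c x → dotInt (V Y) x ∈ data.map Prod.fst) ∧
      ∀ e ∈ data, {x | ClsQ (Y :: Xs) n (e.1 :: c) x}.ncard = e.2 := by
  have key := census_list {x | ClsQ Xs n c x}
    (Set.finite_of_ncard_ne_zero (by rw [hN]; exact hN0)) (fun x => dotInt (V Y) x)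
    data hnd (fun d x => ClsQ (Y :: Xs) n (d :: c) x) h
    (by
      intro e _ x hx
      exact clsQ_cons.1 hx)
    (by rw [hN]; exact hsum.symm)
  constructor
  · intro x hx
    exact (key.1 x hx).1
  · intro e he
    have h1 : {x | x ∈ {x | ClsQ Xs n c x} ∧ dotInt (V Y) x = e.1}.ncard = e.2 := key.2 e he
    rw [← h1]
    congr 1
    ext x
    exact clsQ_cons

theorem lower_to_cls {Xs : List ℕ} {n : ℤ} {c : List ℤ} {X0 N : ℕ}
    (hL : ∀ X ∈ Xs, V X ∈ leechLattice) (h0 : clsOK Xs n c X0 = true) (hL0 : V X0 ∈ leechLattice)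
    (hlow : ∃ F : Finset (GolayPt → ℤ), F.card = N ∧ ∀ x ∈ F, Orb (StabC Xs) ⟨V X0, hL0⟩ x) :
    ∃ F : Finset (GolayPt → ℤ), F.card = N ∧ ∀ x ∈ F, ClsQ Xs n c x := by
  obtain ⟨F, hF, hFx⟩ := hlow
  exact ⟨F, hF, fun x hx => orb_imp_cls hL (clsOK_spec h0).1 hL0 (hFx x hx)⟩

theorem lower_single {Xs : List ℕ} {n : ℤ} {c : List ℤ} {X0 : ℕ} (h0 : clsOK Xs n c X0 = true) :
    ∃ F : Finset (GolayPt → ℤ), F.card = 1 ∧ ∀ x ∈ F, ClsQ Xs n c x :=
  ⟨{V X0}, rfl, fun x hx => by rw [Finset.mem_singleton.1 hx]; exact (clsOK_spec h0).1⟩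

end Cfsg.Agent.Lib.Helper54
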