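/-
Helper library (helper54): the stabiliser in `Co0` of the standard cross is the monomial group `2^12 : M24`.
-/
import Cfsg.Agent.Lib.Helper54.Co0Mon
import Cfsg.Agent.Lib.Helper92.GolayCount
import Cfsg.Agent.Lib.Helper27.M24Order

set_option autoImplicit false

namespace Cfsg.Agent.Lib.Helper54

open Cfsg Cfsg.Agent.Lib.Helper7 Cfsg.Agent.Lib.Helper27 Cfsg.Agent.Lib.Helper93.LM
open scoped Pointwise

theorem single8_mem (i : GolayPt) (s : ℤ) (hs : s = 8 ∨ s = -8) :
    (Pi.single i s : GolayPt → ℤ) ∈ leechLattice := by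
  rw [mem_leechLattice_iff, mem_leechSet_iff]
  refine ⟨0, fun j => ?_, ?_, ?_⟩
  · by_cases h : j = i
    · subst h; rw [Pi.single_eq_same]; rcases hs with rfl | rfl <;> decide
    · rw [Pi.single_eq_of_ne h]
  · rw [Finset.sum_pi_single' i s Finset.univ, if_pos (Finset.mem_univ i)]
    rcases hs with rfl | rfl <;> decide
  · have : (Finset.univ.filter fun j => (Pi.single i s : GolayPt → ℤ) j ≡ 0 + 2 [ZMOD 4]) = ∅ := by
      ext j
      simp only [Finset.mem_filter, Finset.mem_univ, true_and, Finset.notMem_empty, iff_false]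
      by_cases h : j = i
      · subst h; rw [Pi.single_eq_same]; rcases hs with rfl | rfl <;> decide
      · rw [Pi.single_eq_of_ne h]; decide
    rw [this]; exact GC_empty

/-- the vector `8 e_i` -/
def E8 (i : GolayPt) : ↥leechLattice := ⟨Pi.single i 8, single8_mem i 8 (Or.inl rfl)⟩

theorem dotInt_single (x : GolayPt → ℤ) (i : GolayPt) (s : ℤ) :
    dotInt x (Pi.single i s) = x i * s := by
  unfold dotInt
  rw [Finset.sum_eq_single i]
  · rw [Pi.single_eq_same]
  · intro j _ hj
    rw [Pi.single_eq_of_ne hj, mul_zero]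
  · intro h; exact absurd (Finset.mem_univ i) h

/-- `g` preserves the standard cross -/
def PresCross (g : ↥Co0) : Prop :=
  ∀ v : ↥leechLattice, (v : GolayPt → ℤ) ∈ stdCross →
    ((g • v : ↥leechLattice) : GolayPt → ℤ) ∈ stdCross

/-- the vector `(-3, 1^23)` -/
def vOdd : GolayPt → ℤ := fun p => if p = none then -3 else 1

theorem vOdd_mem : vOdd ∈ leechLattice := by
  rw [mem_leechLattice_iff, mem_leechSet_iff]
  refine ⟨1, fun j => ?_, ?_, ?_⟩
  · unfold vOdd; split_ifs <;> decide
  · decide +kernel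
  · have : (Finset.univ.filter fun j => vOdd j ≡ 1 + 2 [ZMOD 4]) = ∅ := by
      ext j
      simp only [Finset.mem_filter, Finset.mem_univ, true_and, Finset.notMem_empty, iff_false]
      unfold vOdd; split_ifs <;> decide
    rw [this]; exact GC_empty

/-- twice the characteristic vector of a set -/
def vTwo (C : Finset GolayPt) : GolayPt → ℤ := fun p => if p ∈ C then 2 else 0

theorem vTwo_mem {C : Finset GolayPt} (hC : C ∈ GC) : vTwo C ∈ leechLattice := by
  rw [mem_leechLattice_iff, mem_leechSet_iff]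
  refine ⟨0, fun j => ?_, ?_, ?_⟩
  · unfold vTwo; split_ifs <;> decide
  · have : ∑ i, vTwo C i = 2 * (C.card : ℤ) := by
      unfold vTwo
      rw [Finset.sum_ite_mem, Finset.univ_inter, Finset.sum_const, nsmul_eq_mul, mul_comm]
    rw [this]
    rcases Cfsg.Agent.Lib.Helper92.card_of_mem_supports hC with h | h | h | h | h <;> rw [h] <;> decide
  · have : (Finset.univ.filter fun j => vTwo C j ≡ 0 + 2 [ZMOD 4]) = C := by
      ext j
      simp only [Finset.mem_filter, Finset.mem_univ, true_and]
      unfold vTwo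
      by_cases h : j ∈ C
      · simp only [h, ↓reduceIte, iff_true]; decide
      · simp only [h, ↓reduceIte, iff_false]; decide
    rw [this]; exact hC

theorem cross_monomial (g : ↥Co0) (hg : PresCross g) :
    ∃ σ ∈ M24, ∃ c ∈ GC, ∀ v : ↥leechLattice,
      ((g • v : ↥leechLattice) : GolayPt → ℤ) = signedPerm σ c v := by
  have h1 : ∀ i : GolayPt, ∃ (j : GolayPt) (s : ℤ), (s = 8 ∨ s = -8) ∧
      ((g • E8 i : ↥leechLattice) : GolayPt → ℤ) = Pi.single j s :=
    fun i => hg (E8 i) ⟨i, 8, Or.inl rfl, rfl⟩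
  choose τ s hs hτ using h1
  have key : ∀ (v : ↥leechLattice) (i : GolayPt),
      ((g • v : ↥leechLattice) : GolayPt → ℤ) (τ i) * s i = (v : GolayPt → ℤ) i * 8 := by
    intro v i
    have := co0_dotInt g v (E8 i)
    rw [hτ i, dotInt_single] at this
    rw [this]
    exact dotInt_single _ _ _
  have hinj : Function.Injective τ := by
    intro i j hij
    by_contra hne
    have := key (E8 j) i
    rw [hτ j, hij, Pi.single_eq_same] at this
    have h0 : ((E8 j : ↥leechLattice) : GolayPt → ℤ) i = 0 := Pi.single_eq_of_ne hne _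
    rw [h0] at this
    rcases hs i with h | h <;> rcases hs j with h' | h' <;> rw [h, h'] at this <;> norm_num at this
  let σ : Equiv.Perm GolayPt := Equiv.ofBijective τ (Finite.injective_iff_bijective.1 hinj)
  have hσ : ∀ i, σ i = τ i := fun _ => rfl
  let c : Finset GolayPt := Finset.univ.filter (fun j => s (σ.symm j) = -8)
  have hform : ∀ v : ↥leechLattice,
      ((g • v : ↥leechLattice) : GolayPt → ℤ) = signedPerm σ c v := by
    intro v
    funext j
    have h2 := key v (σ.symm j)
    rw [← hσ, Equiv.apply_symm_apply] at h2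
    unfold signedPerm
    by_cases hj : j ∈ c
    · rw [if_pos hj]
      have h3 : s (σ.symm j) = -8 := (Finset.mem_filter.1 hj).2
      rw [h3] at h2
      linarith
    · rw [if_neg hj]
      have h3 : s (σ.symm j) = 8 := by
        rcases hs (σ.symm j) with h | h
        · exact h
        · exact absurd (show j ∈ c from Finset.mem_filter.2 ⟨Finset.mem_univ _, h⟩) hj
      rw [h3] at h2
      linarith
  refine ⟨σ, ?_, c, ?_, hform⟩
  · show σ ∈ MulAction.stabilizer (Equiv.Perm GolayPt) GC
    rw [MulAction.mem_stabilizer_set_iff_smul_set_subset (Set.toFinite _)]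
    rintro _ ⟨C, hC, rfl⟩
    have hm : ((g • (⟨vTwo C, vTwo_mem hC⟩ : ↥leechLattice) : ↥leechLattice) : GolayPt → ℤ)
        ∈ leechLattice := (g • (⟨vTwo C, vTwo_mem hC⟩ : ↥leechLattice) : ↥leechLattice).2
    rw [mem_leechLattice_iff, hform] at hm
    obtain ⟨m, -, -, h3⟩ := hm
    have h4 := h3 2
    have : (Finset.univ.filter fun j => signedPerm σ c (vTwo C) j ≡ 2 [ZMOD 4]) = σ • C := by
      ext j
      simp only [Finset.mem_filter, Finset.mem_univ, true_and]
      have hj : j ∈ σ • C ↔ σ.symm j ∈ C := by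
        rw [← Finset.inv_smul_mem_iff]; rfl
      rw [hj]
      unfold signedPerm vTwo
      by_cases h : σ.symm j ∈ C
      · simp only [h, ↓reduceIte, iff_true]; split_ifs <;> decide
      · simp only [h, ↓reduceIte, iff_false]; split_ifs <;> decide
    rw [this] at h4
    exact h4
  · have hm : ((g • (⟨vOdd, vOdd_mem⟩ : ↥leechLattice) : ↥leechLattice) : GolayPt → ℤ)
        ∈ leechLattice := (g • (⟨vOdd, vOdd_mem⟩ : ↥leechLattice) : ↥leechLattice).2
    rw [mem_leechLattice_iff, hform] at hm
    obtain ⟨m, -, -, h3⟩ := hm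
    have h4 := h3 3
    have : (Finset.univ.filter fun j => signedPerm σ c vOdd j ≡ 3 [ZMOD 4]) = c := by
      ext j
      simp only [Finset.mem_filter, Finset.mem_univ, true_and]
      unfold signedPerm vOdd
      by_cases h : j ∈ c
      · simp only [h, ↓reduceIte, iff_true]; split_ifs <;> decide
      · simp only [h, ↓reduceIte, iff_false]; split_ifs <;> decide
    rw [this] at h4
    exact h4

theorem signedPerm_single (σ : Equiv.Perm GolayPt) (c : Finset GolayPt) (i : GolayPt) (s : ℤ) :
    signedPerm σ c (Pi.single i s) = Pi.single (σ i) (if σ i ∈ c then -s else s) := by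
  funext j
  unfold signedPerm
  by_cases h : j = σ i
  · subst h
    rw [Equiv.symm_apply_apply, Pi.single_eq_same, Pi.single_eq_same]
  · have h' : σ.symm j ≠ i := fun h2 => h (by rw [← h2, Equiv.apply_symm_apply])
    rw [Pi.single_eq_of_ne h, Pi.single_eq_of_ne h']
    simp

theorem monCo0_presCross (σ : Equiv.Perm GolayPt) (hσ : σ ∈ M24) (c : Finset GolayPt) (hc : c ∈ GC) :
    PresCross (monCo0 σ hσ c hc) := by
  rintro v ⟨i, s, hs, hv⟩
  rw [monCo0_smul, hv, signedPerm_single]
  refine ⟨σ i, _, ?_, rfl⟩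
  split_ifs <;> rcases hs with rfl | rfl <;> simp

theorem natCard_GC : Nat.card ↥GC = 4096 := by
  have h := Cfsg.Agent.Lib.Helper92.ncard_codeSet (fun _ => true)
  have h2 : {s : Finset GolayPt | s ∈ supports (golayCode : Set (GolayPt → ZMod 2)) ∧
      (fun _ => true) (mask s) = true} = GC := by
    ext s; simp
  rw [h2] at h
  rw [Nat.card_coe_set_eq, h]
  decide +kernel

theorem card_presCross : Nat.card {g : ↥Co0 // PresCross g} = 4096 * 244823040 := by
  have hbij : Function.Bijective (fun p : ↥GC × ↥M24 =>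
      (⟨monCo0 p.2.1 p.2.2 p.1.1 p.1.2, monCo0_presCross _ _ _ _⟩ : {g : ↥Co0 // PresCross g})) := by
    constructor
    · rintro ⟨⟨c, hc⟩, ⟨σ, hσ⟩⟩ ⟨⟨c', hc'⟩, ⟨σ', hσ'⟩⟩ h
      have h1 : monCo0 σ hσ c hc = monCo0 σ' hσ' c' hc' := congrArg Subtype.val h
      have h2 : ∀ i, (Pi.single (σ i) (if σ i ∈ c then -8 else 8) : GolayPt → ℤ)
          = Pi.single (σ' i) (if σ' i ∈ c' then -8 else 8) := by
        intro i
        have h3 : ((monCo0 σ hσ c hc • E8 i : ↥leechLattice) : GolayPt → ℤ)
            = ((monCo0 σ' hσ' c' hc' • E8 i : ↥leechLattice) : GolayPt → ℤ) := by rw [h1]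
        rw [monCo0_smul, monCo0_smul] at h3
        have h4 : ((E8 i : ↥leechLattice) : GolayPt → ℤ) = Pi.single i 8 := rfl
        rw [h4, signedPerm_single, signedPerm_single] at h3
        exact h3
      have hσσ : ∀ i, σ i = σ' i := by
        intro i
        by_contra hne
        have h3 := congrFun (h2 i) (σ i)
        rw [Pi.single_eq_same, Pi.single_eq_of_ne hne] at h3
        split_ifs at h3 <;> norm_num at h3
      have hσe : σ = σ' := Equiv.ext hσσ
      subst hσe
      have hcc : c = c' := by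
        ext j
        have h3 := congrFun (h2 (σ.symm j)) j
        rw [Equiv.apply_symm_apply, Pi.single_eq_same, Pi.single_eq_same] at h3
        by_cases h5 : j ∈ c <;> by_cases h6 : j ∈ c' <;> simp [h5, h6] at h3 ⊢
      subst hcc
      rfl
    · rintro ⟨g, hg⟩
      obtain ⟨σ, hσ, c, hc, h⟩ := cross_monomial g hg
      refine ⟨⟨⟨c, hc⟩, ⟨σ, hσ⟩⟩, Subtype.ext ?_⟩
      apply Subtype.ext
      apply Equiv.ext
      intro v
      apply Subtype.ext
      exact (h v).symm
  rw [← Nat.card_congr (Equiv.ofBijective _ hbij), Nat.card_prod, natCard_GC, card_M24]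

end Cfsg.Agent.Lib.Helper54
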