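/-
Helper library (helper54): vectors which are sums of two minimal vectors; a counting argument showing that all vectors of a
given norm are such sums, hence conjugate under `Co0`.
-/
import Cfsg.Agent.Lib.Helper54.Co2Pairs

set_option autoImplicit false

namespace Cfsg.Agent.Lib.Helper54

open Cfsg

theorem ncard_min : {x : ↥leechLattice | sqNorm (x : GolayPt → ℤ) = 32}.ncard = 196560 := by
  rw [← ncard_coe_set (fun x => sqNorm x = 32)]
  exact Cfsg.Agent.S0394.result

theorem sums_cover (c t : ℤ) (ht : t = 64 + 2 * c) (m K M : ℕ)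
    (h1 : ∀ v : ↥leechLattice, sqNorm (v : GolayPt → ℤ) = 32 →
      {w : ↥leechLattice | sqNorm (w : GolayPt → ℤ) = 32 ∧
        dotInt (v : GolayPt → ℤ) (w : GolayPt → ℤ) = c}.ncard = m)
    (h2 : {x : ↥leechLattice | sqNorm (x : GolayPt → ℤ) = t}.ncard = M)
    (a₀ b₀ : ↥leechLattice) (ha : sqNorm (a₀ : GolayPt → ℤ) = 32) (hb : sqNorm (b₀ : GolayPt → ℤ) = 32)
    (hab : dotInt (a₀ : GolayPt → ℤ) (b₀ : GolayPt → ℤ) = c)
    (h3 : {x : ↥leechLattice | sqNorm (x : GolayPt → ℤ) = 32 ∧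
      sqNorm ((a₀ + b₀ - x : ↥leechLattice) : GolayPt → ℤ) = 32}.ncard ≤ K)
    (h4 : 196560 * m = K * M) (hM : 0 < M) (hK : 0 < K) :
    (∀ u : ↥leechLattice, sqNorm (u : GolayPt → ℤ) = t → ∃ g : ↥Co0, g • (a₀ + b₀) = u) ∧
    (∀ u : ↥leechLattice, sqNorm (u : GolayPt → ℤ) = t →
      {x : ↥leechLattice | sqNorm (x : GolayPt → ℤ) = 32 ∧
        sqNorm ((u - x : ↥leechLattice) : GolayPt → ℤ) = 32}.ncard = K) := by
  classical
  have hL2fin : {x : ↥leechLattice | sqNorm (x : GolayPt → ℤ) = 32}.Finite :=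
    Set.finite_of_ncard_ne_zero (by rw [ncard_min]; norm_num)
  have hLtfin : {x : ↥leechLattice | sqNorm (x : GolayPt → ℤ) = t}.Finite :=
    Set.finite_of_ncard_ne_zero (by rw [h2]; omega)
  have hL2 : ∀ x, x ∈ hL2fin.toFinset ↔ sqNorm (x : GolayPt → ℤ) = 32 :=
    fun x => hL2fin.mem_toFinset
  have hLt : ∀ x, x ∈ hLtfin.toFinset ↔ sqNorm (x : GolayPt → ℤ) = t :=
    fun x => hLtfin.mem_toFinset
  have cL2 : hL2fin.toFinset.card = 196560 := by
    rw [← ncard_min, Set.ncard_eq_toFinset_card _ hL2fin]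
  have cLt : hLtfin.toFinset.card = M := by
    rw [← h2, Set.ncard_eq_toFinset_card _ hLtfin]
  generalize hL2fin.toFinset = L2 at hL2 cL2
  generalize hLtfin.toFinset = Lt at hLt cLt
  let D : ↥leechLattice → Finset ↥leechLattice :=
    fun u => L2.filter (fun x => sqNorm ((u - x : ↥leechLattice) : GolayPt → ℤ) = 32)
  have hD : ∀ u, (D u).card = {x : ↥leechLattice | sqNorm (x : GolayPt → ℤ) = 32 ∧
      sqNorm ((u - x : ↥leechLattice) : GolayPt → ℤ) = 32}.ncard := by
    intro u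
    rw [← Set.ncard_coe_finset]
    congr 1
    ext x
    simp only [D, Finset.coe_filter, hL2]
  have hDg : ∀ (g : ↥Co0) u, (D (g • u)).card = (D u).card := by
    intro g u
    rw [hD, hD]
    symm
    apply ncard_smul g
    intro x
    rw [co0_sqNorm, ← co0_sub, co0_sqNorm]
  let T : Finset (Σ _ : ↥leechLattice, ↥leechLattice) :=
    L2.sigma (fun v => L2.filter (fun w => dotInt (v : GolayPt → ℤ) (w : GolayPt → ℤ) = c))
  have hT : ∀ p, p ∈ T ↔ sqNorm (p.1 : GolayPt → ℤ) = 32 ∧ sqNorm (p.2 : GolayPt → ℤ) = 32 ∧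
      dotInt (p.1 : GolayPt → ℤ) (p.2 : GolayPt → ℤ) = c := by
    intro p
    simp only [T, Finset.mem_sigma, Finset.mem_filter, hL2]
  have cT : T.card = 196560 * m := by
    rw [Finset.card_sigma, ← cL2, ← smul_eq_mul, ← Finset.sum_const]
    apply Finset.sum_congr rfl
    intro v hv
    rw [← h1 v ((hL2 v).1 hv), ← Set.ncard_coe_finset]
    congr 1
    ext x
    simp only [Finset.coe_filter, hL2]
  let s : (Σ _ : ↥leechLattice, ↥leechLattice) → ↥leechLattice := fun p => p.1 + p.2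
  have himg : ∀ u ∈ T.image s, u ∈ Lt ∧ ∃ g : ↥Co0, g • (a₀ + b₀) = u := by
    intro u hu
    obtain ⟨p, hp, rfl⟩ := Finset.mem_image.1 hu
    obtain ⟨p1, p2, p3⟩ := (hT p).1 hp
    constructor
    · rw [hLt]
      show sqNorm ((p.1 : GolayPt → ℤ) + (p.2 : GolayPt → ℤ)) = t
      rw [sqNorm_add, p1, p2, p3, ht]
      ring
    · obtain ⟨g, g1, g2⟩ := co0_trans_pairs a₀ b₀ p.1 p.2 ha hb p1 p2 (hab.trans p3.symm)
      exact ⟨g, by rw [co0_add, g1, g2]⟩
  have hfib : ∀ u ∈ T.image s, (T.filter (fun p => s p = u)).card ≤ (D (a₀ + b₀)).card := by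
    intro u hu
    obtain ⟨-, g, rfl⟩ := himg u hu
    rw [← hDg g (a₀ + b₀)]
    apply Finset.card_le_card_of_injOn (fun p => p.1)
    · intro p hp
      have hp' := Finset.mem_filter.1 hp
      obtain ⟨p1, p2, -⟩ := (hT p).1 hp'.1
      have e : g • (a₀ + b₀) - p.1 = p.2 := by
        rw [← hp'.2]
        show p.1 + p.2 - p.1 = p.2
        abel
      show p.1 ∈ D (g • (a₀ + b₀))
      simp only [D, Finset.mem_filter, hL2]
      exact ⟨p1, by rw [e]; exact p2⟩
    · intro p hp q hq hpq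
      have hp' := (Finset.mem_filter.1 hp).2
      have hq' := (Finset.mem_filter.1 hq).2
      have hpq' : p.1 = q.1 := hpq
      have e : p.1 + p.2 = q.1 + q.2 := hp'.trans hq'.symm
      rw [hpq'] at e
      have e2 : p.2 = q.2 := add_left_cancel e
      cases p
      cases q
      simp only at hpq' e2
      subst hpq'
      subst e2
      rfl
  have hle := Finset.card_le_mul_card_image T (D (a₀ + b₀)).card hfib
  have hsub : T.image s ⊆ Lt := fun u hu => (himg u hu).1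
  have hI : (T.image s).card ≤ M := by rw [← cLt]; exact Finset.card_le_card hsub
  have hn0 : (D (a₀ + b₀)).card ≤ K := by rw [hD]; exact h3
  rw [cT, h4] at hle
  have hIM : M ≤ (T.image s).card := by
    have : K * M ≤ K * (T.image s).card := hle.trans (Nat.mul_le_mul_right _ hn0)
    exact Nat.le_of_mul_le_mul_left this hK
  have hKn : K ≤ (D (a₀ + b₀)).card := by
    have : K * M ≤ (D (a₀ + b₀)).card * M := hle.trans (Nat.mul_le_mul_left _ hI)
    exact Nat.le_of_mul_le_mul_right this hM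
  have himgeq : T.image s = Lt := Finset.eq_of_subset_of_card_le hsub (by rw [cLt]; exact hIM)
  have C1 : ∀ u : ↥leechLattice, sqNorm (u : GolayPt → ℤ) = t → ∃ g : ↥Co0, g • (a₀ + b₀) = u := by
    intro u hu
    exact (himg u (by rw [himgeq, hLt]; exact hu)).2
  refine ⟨C1, fun u hu => ?_⟩
  obtain ⟨g, rfl⟩ := C1 u hu
  rw [← hD, hDg]
  exact le_antisymm hn0 hKn

/-- inner products of minimal vectors -/
theorem dot_mem_csCo2 (v x : ↥leechLattice) (hv : sqNorm (v : GolayPt → ℤ) = 32)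
    (hx : sqNorm (x : GolayPt → ℤ) = 32) :
    dotInt (v : GolayPt → ℤ) (x : GolayPt → ℤ) ∈ csCo2 := by
  obtain ⟨a, rfl⟩ := exists_smul_v0 v hv
  have h1 := (co2_census.1 ((a⁻¹ • x : ↥leechLattice) : GolayPt → ℤ)
    ⟨(a⁻¹ • x).2, by rw [co0_sqNorm]; exact hx⟩).1
  have h2 := co0_dotInt a v0 (a⁻¹ • x)
  rw [smul_inv_smul] at h2
  rw [h2]
  exact h1

theorem sqNorm_eq_zero' {x : GolayPt → ℤ} (h : sqNorm x = 0) : x = 0 := by
  unfold sqNorm at h
  rw [Finset.sum_eq_zero_iff_of_nonneg (fun i _ => sq_nonneg _)] at h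
  funext i
  have := h i (Finset.mem_univ i)
  exact pow_eq_zero_iff (two_ne_zero) |>.1 this

theorem eq_of_dot_eq {n : ℤ} (v x : ↥leechLattice) (hv : sqNorm (v : GolayPt → ℤ) = n)
    (hx : sqNorm (x : GolayPt → ℤ) = n) (h : dotInt (v : GolayPt → ℤ) (x : GolayPt → ℤ) = n) :
    x = v := by
  have h1 := sqNorm_sub (v : GolayPt → ℤ) (x : GolayPt → ℤ)
  rw [hv, hx, h] at h1
  have h2 : (v : GolayPt → ℤ) - x = 0 := sqNorm_eq_zero' (by rw [h1]; ring)
  exact Subtype.ext (sub_eq_zero.1 h2).symm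

end Cfsg.Agent.Lib.Helper54
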