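/-
Helper library (helper54): complements to the engine (concatenation of generator lists, sums of vectors given by codes,
negation of classes, counts from upper bounds).
-/
import Cfsg.Agent.Lib.Helper54.Co0Std
import Cfsg.Agent.Lib.Helper54.Co0Sums

set_option autoImplicit false

namespace Cfsg.Agent.Lib.Helper54

open Cfsg Cfsg.Agent.Lib.Helper27

theorem gensOK_append {a b : List (ℕ × List ℕ)} (ha : gensOK a = true) (hb : gensOK b = true) :
    gensOK (a ++ b) = true := by
  unfold gensOK at *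
  rw [allList_iff] at *
  intro g hg
  rcases List.mem_append.1 hg with h | h
  · exact ha g h
  · exact hb g h

/-- kernel check of `Z = X + Y` on codes -/
def addOK (X Y Z : ℕ) : Bool :=
  allBelow (fun i => Nat.beq (Nat.add (dig Z i) 8) (Nat.add (dig X i) (dig Y i))) 24

theorem V_add_of_check {X Y Z : ℕ} (h : addOK X Y Z = true) : V Z = V X + V Y := by
  unfold addOK at h
  rw [allBelow_iff] at h
  funext p
  have h1 : dig Z (idx p) + 8 = dig X (idx p) + dig Y (idx p) :=
    Nat.eq_of_beq_eq_true (h (idx p) (idx_lt p))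
  simp only [Pi.add_apply, V_apply]
  omega

theorem clsL_neg {bs : List ↥leechLattice} {n : ℤ} {c : List ℤ} {x : ↥leechLattice} :
    ClsL bs n (c.map (fun d => -d)) (-x) ↔ ClsL bs n c x := by
  unfold ClsL
  have e1 : sqNorm ((-x : ↥leechLattice) : GolayPt → ℤ) = sqNorm (x : GolayPt → ℤ) :=
    sqNorm_neg' _
  have e2 : bs.map (fun b : ↥leechLattice => dotInt (b : GolayPt → ℤ) ((-x : ↥leechLattice) : GolayPt → ℤ))
      = (bs.map (fun b : ↥leechLattice => dotInt (b : GolayPt → ℤ) (x : GolayPt → ℤ))).map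
        (fun d => -d) := by
    rw [List.map_map]
    apply List.map_congr_left
    intro b _
    exact dotInt_neg_right' _ _
  rw [e1, e2]
  constructor
  · rintro ⟨h1, h2⟩
    exact ⟨h1, List.map_injective_iff.2 neg_injective h2⟩
  · rintro ⟨h1, h2⟩
    exact ⟨h1, by rw [h2]⟩

theorem CountL.neg {bs : List ↥leechLattice} {n : ℤ} {c : List ℤ} {N : ℕ} (h : CountL bs n c N) :
    CountL bs n (c.map (fun d => -d)) N := by
  unfold CountL at *
  rw [← h]
  have : {x | ClsL bs n (c.map (fun d => -d)) x} = (fun x => -x) '' {x | ClsL bs n c x} := by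
    ext y
    constructor
    · intro hy
      refine ⟨-y, ?_, neg_neg y⟩
      show ClsL bs n c (-y)
      rw [← clsL_neg, neg_neg]
      exact hy
    · rintro ⟨x, hx, rfl⟩
      exact clsL_neg.2 hx
  rw [this, Set.ncard_image_of_injective _ neg_injective]

theorem TransL.neg {bs : List ↥leechLattice} {n : ℤ} {c : List ℤ} (h : TransL bs n c) :
    TransL bs n (c.map (fun d => -d)) := by
  intro x y hx hy
  have hx' : ClsL bs n c (-x) := by rw [← clsL_neg, neg_neg]; exact hx
  have hy' : ClsL bs n c (-y) := by rw [← clsL_neg, neg_neg]; exact hy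
  obtain ⟨g, hg, hgx⟩ := h _ _ hx' hy'
  refine ⟨g, hg, ?_⟩
  rw [co0_neg] at hgx
  exact neg_injective hgx

theorem clsL_swap {a b : ↥leechLattice} {n d e : ℤ} {x : ↥leechLattice} :
    ClsL [a, b] n [d, e] x ↔ ClsL [b, a] n [e, d] x := by
  simp only [clsL_cons, clsL_nil]
  tauto

theorem CountL.swap {a b : ↥leechLattice} {n d e : ℤ} {N : ℕ} (h : CountL [a, b] n [d, e] N) :
    CountL [b, a] n [e, d] N := by
  unfold CountL at *
  rw [← h]
  congr 1
  ext x
  exact clsL_swap

theorem finite_clsL_32 (bs : List ↥leechLattice) (c : List ℤ) : {x | ClsL bs 32 c x}.Finite := by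
  have hfin : {x : ↥leechLattice | sqNorm (x : GolayPt → ℤ) = 32}.Finite :=
    Set.finite_of_ncard_ne_zero (by rw [ncard_min]; norm_num)
  exact hfin.subset (fun x hx => hx.1)

/-- a class with at most `N` elements containing an orbit with at least `N` elements -/
theorem count_trans_of_le {bs : List ↥leechLattice} {Xs : List ℕ}
    (hbs : bs.map (fun b : ↥leechLattice => (b : GolayPt → ℤ)) = Xs.map V) {c : List ℤ}
    {N : ℕ} (hle : {x | ClsL bs 32 c x}.ncard ≤ N) (hN0 : N ≠ 0) {X0 : ℕ}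
    (h0 : clsOK Xs 32 c X0 = true) (hL0 : V X0 ∈ leechLattice)
    (hlow : ∃ F : Finset (GolayPt → ℤ), F.card = N ∧ ∀ x ∈ F, Orb (StabC Xs) ⟨V X0, hL0⟩ x) :
    {x | ClsQ Xs 32 c x}.ncard = N := by
  classical
  have hL : ∀ X ∈ Xs, V X ∈ leechLattice := by
    intro X hX
    have h1 : V X ∈ bs.map (fun b : ↥leechLattice => (b : GolayPt → ℤ)) := by
      rw [hbs]; exact List.mem_map.2 ⟨X, hX, rfl⟩
    obtain ⟨b, -, hb⟩ := List.mem_map.1 h1
    rw [← hb]; exact b.2
  have e : {x | ClsQ Xs 32 c x}.ncard = {x | ClsL bs 32 c x}.ncard := by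
    have := countL_of_codes hbs (n := 32) (c := c) (N := {x | ClsQ Xs 32 c x}.ncard) rfl
    exact this.symm
  have hfin : {x | ClsQ Xs 32 c x}.Finite := by
    have h1 : {x | ClsQ Xs 32 c x} = Subtype.val '' {x | ClsL bs 32 c x} := by
      ext x
      constructor
      · intro hx
        exact ⟨⟨x, hx.1⟩, (clsL_iff_clsQ hbs 32 c ⟨x, hx.1⟩).2 hx, rfl⟩
      · rintro ⟨y, hy, rfl⟩
        exact (clsL_iff_clsQ hbs 32 c y).1 hy
    rw [h1]
    exact (finite_clsL_32 bs c).image _
  obtain ⟨F, hF, hFx⟩ := hlow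
  have hsub : (F : Set (GolayPt → ℤ)) ⊆ {x | ClsQ Xs 32 c x} :=
    fun x hx => orb_imp_cls hL (clsOK_spec h0).1 hL0 (hFx x hx)
  have h2 := Set.ncard_le_ncard hsub hfin
  rw [Set.ncard_coe_finset, hF] at h2
  omega

end Cfsg.Agent.Lib.Helper54
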