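/-
Helper library (helper54): involutions given by symmetric matrices; elements without fixed points on a class; orbits of
stabilizers as classes.
-/
import Cfsg.Agent.Lib.Helper54.Co0Std

set_option autoImplicit false

namespace Cfsg.Agent.Lib.Helper54

open Cfsg Matrix Cfsg.Agent.Lib.Helper27

/-- the matrix is symmetric -/
def symOK (cols : List ℕ) : Bool :=
  allBelow (fun i => allBelow (fun j => Nat.beq (dig (cols.getD j 0) i) (dig (cols.getD i 0) j)) 24) 24

theorem matOf_transpose_of_symOK {cols : List ℕ} (h : symOK cols = true) :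
    (matOf cols)ᵀ = matOf cols := by
  unfold symOK at h
  rw [allBelow_iff] at h
  ext p q
  have h1 := h (idx q) (idx_lt q)
  rw [allBelow_iff] at h1
  have h2 : dig (cols.getD (idx p) 0) (idx q) = dig (cols.getD (idx q) 0) (idx p) :=
    Nat.eq_of_beq_eq_true (h1 (idx p) (idx_lt p))
  simp only [transpose_apply, matOf, entry, decFn_apply]
  rw [h2]

theorem genCo0_mul_self {cols : List ℕ} (h : certOK cols = true) (hs : symOK cols = true) :
    genCo0 cols h * genCo0 cols h = 1 := by
  apply Subtype.ext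
  apply Equiv.ext
  intro v
  apply Subtype.ext
  show act (matOf cols) (act (matOf cols) v) = v
  have := (isCo0Mat_of_check h).act_act v.2
  rwa [matOf_transpose_of_symOK hs] at this

/-- no entry of the table is fixed -/
def moveOK (T8 : ℕ) (cols : List ℕ) (cs : List ℕ) (N : ℕ) : Bool :=
  force (joinChunks 19968 cs) (fun T =>
    allBelow (fun k => Bool.rec true false (Nat.beq (appFast T8 cols (tab T k)) (tab T k))) N)

theorem no_fix_on_class {Xs : List ℕ} {n : ℤ} {c : List ℤ} {cs : List ℕ} {N T8 : ℕ} {cols : List ℕ}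
    (hn : n ≤ 64) (htab : clsTabOK' Xs n c cs N = true) (hcard : {x | ClsQ Xs n c x}.ncard = N)
    (hN0 : N ≠ 0) (h : certOK cols = true) (hc : colsOK T8 cols = true)
    (hmove : moveOK T8 cols cs N = true) :
    ∀ x : ↥leechLattice, ClsQ Xs n c (x : GolayPt → ℤ) → genCo0 cols h • x ≠ x := by
  intro x hx hfix
  obtain ⟨k, hk, hxk⟩ := class_eq_tab htab hcard hN0 _ hx
  unfold moveOK at hmove
  rw [force_eq, allBelow_iff] at hmove
  have h1 := hmove k hk
  unfold clsTabOK' at htab
  rw [force_eq] at htab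
  unfold clsTabOK at htab
  rw [band_eq, Bool.and_eq_true, allBelow_iff] at htab
  have h2 := (clsOK_spec (htab.2 k hk)).2
  generalize tab (joinChunks 19968 cs) k = r at *
  have h3 := appFast_genCo0 h hc x (by rw [hx.2.1]; exact hn)
  rw [hfix, hxk, ← h2] at h3
  rw [h3] at h1
  have : Nat.beq r r = true := Nat.beq_refl r
  rw [this] at h1
  exact Bool.noConfusion h1

/-- the orbit of the stabilizer of two vectors is a class -/
theorem orbit_eq_cls2 {a b : ↥leechLattice} {n : ℤ} {c : List ℤ} (ht : TransL [a, b] n c)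
    {y : ↥leechLattice} (hy : ClsL [a, b] n c y) :
    MulAction.orbit ↥(MulAction.stabilizer ↥Co0 b ⊓ MulAction.stabilizer ↥Co0 a) y
      = {z | ClsL [a, b] n c z} := by
  ext z
  constructor
  · rintro ⟨⟨g, hg⟩, rfl⟩
    have hb : g • b = b := hg.1
    have ha : g • a = a := hg.2
    show ClsL [a, b] n c (g • y)
    have := (clsL_smul g [a, b] n c y).2 hy
    rwa [List.map_cons, List.map_cons, List.map_nil, ha, hb] at this
  · intro hz
    obtain ⟨g, hg, hgy⟩ := ht y z hy hz
    exact ⟨⟨g, ⟨hg b (by simp), hg a (by simp)⟩⟩, hgy⟩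

/-- the orbit of the stabilizer of three vectors is a class -/
theorem orbit_eq_cls3 {a b d : ↥leechLattice} {n : ℤ} {c : List ℤ} (ht : TransL [a, b, d] n c)
    {y : ↥leechLattice} (hy : ClsL [a, b, d] n c y) :
    MulAction.orbit ↥(MulAction.stabilizer ↥Co0 b ⊓ MulAction.stabilizer ↥Co0 d ⊓
      MulAction.stabilizer ↥Co0 a) y = {z | ClsL [a, b, d] n c z} := by
  ext z
  constructor
  · rintro ⟨⟨g, hg⟩, rfl⟩
    have hb : g • b = b := hg.1.1
    have hd : g • d = d := hg.1.2
    have ha : g • a = a := hg.2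
    show ClsL [a, b, d] n c (g • y)
    have := (clsL_smul g [a, b, d] n c y).2 hy
    rwa [List.map_cons, List.map_cons, List.map_cons, List.map_nil, ha, hb, hd] at this
  · intro hz
    obtain ⟨g, hg, hgy⟩ := ht y z hy hz
    exact ⟨⟨g, ⟨⟨hg b (by simp), hg d (by simp)⟩, hg a (by simp)⟩⟩, hgy⟩

end Cfsg.Agent.Lib.Helper54
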