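/-
Helper library (helper54): `Co0` is transitive on the vectors of norm 48 and on the vectors of norm 64.
-/
import Cfsg.Agent.Lib.Helper54.Co0Sums
import Cfsg.Agent.Lib.Helper54.Co2Refine16
import Cfsg.Agent.S0395
import Cfsg.Agent.S0396

set_option autoImplicit false

namespace Cfsg.Agent.Lib.Helper54

open Cfsg

/-- classes as sets of lattice vectors -/
theorem ncard_cls_sub (Xs : List ℕ) (n : ℤ) (c : List ℤ) :
    {x : ↥leechLattice | sqNorm (x : GolayPt → ℤ) = n ∧ dotsV Xs (x : GolayPt → ℤ) = c}.ncard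
      = {x | ClsQ Xs n c x}.ncard :=
  (ncard_coe_set (fun x => sqNorm x = n ∧ dotsV Xs x = c)).symm

theorem v0_norm : sqNorm (v0 : GolayPt → ℤ) = 32 := by
  show sqNorm (V Xv0) = 32
  rw [sqNorm_V, Xv0_norm]
theorem wB_norm : sqNorm (wB : GolayPt → ℤ) = 32 := by
  show sqNorm (V XwB) = 32
  rw [sqNorm_V, XwB_norm]
theorem wC_norm : sqNorm (wC : GolayPt → ℤ) = 32 := by
  show sqNorm (V XwC) = 32
  rw [sqNorm_V, XwC_norm]
theorem v0_wB : dotInt (v0 : GolayPt → ℤ) (wB : GolayPt → ℤ) = -8 := by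
  show dotInt (V Xv0) (V XwB) = -8
  rw [dotInt_V, XwB_dot]
theorem v0_wC : dotInt (v0 : GolayPt → ℤ) (wC : GolayPt → ℤ) = 0 := by
  show dotInt (V Xv0) (V XwC) = 0
  rw [dotInt_V, XwC_dot]

/-- the equation satisfied by the inner products of a summand -/
theorem dot_sum_of_decomp (a b x : ↥leechLattice) (ha : sqNorm (a : GolayPt → ℤ) = 32)
    (hb : sqNorm (b : GolayPt → ℤ) = 32) (hx : sqNorm (x : GolayPt → ℤ) = 32)
    (h : sqNorm ((a + b - x : ↥leechLattice) : GolayPt → ℤ) = 32) :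
    dotInt (a : GolayPt → ℤ) (x : GolayPt → ℤ) + dotInt (b : GolayPt → ℤ) (x : GolayPt → ℤ)
      = 32 + dotInt (a : GolayPt → ℤ) (b : GolayPt → ℤ) := by
  have h' : sqNorm ((a : GolayPt → ℤ) + (b : GolayPt → ℤ) - (x : GolayPt → ℤ)) = 32 := h
  rw [sqNorm_sub, sqNorm_add, dotInt_add_left', ha, hb, hx] at h'
  omega

theorem t4_bound : {x : ↥leechLattice | sqNorm (x : GolayPt → ℤ) = 32 ∧
    sqNorm ((v0 + wC - x : ↥leechLattice) : GolayPt → ℤ) = 32}.ncard ≤ 46 := by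
  set A : Set ↥leechLattice := {x : ↥leechLattice | sqNorm (x : GolayPt → ℤ) = 32 ∧
    dotsV [XwC, Xv0] (x : GolayPt → ℤ) = [16, 16]} with hA
  have cA : A.ncard = 44 := by rw [hA, ncard_cls_sub, t4_count4]
  have fA : A.Finite := Set.finite_of_ncard_ne_zero (by rw [cA]; norm_num)
  have hsub : {x : ↥leechLattice | sqNorm (x : GolayPt → ℤ) = 32 ∧
      sqNorm ((v0 + wC - x : ↥leechLattice) : GolayPt → ℤ) = 32} ⊆ insert v0 (insert wC A) := by
    rintro x ⟨hx, hx2⟩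
    have e := dot_sum_of_decomp v0 wC x v0_norm wC_norm hx hx2
    rw [v0_wC] at e
    have m1 := dot_mem_csCo2 v0 x v0_norm hx
    have m2 := dot_mem_csCo2 wC x wC_norm hx
    by_cases c1 : dotInt (v0 : GolayPt → ℤ) (x : GolayPt → ℤ) = 32
    · exact Or.inl (eq_of_dot_eq v0 x v0_norm hx c1)
    by_cases c2 : dotInt (wC : GolayPt → ℤ) (x : GolayPt → ℤ) = 32
    · exact Or.inr (Or.inl (eq_of_dot_eq wC x wC_norm hx c2))
    refine Or.inr (Or.inr ⟨hx, ?_⟩)
    show [dotInt (wC : GolayPt → ℤ) (x : GolayPt → ℤ), dotInt (v0 : GolayPt → ℤ) (x : GolayPt → ℤ)]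
      = [16, 16]
    simp only [csCo2, Finset.mem_insert, Finset.mem_singleton] at m1 m2
    have : dotInt (wC : GolayPt → ℤ) (x : GolayPt → ℤ) = 16 ∧
        dotInt (v0 : GolayPt → ℤ) (x : GolayPt → ℤ) = 16 := by omega
    rw [this.1, this.2]
  calc _ ≤ (insert v0 (insert wC A)).ncard :=
        Set.ncard_le_ncard hsub ((fA.insert _).insert _)
    _ ≤ (insert wC A).ncard + 1 := Set.ncard_insert_le _ _
    _ ≤ (A.ncard + 1) + 1 := Nat.add_le_add_right (Set.ncard_insert_le _ _) 1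
    _ = 46 := by rw [cA]

theorem t3_bound : {x : ↥leechLattice | sqNorm (x : GolayPt → ℤ) = 32 ∧
    sqNorm ((v0 + wB - x : ↥leechLattice) : GolayPt → ℤ) = 32}.ncard ≤ 552 := by
  set A : Set ↥leechLattice := {x : ↥leechLattice | sqNorm (x : GolayPt → ℤ) = 32 ∧
    dotsV [XwB, Xv0] (x : GolayPt → ℤ) = [8, 16]} with hA
  have cA : A.ncard = 275 := by rw [hA, ncard_cls_sub, t3_count3]
  have fA : A.Finite := Set.finite_of_ncard_ne_zero (by rw [cA]; norm_num)
  have hsub : {x : ↥leechLattice | sqNorm (x : GolayPt → ℤ) = 32 ∧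
      sqNorm ((v0 + wB - x : ↥leechLattice) : GolayPt → ℤ) = 32}
      ⊆ insert v0 (insert wB (A ∪ (fun y => v0 + wB - y) '' A)) := by
    rintro x ⟨hx, hx2⟩
    have e := dot_sum_of_decomp v0 wB x v0_norm wB_norm hx hx2
    rw [v0_wB] at e
    have m1 := dot_mem_csCo2 v0 x v0_norm hx
    have m2 := dot_mem_csCo2 wB x wB_norm hx
    by_cases c1 : dotInt (v0 : GolayPt → ℤ) (x : GolayPt → ℤ) = 32
    · exact Or.inl (eq_of_dot_eq v0 x v0_norm hx c1)
    by_cases c2 : dotInt (wB : GolayPt → ℤ) (x : GolayPt → ℤ) = 32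
    · exact Or.inr (Or.inl (eq_of_dot_eq wB x wB_norm hx c2))
    refine Or.inr (Or.inr ?_)
    simp only [csCo2, Finset.mem_insert, Finset.mem_singleton] at m1 m2
    have : (dotInt (wB : GolayPt → ℤ) (x : GolayPt → ℤ) = 8 ∧
        dotInt (v0 : GolayPt → ℤ) (x : GolayPt → ℤ) = 16) ∨
        (dotInt (wB : GolayPt → ℤ) (x : GolayPt → ℤ) = 16 ∧
        dotInt (v0 : GolayPt → ℤ) (x : GolayPt → ℤ) = 8) := by omega
    rcases this with h | h
    · refine Or.inl ⟨hx, ?_⟩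
      show [dotInt (wB : GolayPt → ℤ) (x : GolayPt → ℤ), dotInt (v0 : GolayPt → ℤ) (x : GolayPt → ℤ)]
        = [8, 16]
      rw [h.1, h.2]
    · refine Or.inr ⟨v0 + wB - x, ⟨hx2, ?_⟩, sub_sub_cancel (v0 + wB) x⟩
      show [dotInt (wB : GolayPt → ℤ) ((v0 : GolayPt → ℤ) + (wB : GolayPt → ℤ) - (x : GolayPt → ℤ)),
        dotInt (v0 : GolayPt → ℤ) ((v0 : GolayPt → ℤ) + (wB : GolayPt → ℤ) - (x : GolayPt → ℤ))]
        = [8, 16]
      rw [dotInt_sub_right', dotInt_sub_right', dotInt_add_right', dotInt_add_right', h.1, h.2,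
        dotInt_comm' (wB : GolayPt → ℤ) (v0 : GolayPt → ℤ), v0_wB, ← sqNorm_eq_dotInt,
        ← sqNorm_eq_dotInt, v0_norm, wB_norm]
      norm_num
  have fI : ((fun y => v0 + wB - y) '' A).Finite := fA.image _
  calc _ ≤ (insert v0 (insert wB (A ∪ (fun y => v0 + wB - y) '' A))).ncard :=
        Set.ncard_le_ncard hsub (((fA.union fI).insert _).insert _)
    _ ≤ (insert wB (A ∪ (fun y => v0 + wB - y) '' A)).ncard + 1 := Set.ncard_insert_le _ _
    _ ≤ ((A ∪ (fun y => v0 + wB - y) '' A).ncard + 1) + 1 :=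
        Nat.add_le_add_right (Set.ncard_insert_le _ _) 1
    _ ≤ ((A.ncard + ((fun y => v0 + wB - y) '' A).ncard) + 1) + 1 :=
        Nat.add_le_add_right (Nat.add_le_add_right (Set.ncard_union_le _ _) 1) 1
    _ ≤ ((A.ncard + A.ncard) + 1) + 1 :=
        Nat.add_le_add_right (Nat.add_le_add_right (Nat.add_le_add_left
          (Set.ncard_image_le fA) _) 1) 1
    _ = 552 := by rw [cA]

theorem ncard_norm48 : {x : ↥leechLattice | sqNorm (x : GolayPt → ℤ) = 48}.ncard = 16773120 := by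
  rw [← ncard_coe_set (fun x => sqNorm x = 48)]
  exact Cfsg.Agent.S0395.result

theorem ncard_norm64 : {x : ↥leechLattice | sqNorm (x : GolayPt → ℤ) = 64}.ncard = 398034000 := by
  rw [← ncard_coe_set (fun x => sqNorm x = 64)]
  exact Cfsg.Agent.S0396.result

theorem type3_main :
    (∀ u : ↥leechLattice, sqNorm (u : GolayPt → ℤ) = 48 → ∃ g : ↥Co0, g • (v0 + wB) = u) ∧
    (∀ u : ↥leechLattice, sqNorm (u : GolayPt → ℤ) = 48 →
      {x : ↥leechLattice | sqNorm (x : GolayPt → ℤ) = 32 ∧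
        sqNorm ((u - x : ↥leechLattice) : GolayPt → ℤ) = 32}.ncard = 552) :=
  sums_cover (-8) 48 (by norm_num) 47104 552 16773120
    (fun v hv => co0_count_pair v hv (-8) (by decide)) ncard_norm48 v0 wB v0_norm wB_norm v0_wB
    t3_bound (by norm_num) (by norm_num) (by norm_num)

theorem type4_main :
    (∀ u : ↥leechLattice, sqNorm (u : GolayPt → ℤ) = 64 → ∃ g : ↥Co0, g • (v0 + wC) = u) ∧
    (∀ u : ↥leechLattice, sqNorm (u : GolayPt → ℤ) = 64 →
      {x : ↥leechLattice | sqNorm (x : GolayPt → ℤ) = 32 ∧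
        sqNorm ((u - x : ↥leechLattice) : GolayPt → ℤ) = 32}.ncard = 46) :=
  sums_cover 0 64 (by norm_num) 93150 46 398034000
    (fun v hv => co0_count_pair v hv 0 (by decide)) ncard_norm64 v0 wC v0_norm wC_norm v0_wC
    t4_bound (by norm_num) (by norm_num) (by norm_num)

/-- `Co0` is transitive on the vectors of norm 48 -/
theorem co0_trans_48 (v w : ↥leechLattice) (hv : sqNorm (v : GolayPt → ℤ) = 48)
    (hw : sqNorm (w : GolayPt → ℤ) = 48) : ∃ g : ↥Co0, g • v = w := by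
  obtain ⟨a, rfl⟩ := type3_main.1 v hv
  obtain ⟨b, rfl⟩ := type3_main.1 w hw
  exact ⟨b * a⁻¹, by rw [mul_smul, inv_smul_smul]⟩

/-- `Co0` is transitive on the vectors of norm 64 -/
theorem co0_trans_64 (v w : ↥leechLattice) (hv : sqNorm (v : GolayPt → ℤ) = 64)
    (hw : sqNorm (w : GolayPt → ℤ) = 64) : ∃ g : ↥Co0, g • v = w := by
  obtain ⟨a, rfl⟩ := type4_main.1 v hv
  obtain ⟨b, rfl⟩ := type4_main.1 w hw
  exact ⟨b * a⁻¹, by rw [mul_smul, inv_smul_smul]⟩

end Cfsg.Agent.Lib.Helper54
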