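/-
Helper library (helper54): the Leech lattice modulo two: `|Λ / 2Λ| = 2 ^ 24`, orthogonal frames have
at most 48 members, and the counting argument for short representatives.
-/
import Cfsg.Agent.S0393

set_option autoImplicit false

namespace Cfsg.Agent.Lib.Helper54

open Cfsg

/-- multiplication by two on `ℤ ^ 24` -/
def dbl : (GolayPt → ℤ) →+ (GolayPt → ℤ) := nsmulAddMonoidHom 2

theorem dbl_apply (x : GolayPt → ℤ) : dbl x = 2 • x := rfl

theorem dbl_injective : Function.Injective dbl := by
  intro x y h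
  funext i
  have := congrFun h i
  simp only [dbl_apply, Pi.smul_apply, nsmul_eq_mul] at this
  push_cast at this
  omega

/-- `2Λ` -/
def twoLeech : AddSubgroup (GolayPt → ℤ) := leechLattice.map dbl

theorem mem_twoLeech {x : GolayPt → ℤ} : x ∈ twoLeech ↔ ∃ z ∈ leechLattice, x = 2 • z := by
  constructor
  · rintro ⟨z, hz, rfl⟩
    exact ⟨z, hz, rfl⟩
  · rintro ⟨z, hz, rfl⟩
    exact ⟨z, hz, rfl⟩

theorem twoLeech_le : twoLeech ≤ leechLattice := by
  intro x hx
  obtain ⟨z, hz, rfl⟩ := mem_twoLeech.1 hx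
  exact leechLattice.nsmul_mem hz 2

/-- reduction modulo two -/
def redTwo : (GolayPt → ℤ) →+ (GolayPt → ZMod 2) :=
  (Int.castAddHom (ZMod 2)).compLeft GolayPt

theorem redTwo_surjective : Function.Surjective redTwo := by
  intro w
  refine ⟨fun i => ((w i).val : ℤ), ?_⟩
  funext i
  simp [redTwo]

theorem ker_redTwo : redTwo.ker = (⊤ : AddSubgroup (GolayPt → ℤ)).map dbl := by
  ext x
  rw [AddMonoidHom.mem_ker]
  constructor
  · intro h
    have h2 : ∀ i, (2 : ℤ) ∣ x i := by
      intro i
      have := congrFun h i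
      simp only [redTwo, AddMonoidHom.compLeft_apply, Function.comp_apply, Int.coe_castAddHom,
        Pi.zero_apply] at this
      exact (ZMod.intCast_zmod_eq_zero_iff_dvd (x i) 2).1 this
    refine ⟨fun i => x i / 2, AddSubgroup.mem_top _, ?_⟩
    funext i
    simp only [dbl_apply, Pi.smul_apply, nsmul_eq_mul]
    push_cast
    exact Int.mul_ediv_cancel' (h2 i)
  · rintro ⟨z, -, rfl⟩
    funext i
    have h1 : redTwo (dbl z) i = (((2 : ℤ) * z i : ℤ) : ZMod 2) := by
      simp [redTwo, dbl_apply]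
    rw [h1]
    push_cast
    have : (2 : ZMod 2) = 0 := rfl
    rw [this, zero_mul]
    rfl

theorem index_map_top_dbl : ((⊤ : AddSubgroup (GolayPt → ℤ)).map dbl).index = 2 ^ 24 := by
  rw [← ker_redTwo, AddSubgroup.index_ker, AddMonoidHom.range_eq_top.2 redTwo_surjective]
  rw [Nat.card_congr AddSubgroup.topEquiv.toEquiv, Nat.card_eq_fintype_card]
  simp [ZMod.card]

theorem relIndex_twoLeech : twoLeech.relIndex leechLattice = 2 ^ 24 := by
  have h1 : twoLeech.relIndex ((⊤ : AddSubgroup (GolayPt → ℤ)).map dbl) = 2 ^ 36 := by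
    unfold twoLeech
    rw [AddSubgroup.relIndex_map_map_of_injective _ _ dbl_injective, AddSubgroup.relIndex_top_right]
    exact Cfsg.Agent.S0393.result
  have h2 : twoLeech ≤ (⊤ : AddSubgroup (GolayPt → ℤ)).map dbl := AddSubgroup.map_mono le_top
  have h3 := AddSubgroup.relIndex_mul_index h2
  have h4 := AddSubgroup.relIndex_mul_index twoLeech_le
  rw [h1, index_map_top_dbl] at h3
  rw [Cfsg.Agent.S0393.result, ← h3] at h4
  have : twoLeech.relIndex leechLattice * 2 ^ 36 = 2 ^ 24 * 2 ^ 36 := by rw [h4]; ring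
  exact Nat.eq_of_mul_eq_mul_right (by positivity) this

/-- the class of a vector modulo `2Λ` -/
def cls : (GolayPt → ℤ) →+ (GolayPt → ℤ) ⧸ twoLeech := QuotientAddGroup.mk' twoLeech

theorem cls_eq_iff {x y : GolayPt → ℤ} : cls x = cls y ↔ ∃ z ∈ leechLattice, x - y = 2 • z := by
  rw [← mem_twoLeech]
  unfold cls
  rw [QuotientAddGroup.mk'_apply, QuotientAddGroup.mk'_apply, eq_comm, QuotientAddGroup.eq]
  rw [neg_add_eq_sub]

/-- the classes of lattice vectors -/
def leechClasses : AddSubgroup ((GolayPt → ℤ) ⧸ twoLeech) := leechLattice.map cls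

theorem card_leechClasses : Nat.card leechClasses = 2 ^ 24 := by
  rw [← relIndex_twoLeech]
  have := AddSubgroup.relIndex_ker cls (K := leechLattice)
  unfold leechClasses
  rw [← this]
  unfold cls
  rw [QuotientAddGroup.ker_mk']

end Cfsg.Agent.Lib.Helper54
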