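/-
Helper library (helper54): pairwise orthogonal-or-opposite families in `ℤ ^ 24` have at most 48 members;
abstract counting lemma for short representatives.
-/
import Cfsg.Agent.Lib.Helper54.LeechModTwo

set_option autoImplicit false

namespace Cfsg.Agent.Lib.Helper54

open Cfsg

theorem card_le_of_pairwise_orthogonal (F : Finset (GolayPt → ℤ)) (h0 : ∀ x ∈ F, dotInt x x ≠ 0)
    (h : ∀ x ∈ F, ∀ y ∈ F, x ≠ y → dotInt x y = 0) : F.card ≤ 24 := by
  classical
  let v : F → (GolayPt → ℚ) := fun x i => ((x : GolayPt → ℤ) i : ℚ)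
  have hli : LinearIndependent ℚ v := by
    rw [Fintype.linearIndependent_iff]
    intro g hg x₀
    have h1 : ∑ i, (∑ x, g x • v x) i * v x₀ i = 0 := by
      rw [hg]; simp
    have h2 : ∑ i, (∑ x, g x • v x) i * v x₀ i
        = ∑ x, g x * (dotInt (x : GolayPt → ℤ) (x₀ : GolayPt → ℤ) : ℚ) := by
      simp only [Finset.sum_apply, Pi.smul_apply, smul_eq_mul, Finset.sum_mul]
      rw [Finset.sum_comm]
      apply Finset.sum_congr rfl
      intro x _
      unfold dotInt
      push_cast
      rw [Finset.mul_sum]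
      apply Finset.sum_congr rfl
      intro i _
      simp only [v]
      ring
    rw [h2] at h1
    rw [Finset.sum_eq_single x₀] at h1
    · have h3 : (dotInt (x₀ : GolayPt → ℤ) (x₀ : GolayPt → ℤ) : ℚ) ≠ 0 := by
        exact_mod_cast h0 x₀ x₀.2
      exact (mul_eq_zero.1 h1).resolve_right h3
    · intro x _ hx
      have : dotInt (x : GolayPt → ℤ) (x₀ : GolayPt → ℤ) = 0 :=
        h x x.2 x₀ x₀.2 (fun he => hx (Subtype.ext he))
      rw [this]; simp
    · intro hx; exact absurd (Finset.mem_univ _) hx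
  have h4 := hli.fintype_card_le_finrank
  rw [Module.finrank_fintype_fun_eq_card, Fintype.card_coe] at h4
  have h5 : Fintype.card GolayPt = 24 := by
    simp [ZMod.card]
  omega

theorem card_le_of_orthogonal_or_neg (F : Finset (GolayPt → ℤ)) (h0 : ∀ x ∈ F, dotInt x x ≠ 0)
    (h : ∀ x ∈ F, ∀ y ∈ F, x ≠ y → x = -y ∨ dotInt x y = 0) : F.card ≤ 48 := by
  classical
  let 𝒮 : Set (Finset (GolayPt → ℤ)) :=
    {E | E ⊆ F ∧ ∀ x ∈ E, ∀ y ∈ E, x ≠ y → dotInt x y = 0}
  have hfin : 𝒮.Finite := by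
    apply Set.Finite.subset (Finset.finite_toSet F.powerset)
    intro E hE
    exact Finset.mem_coe.2 (Finset.mem_powerset.2 hE.1)
  have hne : 𝒮.Nonempty := ⟨∅, by simp [𝒮]⟩
  obtain ⟨E, hE, hmax⟩ := hfin.exists_maximal hne
  have hE24 : E.card ≤ 24 := card_le_of_pairwise_orthogonal E (fun x hx => h0 x (hE.1 hx)) hE.2
  have hsub : F ⊆ E ∪ E.image (fun x => -x) := by
    intro y hy
    by_contra hcon
    rw [Finset.mem_union, not_or] at hcon
    obtain ⟨hyE, hyN⟩ := hcon
    have hins : insert y E ∈ 𝒮 := by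
      refine ⟨Finset.insert_subset hy hE.1, ?_⟩
      have key : ∀ x ∈ E, dotInt y x = 0 := by
        intro x hx
        have hne : y ≠ x := fun he => hyE (he ▸ hx)
        rcases h y hy x (hE.1 hx) hne with h1 | h1
        · exact absurd (Finset.mem_image.2 ⟨x, hx, h1.symm⟩) hyN
        · exact h1
      have hcomm : ∀ a b : GolayPt → ℤ, dotInt a b = dotInt b a := by
        intro a b; unfold dotInt; exact Finset.sum_congr rfl (fun i _ => mul_comm _ _)
      intro a ha b hb hab
      rw [Finset.mem_insert] at ha hb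
      rcases ha with rfl | ha <;> rcases hb with rfl | hb
      · exact absurd rfl hab
      · exact key b hb
      · rw [hcomm]; exact key a ha
      · exact hE.2 a ha b hb hab
    have := hmax hins (Finset.subset_insert y E)
    exact hyE (this (Finset.mem_insert_self y E))
  calc F.card ≤ (E ∪ E.image (fun x => -x)).card := Finset.card_le_card hsub
    _ ≤ E.card + (E.image (fun x => -x)).card := Finset.card_union_le _ _
    _ ≤ E.card + E.card := Nat.add_le_add_left Finset.card_image_le _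
    _ ≤ 48 := by omega

/-- The abstract counting argument. -/
theorem counting_short {α β : Type*} [DecidableEq α] [DecidableEq β] (π : α → β) (C : Finset β)
    (T0 T4 T6 T8 : Finset α) (hC : C.card = 2 ^ 24)
    (c0 : T0.card = 1) (c4 : T4.card = 196560) (c6 : T6.card = 16773120) (c8 : T8.card = 398034000)
    (m0 : ∀ x ∈ T0, π x ∈ C) (m4 : ∀ x ∈ T4, π x ∈ C) (m6 : ∀ x ∈ T6, π x ∈ C)
    (m8 : ∀ x ∈ T8, π x ∈ C)
    (d04 : ∀ x ∈ T0, ∀ y ∈ T4, π x ≠ π y) (d06 : ∀ x ∈ T0, ∀ y ∈ T6, π x ≠ π y)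
    (d08 : ∀ x ∈ T0, ∀ y ∈ T8, π x ≠ π y) (d46 : ∀ x ∈ T4, ∀ y ∈ T6, π x ≠ π y)
    (d48 : ∀ x ∈ T4, ∀ y ∈ T8, π x ≠ π y) (d68 : ∀ x ∈ T6, ∀ y ∈ T8, π x ≠ π y)
    (f4 : ∀ x ∈ T4, (T4.filter fun y => π y = π x).card ≤ 2)
    (f6 : ∀ x ∈ T6, (T6.filter fun y => π y = π x).card ≤ 2)
    (f8 : ∀ x ∈ T8, (T8.filter fun y => π y = π x).card ≤ 48) :
    (∀ c ∈ C, ∃ x ∈ T0 ∪ T4 ∪ T6 ∪ T8, π x = c) ∧
      ∀ x ∈ T8, (T8.filter fun y => π y = π x).card = 48 := by
  have i0 : 1 ≤ (T0.image π).card := by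
    have : (T0.image π).Nonempty := by
      rw [Finset.image_nonempty, ← Finset.card_pos]; omega
    exact Finset.card_pos.2 this
  have i4 : 196560 ≤ 2 * (T4.image π).card := by
    rw [← c4]
    apply Finset.card_le_mul_card_image
    intro a ha
    obtain ⟨x, hx, rfl⟩ := Finset.mem_image.1 ha
    exact f4 x hx
  have i6 : 16773120 ≤ 2 * (T6.image π).card := by
    rw [← c6]
    apply Finset.card_le_mul_card_image
    intro a ha
    obtain ⟨x, hx, rfl⟩ := Finset.mem_image.1 ha
    exact f6 x hx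
  have i8 : 398034000 ≤ 48 * (T8.image π).card := by
    rw [← c8]
    apply Finset.card_le_mul_card_image
    intro a ha
    obtain ⟨x, hx, rfl⟩ := Finset.mem_image.1 ha
    exact f8 x hx
  have disj : ∀ {A B : Finset α}, (∀ x ∈ A, ∀ y ∈ B, π x ≠ π y) →
      Disjoint (A.image π) (B.image π) := by
    intro A B hAB
    rw [Finset.disjoint_left]
    intro c hcA hcB
    obtain ⟨x, hx, rfl⟩ := Finset.mem_image.1 hcA
    obtain ⟨y, hy, hxy⟩ := Finset.mem_image.1 hcB
    exact hAB x hx y hy hxy.symm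
  set I := T0.image π ∪ T4.image π ∪ T6.image π ∪ T8.image π with hI
  have hIcard : I.card = (T0.image π).card + (T4.image π).card + (T6.image π).card
      + (T8.image π).card := by
    rw [hI, Finset.card_union_of_disjoint, Finset.card_union_of_disjoint,
      Finset.card_union_of_disjoint (disj d04)]
    · rw [Finset.disjoint_union_left]; exact ⟨disj d06, disj d46⟩
    · rw [Finset.disjoint_union_left, Finset.disjoint_union_left]
      exact ⟨⟨disj d08, disj d48⟩, disj d68⟩
  have hIC : I ⊆ C := by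
    intro c hc
    simp only [hI, Finset.mem_union, Finset.mem_image] at hc
    rcases hc with ((⟨x, hx, rfl⟩ | ⟨x, hx, rfl⟩) | ⟨x, hx, rfl⟩) | ⟨x, hx, rfl⟩
    · exact m0 x hx
    · exact m4 x hx
    · exact m6 x hx
    · exact m8 x hx
  have hle := Finset.card_le_card hIC
  have hC' : C.card = 16777216 := by rw [hC]; norm_num
  have hIeq : I = C := Finset.eq_of_subset_of_card_le hIC (by omega)
  constructor
  · intro c hc
    rw [← hIeq] at hc
    simp only [hI, Finset.mem_union, Finset.mem_image] at hc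
    rcases hc with ((⟨x, hx, rfl⟩ | ⟨x, hx, rfl⟩) | ⟨x, hx, rfl⟩) | ⟨x, hx, rfl⟩
    · exact ⟨x, by simp [hx], rfl⟩
    · exact ⟨x, by simp [hx], rfl⟩
    · exact ⟨x, by simp [hx], rfl⟩
    · exact ⟨x, by simp [hx], rfl⟩
  · have h8 : (T8.image π).card = 8292375 := by omega
    have hsum : T8.card = ∑ c ∈ T8.image π, (T8.filter fun y => π y = c).card :=
      Finset.card_eq_sum_card_image π T8
    intro x hx
    by_contra hne
    have hlt : (T8.filter fun y => π y = π x).card < 48 := lt_of_le_of_ne (f8 x hx) hne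
    have : ∑ c ∈ T8.image π, (T8.filter fun y => π y = c).card < ∑ c ∈ T8.image π, 48 := by
      apply Finset.sum_lt_sum
      · intro c hc
        obtain ⟨y, hy, rfl⟩ := Finset.mem_image.1 hc
        exact f8 y hy
      · exact ⟨π x, Finset.mem_image_of_mem π hx, hlt⟩
    rw [← hsum, c8, Finset.sum_const, h8] at this
    norm_num at this

end Cfsg.Agent.Lib.Helper54
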