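/-
Helper library (helper54): every class of `Λ / 2Λ` has a representative of norm at most 8, and the crosses have
exactly 48 members (counting argument from the numbers of short vectors).
-/
import Cfsg.Agent.Lib.Helper54.LeechFrames
import Cfsg.Agent.S0394
import Cfsg.Agent.S0395
import Cfsg.Agent.S0396
import Cfsg.Agent.S5551
import Cfsg.Agent.S5592
import Cfsg.Prelude.Def_SporadicCombinatorics

set_option autoImplicit false

namespace Cfsg.Agent.Lib.Helper54

open Cfsg

/-- lattice vectors of given sum of squares -/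
def shortSet (n : ℤ) : Set (GolayPt → ℤ) := {x | x ∈ leechLattice ∧ sqNorm x = n}

theorem sqNorm_zero' : sqNorm (0 : GolayPt → ℤ) = 0 := by simp [sqNorm]

theorem dotInt_self (x : GolayPt → ℤ) : dotInt x x = sqNorm x := by
  unfold dotInt sqNorm
  exact Finset.sum_congr rfl (fun i _ => (pow_two _).symm)

theorem ne_zero_of_sqNorm {x : GolayPt → ℤ} {n : ℤ} (h : sqNorm x = n) (hn : n ≠ 0) : x ≠ 0 := by
  rintro rfl
  rw [sqNorm_zero'] at h
  exact hn h.symm

theorem leech_short_main :
    (∀ x ∈ leechLattice, ∃ y ∈ leechLattice, sqNorm y ≤ 64 ∧ ∃ z ∈ leechLattice, x - y = 2 • z) ∧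
    (∀ x ∈ leechLattice, sqNorm x = 64 → (cross x).ncard = 48) := by
  classical
  have n4 : (shortSet 32).ncard = 196560 := Cfsg.Agent.S0394.result
  have n6 : (shortSet 48).ncard = 16773120 := Cfsg.Agent.S0395.result
  have n8 : (shortSet 64).ncard = 398034000 := Cfsg.Agent.S0396.result
  have fin4 : (shortSet 32).Finite := Set.finite_of_ncard_ne_zero (by rw [n4]; norm_num)
  have fin6 : (shortSet 48).Finite := Set.finite_of_ncard_ne_zero (by rw [n6]; norm_num)
  have fin8 : (shortSet 64).Finite := Set.finite_of_ncard_ne_zero (by rw [n8]; norm_num)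
  have finC : (leechClasses : Set ((GolayPt → ℤ) ⧸ twoLeech)).Finite := by
    have : Finite leechClasses := Nat.finite_of_card_ne_zero (by rw [card_leechClasses]; norm_num)
    exact Set.toFinite _
  have cC : finC.toFinset.card = 2 ^ 24 := by
    rw [← Set.ncard_eq_toFinset_card _ finC, ← card_leechClasses]
    exact (Nat.card_coe_set_eq _).symm
  have memC : ∀ x ∈ leechLattice, cls x ∈ finC.toFinset := by
    intro x hx
    rw [Set.Finite.mem_toFinset]
    exact ⟨x, hx, rfl⟩
  -- separation of different norms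
  have sep : ∀ {a b : ℤ}, a ≤ 64 → b ≤ 64 → a ≠ 0 → b ≠ 0 → a ≠ b → ∀ x ∈ shortSet a, ∀ y ∈ shortSet b,
      cls x ≠ cls y := by
    intro a b ha hb ha0 hb0 hab x hx y hy hc
    have := (Cfsg.Agent.S5551.result x y hx.1 hy.1 (ne_zero_of_sqNorm hx.2 ha0)
      (ne_zero_of_sqNorm hy.2 hb0) (by rw [hx.2]; exact ha) (by rw [hy.2]; exact hb)
      (cls_eq_iff.1 hc)).1
    rw [hx.2, hy.2] at this
    exact hab this
  have sep0 : ∀ {b : ℤ}, b ≤ 64 → b ≠ 0 → ∀ x ∈ ({0} : Finset (GolayPt → ℤ)), ∀ y ∈ shortSet b,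
      cls x ≠ cls y := by
    intro b hb hb0 x hx y hy hc
    rw [Finset.mem_singleton] at hx
    subst hx
    have hy0 := ne_zero_of_sqNorm hy.2 hb0
    rcases Cfsg.Agent.S5592.result 0 y leechLattice.zero_mem hy.1 hy0.symm
      (by rw [sqNorm_zero']; norm_num) (by rw [hy.2]; exact hb) (cls_eq_iff.1 hc) with h1 | h1
    · apply hy0
      have := congrArg Neg.neg h1
      simpa using this.symm
    · rw [sqNorm_zero'] at h1
      norm_num at h1
  have fib2 : ∀ {a : ℤ} (fin : (shortSet a).Finite), a < 64 → a ≠ 0 → ∀ x ∈ fin.toFinset,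
      (fin.toFinset.filter fun y => cls y = cls x).card ≤ 2 := by
    intro a fin ha ha0 x hx
    rw [Set.Finite.mem_toFinset] at hx
    have hsub : (fin.toFinset.filter fun y => cls y = cls x) ⊆ {x, -x} := by
      intro y hy
      rw [Finset.mem_filter, Set.Finite.mem_toFinset] at hy
      have := (Cfsg.Agent.S5551.result x y hx.1 hy.1.1 (ne_zero_of_sqNorm hx.2 ha0)
        (ne_zero_of_sqNorm hy.1.2 ha0) (by rw [hx.2]; exact ha.le) (by rw [hy.1.2]; exact ha.le)
        (cls_eq_iff.1 hy.2.symm)).2 (by rw [hx.2]; exact ha)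
      simpa using this
    exact (Finset.card_le_card hsub).trans Finset.card_le_two
  have fib48 : ∀ x ∈ fin8.toFinset, (fin8.toFinset.filter fun y => cls y = cls x).card ≤ 48 := by
    intro x _
    apply card_le_of_orthogonal_or_neg
    · intro y hy
      rw [Finset.mem_filter, Set.Finite.mem_toFinset] at hy
      rw [dotInt_self, hy.1.2]; norm_num
    · intro y hy w hw hyw
      rw [Finset.mem_filter, Set.Finite.mem_toFinset] at hy hw
      rcases Cfsg.Agent.S5592.result y w hy.1.1 hw.1.1 hyw (by rw [hy.1.2]) (by rw [hw.1.2])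
        (cls_eq_iff.1 (hy.2.trans hw.2.symm)) with h1 | h1
      · exact Or.inl h1
      · exact Or.inr h1.2.2
  have main := counting_short (fun x => cls x) finC.toFinset {0} fin4.toFinset fin6.toFinset
    fin8.toFinset cC (by simp)
    (by rw [← Set.ncard_eq_toFinset_card _ fin4, n4])
    (by rw [← Set.ncard_eq_toFinset_card _ fin6, n6])
    (by rw [← Set.ncard_eq_toFinset_card _ fin8, n8])
    (fun x hx => memC x (by rw [Finset.mem_singleton.1 hx]; exact leechLattice.zero_mem))
    (fun x hx => memC x ((Set.Finite.mem_toFinset fin4).1 hx).1)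
    (fun x hx => memC x ((Set.Finite.mem_toFinset fin6).1 hx).1)
    (fun x hx => memC x ((Set.Finite.mem_toFinset fin8).1 hx).1)
    (fun x hx y hy => sep0 (by norm_num) (by norm_num) x hx y ((Set.Finite.mem_toFinset fin4).1 hy))
    (fun x hx y hy => sep0 (by norm_num) (by norm_num) x hx y ((Set.Finite.mem_toFinset fin6).1 hy))
    (fun x hx y hy => sep0 (by norm_num) (by norm_num) x hx y ((Set.Finite.mem_toFinset fin8).1 hy))
    (fun x hx y hy => sep (by norm_num) (by norm_num) (by norm_num) (by norm_num) (by norm_num)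
      x ((Set.Finite.mem_toFinset fin4).1 hx) y ((Set.Finite.mem_toFinset fin6).1 hy))
    (fun x hx y hy => sep (by norm_num) (by norm_num) (by norm_num) (by norm_num) (by norm_num)
      x ((Set.Finite.mem_toFinset fin4).1 hx) y ((Set.Finite.mem_toFinset fin8).1 hy))
    (fun x hx y hy => sep (by norm_num) (by norm_num) (by norm_num) (by norm_num) (by norm_num)
      x ((Set.Finite.mem_toFinset fin6).1 hx) y ((Set.Finite.mem_toFinset fin8).1 hy))
    (fib2 fin4 (by norm_num) (by norm_num)) (fib2 fin6 (by norm_num) (by norm_num)) fib48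
  constructor
  · intro x hx
    obtain ⟨y, hy, hxy⟩ := main.1 (cls x) (memC x hx)
    have hy' : y ∈ leechLattice ∧ sqNorm y ≤ 64 := by
      simp only [Finset.mem_union, Finset.mem_singleton, Set.Finite.mem_toFinset] at hy
      rcases hy with ((rfl | hy) | hy) | hy
      · exact ⟨leechLattice.zero_mem, by rw [sqNorm_zero']; norm_num⟩
      · exact ⟨hy.1, by rw [hy.2]; norm_num⟩
      · exact ⟨hy.1, by rw [hy.2]; norm_num⟩
      · exact ⟨hy.1, by rw [hy.2]⟩
    exact ⟨y, hy'.1, hy'.2, cls_eq_iff.1 hxy.symm⟩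
  · intro x hx hxn
    have h1 := main.2 x ((Set.Finite.mem_toFinset fin8).2 ⟨hx, hxn⟩)
    have h2 : cross x = ((fin8.toFinset.filter fun y => cls y = cls x : Finset (GolayPt → ℤ)) :
        Set (GolayPt → ℤ)) := by
      ext y
      rw [Finset.mem_coe, Finset.mem_filter, Set.Finite.mem_toFinset]
      unfold cross shortSet
      simp only [Set.mem_ofPred_eq]
      rw [hxn, eq_comm (a := cls y), cls_eq_iff, and_assoc]
    rw [h2, Set.ncard_coe_finset, h1]

end Cfsg.Agent.Lib.Helper54
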