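/-
Helper library (helper54): the order of `Co0`, from transitivity on the vectors of type 4 and the
stabiliser of the standard cross.
-/
import Cfsg.Agent.Lib.Helper54.Co0Cross
import Cfsg.Agent.Lib.Helper54.Co0Type34
import Cfsg.Agent.Lib.Helper54.LeechShort

set_option autoImplicit false

namespace Cfsg.Agent.Lib.Helper54

open Cfsg Cfsg.Agent.Lib.Helper7 Cfsg.Agent.Lib.Helper27
open scoped Pointwise

/-- counting the group elements that move a point into a subset of its orbit -/
theorem card_smul_mem {G X : Type*} [Group G] [MulAction G X] (x : X) (S : Set X)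
    (hS : ∀ y ∈ S, ∃ g : G, g • x = y) :
    Nat.card {g : G // g • x ∈ S} = S.ncard * Nat.card (MulAction.stabilizer G x) := by
  choose! r hr using hS
  have hbij : Function.Bijective (fun p : ↥S × ↥(MulAction.stabilizer G x) =>
      (⟨r p.1.1 * p.2.1, by
        rw [mul_smul, MulAction.mem_stabilizer_iff.1 p.2.2, hr _ p.1.2]; exact p.1.2⟩ :
        {g : G // g • x ∈ S})) := by
    constructor
    · rintro ⟨⟨y, hy⟩, ⟨h, hh⟩⟩ ⟨⟨y', hy'⟩, ⟨h', hh'⟩⟩ e
      have e1 : r y * h = r y' * h' := congrArg Subtype.val e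
      have e2 : y = y' := by
        have := congrArg (fun g => g • x) e1
        simp only [mul_smul, MulAction.mem_stabilizer_iff.1 hh, MulAction.mem_stabilizer_iff.1 hh',
          hr _ hy, hr _ hy'] at this
        exact this
      subst e2
      have e3 : h = h' := mul_left_cancel e1
      subst e3
      rfl
    · rintro ⟨g, hg⟩
      refine ⟨⟨⟨g • x, hg⟩, ⟨(r (g • x))⁻¹ * g, ?_⟩⟩, Subtype.ext ?_⟩
      · rw [MulAction.mem_stabilizer_iff, mul_smul, inv_smul_eq_iff, hr _ hg]
      · show r (g • x) * ((r (g • x))⁻¹ * g) = g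
        rw [mul_inv_cancel_left]
  rw [← Nat.card_congr (Equiv.ofBijective _ hbij), Nat.card_prod, Nat.card_coe_set_eq]

theorem sqNorm_single (i : GolayPt) (s : ℤ) : sqNorm (Pi.single i s : GolayPt → ℤ) = s ^ 2 := by
  unfold sqNorm
  rw [Finset.sum_eq_single i]
  · rw [Pi.single_eq_same]
  · intro j _ hj
    rw [Pi.single_eq_of_ne hj]; norm_num
  · intro h; exact absurd (Finset.mem_univ i) h

theorem ncard_stdCross : stdCross.ncard = 48 := by
  have h : stdCross = Set.range (fun p : GolayPt × Bool =>
      (Pi.single p.1 (if p.2 = true then 8 else -8) : GolayPt → ℤ)) := by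
    ext y
    constructor
    · rintro ⟨i, s, hs | hs, rfl⟩
      · exact ⟨(i, true), by simp [hs]⟩
      · exact ⟨(i, false), by simp [hs]⟩
    · rintro ⟨⟨i, b⟩, rfl⟩
      refine ⟨i, _, ?_, rfl⟩
      cases b <;> simp
  have hinj : Function.Injective (fun p : GolayPt × Bool =>
      (Pi.single p.1 (if p.2 = true then 8 else -8) : GolayPt → ℤ)) := by
    rintro ⟨i, b⟩ ⟨j, b'⟩ e
    have hij : i = j := by
      by_contra hne
      have := congrFun e i
      simp only at this
      rw [Pi.single_eq_same, Pi.single_eq_of_ne hne] at this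
      split_ifs at this <;> norm_num at this
    subst hij
    have := congrFun e i
    simp only at this
    rw [Pi.single_eq_same, Pi.single_eq_same] at this
    cases b <;> cases b' <;> simp at this ⊢
  rw [h, ← Set.image_univ, Set.ncard_image_of_injective _ hinj, Set.ncard_univ, Nat.card_prod]
  simp

/-- the vector `4 e_i + t e_j`, `t = ± 4` -/
theorem four_four_mem (i j : GolayPt) (hij : i ≠ j) (s t : ℤ) (hs : s = 4 ∨ s = -4)
    (ht : t = 4 ∨ t = -4) :
    (Pi.single i s + Pi.single j t : GolayPt → ℤ) ∈ leechLattice := by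
  rw [mem_leechLattice_iff, mem_leechSet_iff]
  have hval : ∀ k, (Pi.single i s + Pi.single j t : GolayPt → ℤ) k = 0 ∨
      (Pi.single i s + Pi.single j t : GolayPt → ℤ) k = 4 ∨
      (Pi.single i s + Pi.single j t : GolayPt → ℤ) k = -4 := by
    intro k
    rw [Pi.add_apply]
    by_cases h1 : k = i
    · subst h1
      rw [Pi.single_eq_same, Pi.single_eq_of_ne hij, add_zero]
      exact Or.inr hs
    · rw [Pi.single_eq_of_ne h1, zero_add]
      by_cases h2 : k = j
      · subst h2
        rw [Pi.single_eq_same]; exact Or.inr ht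
      · rw [Pi.single_eq_of_ne h2]; exact Or.inl rfl
  refine ⟨0, fun k => ?_, ?_, ?_⟩
  · rcases hval k with h | h | h <;> rw [h] <;> decide
  · simp only [Pi.add_apply]
    rw [Finset.sum_add_distrib, Finset.sum_pi_single' i s Finset.univ,
      Finset.sum_pi_single' j t Finset.univ, if_pos (Finset.mem_univ i), if_pos (Finset.mem_univ j)]
    rcases hs with rfl | rfl <;> rcases ht with rfl | rfl <;> decide
  · have : (Finset.univ.filter fun k =>
        (Pi.single i s + Pi.single j t : GolayPt → ℤ) k ≡ 0 + 2 [ZMOD 4]) = ∅ := by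
      ext k
      simp only [Finset.mem_filter, Finset.mem_univ, true_and, Finset.notMem_empty, iff_false]
      rcases hval k with h | h | h <;> rw [h] <;> decide
    rw [this]; exact GC_empty

theorem stdCross_eq_cross (i : GolayPt) : stdCross = cross (Pi.single i 8) := by
  have hx : (Pi.single i 8 : GolayPt → ℤ) ∈ leechLattice := single8_mem i 8 (Or.inl rfl)
  have hn : sqNorm (Pi.single i 8 : GolayPt → ℤ) = 64 := by rw [sqNorm_single]; norm_num
  have hcard := leech_short_main.2 _ hx hn
  have hfin : (cross (Pi.single i 8 : GolayPt → ℤ)).Finite :=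
    Set.finite_of_ncard_ne_zero (by rw [hcard]; norm_num)
  apply Set.eq_of_subset_of_ncard_le _ (by rw [hcard, ncard_stdCross]) hfin
  rintro _ ⟨j, s, hs, rfl⟩
  refine ⟨single8_mem j s hs, ?_, ?_⟩
  · rw [hn, sqNorm_single]; rcases hs with rfl | rfl <;> norm_num
  · by_cases hij : i = j
    · subst hij
      rcases hs with rfl | rfl
      · exact ⟨0, leechLattice.zero_mem, by simp⟩
      · refine ⟨Pi.single i 8, hx, ?_⟩
        funext k
        by_cases hk : k = i
        · subst hk; simp
        · simp [Pi.single_eq_of_ne hk]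
    · rcases hs with rfl | rfl
      · refine ⟨_, four_four_mem i j hij 4 (-4) (Or.inl rfl) (Or.inr rfl), ?_⟩
        funext k
        by_cases hk : k = i
        · subst hk; simp [Pi.single_eq_of_ne hij]
        · by_cases hk2 : k = j
          · subst hk2; simp [Pi.single_eq_of_ne hk]
          · simp [Pi.single_eq_of_ne hk, Pi.single_eq_of_ne hk2]
      · refine ⟨_, four_four_mem i j hij 4 4 (Or.inl rfl) (Or.inl rfl), ?_⟩
        funext k
        by_cases hk : k = i
        · subst hk; simp [Pi.single_eq_of_ne hij]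
        · by_cases hk2 : k = j
          · subst hk2; simp [Pi.single_eq_of_ne hk]
          · simp [Pi.single_eq_of_ne hk, Pi.single_eq_of_ne hk2]

theorem co0_two_smul (g : ↥Co0) (z : ↥leechLattice) : g • (z + z) = g • z + g • z := co0_add g z z

/-- `g` maps the cross of `x` into the cross of `g x` -/
theorem smul_mem_cross (g : ↥Co0) (x y : ↥leechLattice) (hy : (y : GolayPt → ℤ) ∈ cross x) :
    ((g • y : ↥leechLattice) : GolayPt → ℤ) ∈ cross ((g • x : ↥leechLattice) : GolayPt → ℤ) := by
  obtain ⟨-, h2, z, hz, h3⟩ := hy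
  refine ⟨(g • y).2, by rw [co0_sqNorm, co0_sqNorm, h2], ((g • (⟨z, hz⟩ : ↥leechLattice) : ↥leechLattice) : GolayPt → ℤ),
    (g • (⟨z, hz⟩ : ↥leechLattice)).2, ?_⟩
  have h4 : x - y = (⟨z, hz⟩ : ↥leechLattice) + ⟨z, hz⟩ := by
    apply Subtype.ext
    show (x : GolayPt → ℤ) - y = z + z
    rw [h3, two_smul]
  have h5 : g • x - g • y = g • (⟨z, hz⟩ : ↥leechLattice) + g • (⟨z, hz⟩ : ↥leechLattice) := by
    rw [← co0_sub, h4, co0_add]
  have h6 := congrArg (Subtype.val) h5
  rw [two_smul]
  exact h6

theorem presCross_iff (g : ↥Co0) (i : GolayPt) :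
    PresCross g ↔ ((g • E8 i : ↥leechLattice) : GolayPt → ℤ) ∈ stdCross := by
  constructor
  · intro h
    exact h _ ⟨i, 8, Or.inl rfl, rfl⟩
  · rintro ⟨j, s, hs, hj⟩ v hv
    rw [stdCross_eq_cross i] at hv
    have h1 := smul_mem_cross g (E8 i) v hv
    rw [hj] at h1
    rcases hs with rfl | rfl
    · rw [stdCross_eq_cross j]; exact h1
    · rw [stdCross_eq_cross j]
      obtain ⟨h2, h3, z, hz, h4⟩ := h1
      refine ⟨h2, ?_, z + Pi.single j 8, leechLattice.add_mem hz (single8_mem j 8 (Or.inl rfl)), ?_⟩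
      · rw [h3, sqNorm_single, sqNorm_single]; norm_num
      · rw [smul_add, ← h4]
        funext k
        by_cases hk : k = j
        · subst hk; simp; ring
        · simp [Pi.single_eq_of_ne hk]

theorem E8_norm (i : GolayPt) : sqNorm ((E8 i : ↥leechLattice) : GolayPt → ℤ) = 64 := by
  show sqNorm (Pi.single i 8 : GolayPt → ℤ) = 64
  rw [sqNorm_single]; norm_num

theorem card_stab_E8 (i : GolayPt) :
    48 * Nat.card (MulAction.stabilizer ↥Co0 (E8 i)) = 4096 * 244823040 := by
  have h := card_smul_mem (G := ↥Co0) (E8 i) {y : ↥leechLattice | (y : GolayPt → ℤ) ∈ stdCross} (by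
    rintro y ⟨j, s, hs, hy⟩
    apply co0_trans_64 _ _ (E8_norm i)
    rw [hy, sqNorm_single]; rcases hs with rfl | rfl <;> norm_num)
  have h2 : {y : ↥leechLattice | (y : GolayPt → ℤ) ∈ stdCross}.ncard = 48 := by
    rw [← ncard_stdCross]
    have : stdCross = Subtype.val '' {y : ↥leechLattice | (y : GolayPt → ℤ) ∈ stdCross} := by
      ext y
      constructor
      · rintro ⟨j, s, hs, rfl⟩
        exact ⟨⟨_, single8_mem j s hs⟩, ⟨j, s, hs, rfl⟩, rfl⟩
      · rintro ⟨y, hy, rfl⟩
        exact hy
    conv_rhs => rw [this]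
    rw [Set.ncard_image_of_injective _ Subtype.val_injective]
  rw [h2] at h
  rw [← h, ← card_presCross]
  apply Nat.card_congr
  apply Equiv.subtypeEquivRight
  intro g
  exact (presCross_iff g i).symm

theorem card_Co0 : Nat.card ↥Co0 = 8315553613086720000 := by
  have h := card_smul_mem (G := ↥Co0) (E8 none) {y : ↥leechLattice | sqNorm (y : GolayPt → ℤ) = 64}
    (fun y hy => co0_trans_64 _ _ (E8_norm none) hy)
  rw [ncard_norm64] at h
  have h2 : Nat.card {g : ↥Co0 // g • E8 none ∈ {y : ↥leechLattice | sqNorm (y : GolayPt → ℤ) = 64}}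
      = Nat.card ↥Co0 := by
    apply Nat.card_congr
    apply Equiv.subtypeUnivEquiv
    intro g
    show sqNorm ((g • E8 none : ↥leechLattice) : GolayPt → ℤ) = 64
    rw [co0_sqNorm, E8_norm]
  rw [h2] at h
  have h3 := card_stab_E8 none
  omega

end Cfsg.Agent.Lib.Helper54
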