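/-
Helper library (helper54): the stabilizer of two minimal vectors with inner product -8 (McL): the 275 points and the rank 3 action.
-/
import Cfsg.Agent.Lib.Helper54.Co0Std
import Cfsg.Agent.Lib.Helper54.Co0Type34
import Cfsg.Agent.Lib.Helper54.U43Data

set_option autoImplicit false

namespace Cfsg.Agent.Lib.Helper54

open Cfsg

def xx0 : ↥leechLattice := LV Xx0 Xx0_leech

theorem conj_one (v : ↥leechLattice) (hv : sqNorm (v : GolayPt → ℤ) = 32) : ConjL [v0] [v] :=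
  ConjL.nil.cons transL_nil_32 (clsL_nil.2 v0_norm) (clsL_nil.2 hv)

theorem conj_pair8 (v w : ↥leechLattice) (hv : sqNorm (v : GolayPt → ℤ) = 32)
    (hw : sqNorm (w : GolayPt → ℤ) = 32)
    (hd : dotInt (v : GolayPt → ℤ) (w : GolayPt → ℤ) = -8) : ConjL [wB, v0] [w, v] :=
  (conj_one v hv).cons (transL_one_32 v0 v0_norm (-8))
    (clsL_cons.2 ⟨v0_wB, clsL_nil.2 wB_norm⟩) (clsL_cons.2 ⟨hd, clsL_nil.2 hw⟩)

theorem count275 : CountL [wB, v0] 32 [8, 16] 275 := countL_of_codes rfl t3_count3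

theorem trans275 : TransL [wB, v0] 32 [8, 16] :=
  transL_of_codes rfl t3_count3 (by norm_num) Xx0_cls (V_mem Xx0_leech) mcl275_lower

theorem xx0_cls : ClsL [wB, v0] 32 [8, 16] xx0 :=
  (clsL_iff_clsQ (Xs := [XwB, Xv0]) rfl 32 [8, 16] xx0).2 (clsOK_spec Xx0_cls).1

theorem count112 : CountL [xx0, wB, v0] 32 [8, 8, 16] 112 := countL_of_codes rfl u43c_count0
theorem count162 : CountL [xx0, wB, v0] 32 [16, 8, 16] 162 := countL_of_codes rfl u43c_count1

theorem trans112 : TransL [xx0, wB, v0] 32 [8, 8, 16] :=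
  transL_of_codes rfl u43c_count0 (by norm_num) Xy8_cls (V_mem Xy8_leech) u43o112_lower

theorem trans162 : TransL [xx0, wB, v0] 32 [16, 8, 16] :=
  transL_of_codes rfl u43c_count1 (by norm_num) Xy16_cls (V_mem Xy16_leech) u43o162_lower

/-- values of the inner product of two of the 275 vectors -/
theorem vals275 (y : ↥leechLattice) (hy : ClsL [wB, v0] 32 [8, 16] y) :
    dotInt (xx0 : GolayPt → ℤ) (y : GolayPt → ℤ) ∈ ([8, 16, 32] : List ℤ) :=
  u43c_census.1 _ ((clsL_iff_clsQ (Xs := [XwB, Xv0]) rfl 32 [8, 16] y).1 hy)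

/-- the description of the 275 vectors used in the statements -/
theorem mem_275_iff (u v x : ↥leechLattice) (hu : sqNorm (u : GolayPt → ℤ) = 48) :
    (sqNorm (x : GolayPt → ℤ) = 32 ∧ sqNorm ((u : GolayPt → ℤ) - (x : GolayPt → ℤ)) = 32 ∧
      dotInt (v : GolayPt → ℤ) (x : GolayPt → ℤ) = 16) ↔ ClsL [u - v, v] 32 [8, 16] x := by
  rw [clsL_cons, clsL_cons, clsL_nil]
  have e1 := sqNorm_sub (u : GolayPt → ℤ) (x : GolayPt → ℤ)
  have e2 : dotInt ((u - v : ↥leechLattice) : GolayPt → ℤ) (x : GolayPt → ℤ)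
      = dotInt (u : GolayPt → ℤ) (x : GolayPt → ℤ) - dotInt (v : GolayPt → ℤ) (x : GolayPt → ℤ) :=
    dotInt_sub_left' _ _ _
  rw [e2, e1, hu]
  constructor
  · rintro ⟨h1, h2, h3⟩
    rw [h1] at h2
    exact ⟨by omega, h3, h1⟩
  · rintro ⟨h1, h2, h3⟩
    rw [h3]
    exact ⟨rfl, by omega, h2⟩

/-- the pair `(u - v, v)` attached to a decomposition of a vector of norm 48 -/
theorem conj_of_decomp (u v : ↥leechLattice) (hu : sqNorm (u : GolayPt → ℤ) = 48)
    (hv : sqNorm (v : GolayPt → ℤ) = 32)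
    (hv2 : sqNorm ((u : GolayPt → ℤ) - (v : GolayPt → ℤ)) = 32) : ConjL [wB, v0] [u - v, v] := by
  apply conj_pair8 v (u - v) hv hv2
  show dotInt (v : GolayPt → ℤ) ((u : GolayPt → ℤ) - (v : GolayPt → ℤ)) = -8
  have e1 := sqNorm_sub (u : GolayPt → ℤ) (v : GolayPt → ℤ)
  rw [dotInt_sub_right', ← sqNorm_eq_dotInt, dotInt_comm' (v : GolayPt → ℤ)]
  omega

theorem fix_u_of_fix (g : ↥Co0) (u v : ↥leechLattice) (h1 : g • (u - v) = u - v) (h2 : g • v = v) :
    g • u = u := by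
  have : u = (u - v) + v := by abel
  rw [this, co0_add, h1, h2]

end Cfsg.Agent.Lib.Helper54
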