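/-
Helper library (helper54): the stabilizer of a vector of norm 48 (Co3): the 552 and the 11178 minimal vectors.
-/
import Cfsg.Agent.Lib.Helper54.Co3Orb
import Cfsg.Agent.Lib.Helper54.McLRefine8
import Cfsg.Agent.Lib.Helper54.McLMain

set_option autoImplicit false

namespace Cfsg.Agent.Lib.Helper54

open Cfsg

def u3 : ↥leechLattice := LV Xu3 Xu3_leech

theorem u3_eq : u3 = v0 + wB := Subtype.ext (V_add_of_check Xu3_add)

theorem u3_norm : sqNorm (u3 : GolayPt → ℤ) = 48 := by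
  show sqNorm (V Xu3) = 48
  rw [sqNorm_V, Xu3_norm]

theorem conj_u3 (u : ↥leechLattice) (hu : sqNorm (u : GolayPt → ℤ) = 48) : ConjL [u3] [u] := by
  obtain ⟨g, hg⟩ := type3_main.1 u hu
  exact ⟨g, by rw [List.map_cons, List.map_nil, u3_eq, hg]⟩

theorem mem_552_iff (u x : ↥leechLattice) (hu : sqNorm (u : GolayPt → ℤ) = 48) :
    (sqNorm (x : GolayPt → ℤ) = 32 ∧ sqNorm ((u : GolayPt → ℤ) - (x : GolayPt → ℤ)) = 32) ↔
      ClsL [u] 32 [24] x := by
  rw [clsL_cons, clsL_nil, sqNorm_sub, hu]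
  constructor
  · rintro ⟨h1, h2⟩
    rw [h1] at h2
    exact ⟨by omega, h1⟩
  · rintro ⟨h1, h2⟩
    rw [h2]
    exact ⟨rfl, by omega⟩

theorem count552 : CountL [u3] 32 [24] 552 := by
  unfold CountL
  rw [← type3_main.2 u3 u3_norm]
  congr 1
  ext x
  exact (mem_552_iff u3 x u3_norm).symm

theorem wB_v0 : dotInt (wB : GolayPt → ℤ) (v0 : GolayPt → ℤ) = -8 := by
  rw [dotInt_comm']; exact v0_wB

theorem eq_neg_of_dot_eq {n : ℤ} (v x : ↥leechLattice) (hv : sqNorm (v : GolayPt → ℤ) = n)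
    (hx : sqNorm (x : GolayPt → ℤ) = n) (h : dotInt (v : GolayPt → ℤ) (x : GolayPt → ℤ) = -n) :
    x = -v := by
  have h1 : -x = v := eq_of_dot_eq v (-x) hv
    (by show sqNorm (-(x : GolayPt → ℤ)) = n; rw [sqNorm_neg']; exact hx)
    (by show dotInt (v : GolayPt → ℤ) (-(x : GolayPt → ℤ)) = n; rw [dotInt_neg_right', h]; ring)
  rw [← h1, neg_neg]

theorem countA1 : CountL [wB, v0] 32 [0, -16] 2025 := by
  have h : CountL [wB, v0] 32 [0, 16] 2025 := countL_of_codes rfl t3_count2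
  exact h.neg

theorem countA2 : CountL [wB, v0] 32 [-16, 0] 2025 :=
  (countA1.conj (conj_pair8 wB v0 wB_norm v0_norm wB_v0)).swap

theorem countA3 : CountL [wB, v0] 32 [-8, -8] 7128 := countL_of_codes rfl m8c_count1

theorem countY_le : {x | ClsL [u3] 32 [-16] x}.ncard ≤ 11178 := by
  have hsub : {x | ClsL [u3] 32 [-16] x} ⊆ {x | ClsL [wB, v0] 32 [0, -16] x} ∪
      {x | ClsL [wB, v0] 32 [-16, 0] x} ∪ {x | ClsL [wB, v0] 32 [-8, -8] x} := by
    intro x hx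
    have hx' : ClsL [u3] 32 [-16] x := hx
    rw [clsL_cons, clsL_nil] at hx'
    obtain ⟨h1, h2⟩ := hx'
    have e : dotInt (u3 : GolayPt → ℤ) (x : GolayPt → ℤ)
        = dotInt (v0 : GolayPt → ℤ) (x : GolayPt → ℤ) + dotInt (wB : GolayPt → ℤ) (x : GolayPt → ℤ) := by
      rw [u3_eq]
      exact dotInt_add_left' _ _ _
    rw [e] at h1
    have m1 := dot_mem_csCo2 v0 x v0_norm h2
    have m2 := dot_mem_csCo2 wB x wB_norm h2
    have n1 : dotInt (v0 : GolayPt → ℤ) (x : GolayPt → ℤ) ≠ -32 := by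
      intro h
      have hx0 := eq_neg_of_dot_eq v0 x v0_norm h2 h
      have : dotInt (wB : GolayPt → ℤ) (x : GolayPt → ℤ) = 8 := by
        rw [hx0]
        show dotInt (wB : GolayPt → ℤ) (-(v0 : GolayPt → ℤ)) = 8
        rw [dotInt_neg_right', wB_v0]; norm_num
      omega
    have n2 : dotInt (wB : GolayPt → ℤ) (x : GolayPt → ℤ) ≠ -32 := by
      intro h
      have hx0 := eq_neg_of_dot_eq wB x wB_norm h2 h
      have : dotInt (v0 : GolayPt → ℤ) (x : GolayPt → ℤ) = 8 := by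
        rw [hx0]
        show dotInt (v0 : GolayPt → ℤ) (-(wB : GolayPt → ℤ)) = 8
        rw [dotInt_neg_right', v0_wB]; norm_num
      omega
    simp only [csCo2, Finset.mem_insert, Finset.mem_singleton] at m1 m2
    have : (dotInt (wB : GolayPt → ℤ) (x : GolayPt → ℤ) = 0 ∧
          dotInt (v0 : GolayPt → ℤ) (x : GolayPt → ℤ) = -16) ∨
        (dotInt (wB : GolayPt → ℤ) (x : GolayPt → ℤ) = -16 ∧
          dotInt (v0 : GolayPt → ℤ) (x : GolayPt → ℤ) = 0) ∨
        (dotInt (wB : GolayPt → ℤ) (x : GolayPt → ℤ) = -8 ∧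
          dotInt (v0 : GolayPt → ℤ) (x : GolayPt → ℤ) = -8) := by omega
    rcases this with h | h | h
    · exact Or.inl (Or.inl (clsL_cons.2 ⟨h.1, clsL_cons.2 ⟨h.2, clsL_nil.2 h2⟩⟩))
    · exact Or.inl (Or.inr (clsL_cons.2 ⟨h.1, clsL_cons.2 ⟨h.2, clsL_nil.2 h2⟩⟩))
    · exact Or.inr (clsL_cons.2 ⟨h.1, clsL_cons.2 ⟨h.2, clsL_nil.2 h2⟩⟩)
  have c1 : {x | ClsL [wB, v0] 32 [0, -16] x}.ncard = 2025 := countA1
  have c2 : {x | ClsL [wB, v0] 32 [-16, 0] x}.ncard = 2025 := countA2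
  have c3 : {x | ClsL [wB, v0] 32 [-8, -8] x}.ncard = 7128 := countA3
  calc _ ≤ ({x | ClsL [wB, v0] 32 [0, -16] x} ∪
      {x | ClsL [wB, v0] 32 [-16, 0] x} ∪ {x | ClsL [wB, v0] 32 [-8, -8] x}).ncard :=
        Set.ncard_le_ncard hsub (((finite_clsL_32 _ _).union (finite_clsL_32 _ _)).union
          (finite_clsL_32 _ _))
    _ ≤ ({x | ClsL [wB, v0] 32 [0, -16] x} ∪ {x | ClsL [wB, v0] 32 [-16, 0] x}).ncard
        + {x | ClsL [wB, v0] 32 [-8, -8] x}.ncard := Set.ncard_union_le _ _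
    _ ≤ ({x | ClsL [wB, v0] 32 [0, -16] x}.ncard + {x | ClsL [wB, v0] 32 [-16, 0] x}.ncard)
        + {x | ClsL [wB, v0] 32 [-8, -8] x}.ncard :=
        Nat.add_le_add_right (Set.ncard_union_le _ _) _
    _ = 11178 := by rw [c1, c2, c3]

theorem clsY_count : {x | ClsQ [Xu3] 32 [-16] x}.ncard = 11178 :=
  count_trans_of_le (bs := [u3]) rfl countY_le (by norm_num) Xt0_cls (V_mem Xt0_leech) co3o_lower

theorem countY : CountL [u3] 32 [-16] 11178 := countL_of_codes rfl clsY_count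

theorem transY : TransL [u3] 32 [-16] :=
  transL_of_codes rfl clsY_count (by norm_num) Xt0_cls (V_mem Xt0_leech) co3o_lower

theorem cls552_count : {x | ClsQ [Xu3] 32 [24] x}.ncard = 552 := by
  have h1 : CountL [u3] 32 [24] {x | ClsQ [Xu3] 32 [24] x}.ncard := countL_of_codes rfl rfl
  exact h1.symm.trans count552

end Cfsg.Agent.Lib.Helper54
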