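/-
Helper library (helper54): the stabilizer of two vectors of norm 48 with inner product -32 (HS): the 100 points and the rank 3 action.
-/
import Cfsg.Agent.Lib.Helper54.M22Data

set_option autoImplicit false

namespace Cfsg.Agent.Lib.Helper54

open Cfsg

def tt0 : ↥leechLattice := LV Xt0 Xt0_leech

theorem tt0_cls : ClsL [u3] 32 [-16] tt0 :=
  (clsL_iff_clsQ (Xs := [Xu3]) rfl 32 [-16] tt0).2 (clsOK_spec Xt0_cls).1

/-- the third side of a triangle of type 3-3-2 -/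
theorem third_side (v w : ↥leechLattice) (hv : sqNorm (v : GolayPt → ℤ) = 48)
    (hw : sqNorm (w : GolayPt → ℤ) = 48)
    (hvw : dotInt (v : GolayPt → ℤ) (w : GolayPt → ℤ) = -32) : ClsL [v] 32 [-16] (-v - w) := by
  rw [clsL_cons, clsL_nil]
  constructor
  · show dotInt (v : GolayPt → ℤ) (-(v : GolayPt → ℤ) - (w : GolayPt → ℤ)) = -16
    rw [dotInt_sub_right', dotInt_neg_right', hvw, ← sqNorm_eq_dotInt, hv]
    norm_num
  · show sqNorm (-(v : GolayPt → ℤ) - (w : GolayPt → ℤ)) = 32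
    rw [sqNorm_sub, sqNorm_neg', dotInt_neg_left', hv, hw, hvw]
    norm_num

theorem conj_hs (v w : ↥leechLattice) (hv : sqNorm (v : GolayPt → ℤ) = 48)
    (hw : sqNorm (w : GolayPt → ℤ) = 48)
    (hvw : dotInt (v : GolayPt → ℤ) (w : GolayPt → ℤ) = -32) : ConjL [tt0, u3] [-v - w, v] :=
  (conj_u3 v hv).cons transY tt0_cls (third_side v w hv hw hvw)

theorem dot_third (v w x : ↥leechLattice) :
    dotInt ((-v - w : ↥leechLattice) : GolayPt → ℤ) (x : GolayPt → ℤ)
      = - dotInt (v : GolayPt → ℤ) (x : GolayPt → ℤ) - dotInt (w : GolayPt → ℤ) (x : GolayPt → ℤ) := by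
  show dotInt (-(v : GolayPt → ℤ) - (w : GolayPt → ℤ)) (x : GolayPt → ℤ) = _
  rw [dotInt_sub_left', dotInt_neg_left']

/-- classes relative to `(v, w)` in terms of classes relative to `(-v-w, v)` -/
theorem mem_hs_iff (v w x : ↥leechLattice) (a b : ℤ) :
    (sqNorm (x : GolayPt → ℤ) = 32 ∧ dotInt (v : GolayPt → ℤ) (x : GolayPt → ℤ) = a ∧
      dotInt (w : GolayPt → ℤ) (x : GolayPt → ℤ) = b) ↔ ClsL [-v - w, v] 32 [-a - b, a] x := by
  rw [clsL_cons, clsL_cons, clsL_nil, dot_third]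
  constructor
  · rintro ⟨h1, h2, h3⟩
    exact ⟨by omega, h2, h1⟩
  · rintro ⟨h1, h2, h3⟩
    exact ⟨h3, h2, by omega⟩

theorem fix_w_of_fix (g : ↥Co0) (v w : ↥leechLattice) (h1 : g • (-v - w) = -v - w) (h2 : g • v = v) :
    g • w = w := by
  rw [co0_sub, co0_neg, h2] at h1
  have : g • w = -v - (-v - w) := by rw [← h1]; abel
  rw [this]; abel

theorem count100 : CountL [tt0, u3] 32 [0, 24] 100 := countL_of_codes rfl hsP0_count

theorem trans100 : TransL [tt0, u3] 32 [0, 24] :=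
  transL_of_codes rfl hsP0_count (by norm_num) XwB_clshsP (V_mem XwB_leech) hsPo0_lower

theorem wB_cls100 : ClsL [tt0, u3] 32 [0, 24] wB :=
  (clsL_iff_clsQ (Xs := [Xt0, Xu3]) rfl 32 [0, 24] wB).2 (clsOK_spec XwB_clshsP).1

theorem count22 : CountL [wB, tt0, u3] 32 [8, 0, 24] 22 := countL_of_codes rfl m22P8_count
theorem count77 : CountL [wB, tt0, u3] 32 [16, 0, 24] 77 := countL_of_codes rfl m22P16_count

theorem trans22 : TransL [wB, tt0, u3] 32 [8, 0, 24] :=
  transL_of_codes rfl m22P8_count (by norm_num) Xm22P8_clsm22P (V_mem Xm22P8_leech) m22Po8_lower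

theorem trans77 : TransL [wB, tt0, u3] 32 [16, 0, 24] :=
  transL_of_codes rfl m22P16_count (by norm_num) Xm22P16_clsm22P (V_mem Xm22P16_leech) m22Po16_lower

theorem vals100 (y : ↥leechLattice) (hy : ClsL [tt0, u3] 32 [0, 24] y) :
    dotInt (wB : GolayPt → ℤ) (y : GolayPt → ℤ) ∈ ([8, 16, 32] : List ℤ) :=
  m22P_census.1 _ ((clsL_iff_clsQ (Xs := [Xt0, Xu3]) rfl 32 [0, 24] y).1 hy)

/-- transport of the possible values of an inner product -/
theorem vals_conj {b0 : ↥leechLattice} {bs : List ↥leechLattice} {n : ℤ} {c : List ℤ} {l : List ℤ}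
    (h : ∀ y, ClsL bs n c y → dotInt (b0 : GolayPt → ℤ) (y : GolayPt → ℤ) ∈ l)
    {b0' : ↥leechLattice} {bs' : List ↥leechLattice} (hc : ConjL (b0 :: bs) (b0' :: bs')) :
    ∀ y, ClsL bs' n c y → dotInt (b0' : GolayPt → ℤ) (y : GolayPt → ℤ) ∈ l := by
  intro y hy
  obtain ⟨a, ha⟩ := hc
  rw [List.map_cons, List.cons.injEq] at ha
  have hy' : ClsL bs n c (a⁻¹ • y) := by
    rw [← clsL_smul a, smul_inv_smul, ← ha.2]
    exact hy
  have h1 := h _ hy'
  have h2 := co0_dotInt a b0 (a⁻¹ • y)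
  rw [smul_inv_smul, ← ha.1] at h2
  rw [h2]
  exact h1

end Cfsg.Agent.Lib.Helper54
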