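/-
Helper library (helper54): HS: a fixed point free involution on the 100 points; the orbits on the 11178 vectors.
-/
import Cfsg.Agent.Lib.Helper54.HSInv
import Cfsg.Agent.Lib.Helper54.HSOrbY

set_option autoImplicit false

namespace Cfsg.Agent.Lib.Helper54

open Cfsg

theorem hs_involution : ∃ g : ↥Co0, g • u3 = u3 ∧ g • tt0 = tt0 ∧ g * g = 1 ∧
    ∀ x, ClsL [tt0, u3] 32 [0, 24] x → g • x ≠ x := by
  refine ⟨genCo0 hsInv hsInv_cert, ?_, ?_, genCo0_mul_self hsInv_cert hsInv_sym, ?_⟩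
  · exact Subtype.ext (genCo0_smul_of_appFast hsInv_cert hsInv_cols Xu3_code Xu3_code
      (by rw [Xu3_norm]; norm_num) _ hsInv_fix_u3)
  · exact Subtype.ext (genCo0_smul_of_appFast hsInv_cert hsInv_cols Xt0_code Xt0_code
      (by rw [Xt0_norm]; norm_num) _ hsInv_fix_t0)
  · intro x hx
    exact no_fix_on_class (by norm_num) hs100Tab_ok hsP0_count (by norm_num) hsInv_cert hsInv_cols
      hsInv_move x ((clsL_iff_clsQ (Xs := [Xt0, Xu3]) rfl 32 [0, 24] x).1 hx)

theorem hs_involution_conj {t v : ↥leechLattice} (hc : ConjL [tt0, u3] [t, v]) :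
    ∃ g : ↥Co0, g • v = v ∧ g • t = t ∧ orderOf g = 2 ∧
      ∀ x, ClsL [t, v] 32 [0, 24] x → g • x ≠ x := by
  obtain ⟨g, h1, h2, h3, h4⟩ := hs_involution
  have hc' := hc
  obtain ⟨a, ha⟩ := hc
  rw [List.map_cons, List.map_cons, List.map_nil, List.cons.injEq, List.cons.injEq] at ha
  obtain ⟨ht, hv, -⟩ := ha
  have hmove : ∀ x, ClsL [t, v] 32 [0, 24] x → (a * g * a⁻¹) • x ≠ x := by
    intro x hx hfix
    have hx' : ClsL [tt0, u3] 32 [0, 24] (a⁻¹ • x) := by
      rw [← clsL_smul a, smul_inv_smul, List.map_cons, List.map_cons, List.map_nil, ← ht, ← hv]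
      exact hx
    apply h4 _ hx'
    rw [mul_smul, mul_smul] at hfix
    have := congrArg (fun z => a⁻¹ • z) hfix
    simp only [inv_smul_smul] at this
    exact this
  refine ⟨a * g * a⁻¹, ?_, ?_, ?_, hmove⟩
  · rw [hv, mul_smul, mul_smul, inv_smul_smul, h1]
  · rw [ht, mul_smul, mul_smul, inv_smul_smul, h2]
  · apply orderOf_eq_prime
    · rw [pow_two]
      calc a * g * a⁻¹ * (a * g * a⁻¹) = a * (g * g) * a⁻¹ := by group
        _ = 1 := by rw [h3]; group
    · intro h1'
      have hne : {x | ClsL [t, v] 32 [0, 24] x}.Nonempty := by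
        apply Set.nonempty_of_ncard_ne_zero
        have : {x | ClsL [t, v] 32 [0, 24] x}.ncard = 100 := count100.conj hc'
        rw [this]; norm_num
      obtain ⟨x, hx⟩ := hne
      exact hmove x hx (by rw [h1', one_smul])

theorem exists_of_countL {bs : List ↥leechLattice} {n : ℤ} {c : List ℤ} {N : ℕ}
    (h : CountL bs n c N) (hN : N ≠ 0) : ∃ y, ClsL bs n c y := by
  have : {x | ClsL bs n c x}.Nonempty := Set.nonempty_of_ncard_ne_zero (by rw [h]; exact hN)
  exact this

theorem countYm8 : CountL [tt0, u3] 32 [-8, -16] 352 := countL_of_codes rfl hsYm8_count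
theorem countY0 : CountL [tt0, u3] 32 [0, -16] 4125 := countL_of_codes rfl hsY0_count
theorem countY8 : CountL [tt0, u3] 32 [8, -16] 5600 := countL_of_codes rfl hsY8_count
theorem countY16 : CountL [tt0, u3] 32 [16, -16] 1100 := countL_of_codes rfl hsY16_count

theorem transYm8 : TransL [tt0, u3] 32 [-8, -16] :=
  transL_of_codes rfl hsYm8_count (by norm_num) XhsYm8_clshsY (V_mem XhsYm8_leech) hsYom8_lower
theorem transY0 : TransL [tt0, u3] 32 [0, -16] :=
  transL_of_codes rfl hsY0_count (by norm_num) XhsY0_clshsY (V_mem XhsY0_leech) hsYo0_lower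
theorem transY8 : TransL [tt0, u3] 32 [8, -16] :=
  transL_of_codes rfl hsY8_count (by norm_num) XhsY8_clshsY (V_mem XhsY8_leech) hsYo8_lower
theorem transY16 : TransL [tt0, u3] 32 [16, -16] :=
  transL_of_codes rfl hsY16_count (by norm_num) XhsY16_clshsY (V_mem XhsY16_leech) hsYo16_lower

theorem valsY (y : ↥leechLattice) (hy : ClsL [u3] 32 [-16] y) :
    dotInt (tt0 : GolayPt → ℤ) (y : GolayPt → ℤ) ∈ ([-8, 0, 8, 16, 32] : List ℤ) :=
  hsY_census.1 _ ((clsL_iff_clsQ (Xs := [Xu3]) rfl 32 [-16] y).1 hy)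

end Cfsg.Agent.Lib.Helper54
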