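/-
Helper library (helper54): coded vectors of the hermitian space of dimension six over the field with four elements,
subspaces given by coded bases.
-/
import Cfsg.Agent.Lib.Helper40.U6.K4
import Cfsg.Agent.Lib.Helper27.Mask

set_option autoImplicit false

namespace Cfsg.Agent.Lib.Helper54.U6

open Matrix Cfsg.Agent.Lib.Helper5 Cfsg.Agent.Lib.Helper13 Cfsg.Agent.Lib.Helper40.U6 Cfsg.Agent.Lib.Helper27

/-- evaluation of the natural number first -/
def forceN {α : Type} (x : ℕ) (f : ℕ → α) : α := Nat.rec (f 0) (fun n _ => f (Nat.succ n)) x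

@[simp] theorem forceN_eq {α : Type} (x : ℕ) (f : ℕ → α) : forceN x f = f x := by
  cases x <;> rfl

/-- lazy disjunction -/
def orL (x y : Bool) : Bool := Bool.rec y true x

@[simp] theorem orL_eq (x y : Bool) : orL x y = (x || y) := by cases x <;> rfl

/-- `∃ a ∈ l, f a` as a loop -/
def anyL {α : Type} (f : α → Bool) (l : List α) : Bool := List.rec false (fun a _ ih => orL (f a) ih) l

theorem anyL_iff {α : Type} (f : α → Bool) (l : List α) : anyL f l = true ↔ ∃ a ∈ l, f a = true := by
  induction l with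
  | nil => simp [anyL]
  | cons a l ih =>
    have : anyL f (a :: l) = orL (f a) (anyL f l) := rfl
    rw [this, orL_eq, Bool.or_eq_true, ih]
    simp

/-- coding of field elements -/
def toN : K4 → ℕ
  | .z => 0 | .o => 1 | .w => 2 | .u => 3

/-- coding of vectors -/
def enc (v : V6) : ℕ :=
  toN (v 0) + 4 * (toN (v 1) + 4 * (toN (v 2) + 4 * (toN (v 3) + 4 * (toN (v 4) + 4 * toN (v 5)))))

theorem toN_lt (a : K4) : toN a < 4 := by cases a <;> decide

theorem enc_lt (v : V6) : enc v < 4096 := by
  have h0 := toN_lt (v 0); have h1 := toN_lt (v 1); have h2 := toN_lt (v 2)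
  have h3 := toN_lt (v 3); have h4 := toN_lt (v 4); have h5 := toN_lt (v 5)
  unfold enc
  omega

set_option maxRecDepth 100000 in
theorem dec_enc (v : V6) : dec (enc v) = v := by
  have key : ∀ a0 a1 a2 a3 a4 a5 : K4, dec (enc ![a0, a1, a2, a3, a4, a5]) = ![a0, a1, a2, a3, a4, a5] := by
    decide +kernel
  have e : v = ![v 0, v 1, v 2, v 3, v 4, v 5] := by
    funext i; fin_cases i <;> rfl
  rw [e]; exact key _ _ _ _ _ _

/-- transvections on codes -/
def tfc (n m : ℕ) : ℕ := forceN m fun m' => enc (tf n (dec m'))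

theorem dec_tfc (n m : ℕ) : dec (tfc n m) = tf n (dec m) := by
  rw [tfc, forceN_eq, dec_enc]

theorem dec_foldr (l : List ℕ) (m : ℕ) : dec (l.foldr tfc m) = l.foldr tf (dec m) := by
  induction l with
  | nil => rfl
  | cons n l ih => rw [List.foldr_cons, List.foldr_cons, dec_tfc, ih]

/-- scalar multiples on codes -/
def smc (c m : ℕ) : ℕ := forceN m fun m' => enc (ofN c • dec m')

theorem dec_smc (c m : ℕ) : dec (smc c m) = ofN c • dec m := by
  rw [smc, forceN_eq, dec_enc]

theorem dec_xor (m n : ℕ) : dec (m ^^^ n) = dec m + dec n := by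
  funext i
  have key : ∀ a < 4, ∀ b < 4, ofN (a ^^^ b) = ofN a + ofN b := by decide
  simp only [dec, Pi.add_apply]
  rw [Nat.shiftRight_xor_distrib, Nat.and_xor_distrib_right]
  exact key _ (Nat.lt_succ_of_le Nat.and_le_right) _ (Nat.lt_succ_of_le Nat.and_le_right)

theorem dec_zero : dec 0 = 0 := by
  funext i
  simp [dec, ofN]
  rfl

/-- the subspace spanned by the vectors with the given codes (the second components are the pivots) -/
def Pl (l : List (ℕ × ℕ)) : Submodule K4 V6 := Submodule.span K4 {y | ∃ e ∈ l, y = dec e.1}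

/-- the linear combination of the basis with the coefficients read off at the pivots -/
def combo (y : ℕ) (l : List (ℕ × ℕ)) : ℕ :=
  List.rec 0 (fun e _ ih => Nat.xor (smc (Nat.land (Nat.shiftRight y e.2) 3) e.1) ih) l

theorem Pl_mono {e : ℕ × ℕ} {l : List (ℕ × ℕ)} : Pl l ≤ Pl (e :: l) := by
  apply Submodule.span_mono
  rintro y ⟨e', he', rfl⟩
  exact ⟨e', List.mem_cons_of_mem _ he', rfl⟩

theorem dec_combo_mem (y : ℕ) (l : List (ℕ × ℕ)) : dec (combo y l) ∈ Pl l := by
  induction l with
  | nil =>
    have : combo y [] = 0 := rfl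
    rw [this, dec_zero]
    exact Submodule.zero_mem _
  | cons e l ih =>
    have : combo y (e :: l) = (smc (Nat.land (Nat.shiftRight y e.2) 3) e.1) ^^^ (combo y l) := rfl
    rw [this, dec_xor, dec_smc]
    apply Submodule.add_mem
    · apply Submodule.smul_mem
      exact Submodule.subset_span ⟨e, List.mem_cons_self, rfl⟩
    · exact Pl_mono ih

/-- membership test -/
def memc (y : ℕ) (l : List (ℕ × ℕ)) : Bool := forceN y fun y' => Nat.beq y' (combo y' l)

theorem mem_of_memc {y : ℕ} {l : List (ℕ × ℕ)} (h : memc y l = true) : dec y ∈ Pl l := by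
  rw [memc, forceN_eq] at h
  have h2 : y = combo y l := Nat.eq_of_beq_eq_true h
  rw [h2]
  exact dec_combo_mem y l

/-- a linear map sending the basis of `Pl l` into `Pl l'` sends `Pl l` into `Pl l'` -/
theorem map_Pl (M : Matrix (Fin 6) (Fin 6) K4) {l l' : List (ℕ × ℕ)}
    (h : ∀ e ∈ l, M *ᵥ dec e.1 ∈ Pl l') : ∀ y ∈ Pl l, M *ᵥ y ∈ Pl l' := by
  intro y hy
  unfold Pl at hy
  induction hy using Submodule.span_induction with
  | mem x hx =>
    obtain ⟨e, he, rfl⟩ := hx
    exact h e he
  | zero => rw [Matrix.mulVec_zero]; exact Submodule.zero_mem _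
  | add x y _ _ hx hy => rw [Matrix.mulVec_add]; exact Submodule.add_mem _ hx hy
  | smul a x _ hx => rw [Matrix.mulVec_smul]; exact Submodule.smul_mem _ a hx

/-- vectors of `Pl l` are orthogonal to the vectors orthogonal to the basis -/
theorem hf_Pl {l : List (ℕ × ℕ)} {z : V6} (h : ∀ e ∈ l, hf (dec e.1) z = 0) : ∀ y ∈ Pl l, hf y z = 0 := by
  intro y hy
  unfold Pl at hy
  induction hy using Submodule.span_induction with
  | mem x hx =>
    obtain ⟨e, he, rfl⟩ := hx
    exact h e he
  | zero => exact hermForm_zero_left z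
  | add x y _ _ hx hy => rw [hf, hermForm_add_left]; rw [hf] at hx hy; rw [hx, hy, add_zero]
  | smul a x _ hx => rw [hf, hermForm_smul_left]; rw [hf] at hx; rw [hx, mul_zero]

end Cfsg.Agent.Lib.Helper54.U6
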